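import Mathlib
import Groth.Agent.Lib.Helper67.QFFormal2

set_option autoImplicit false
set_option linter.unusedSectionVars false
set_option linter.style.haveILetI false
universe u
open TensorProduct IsLocalRing

namespace Groth.Agent.Lib.Helper49.FormalFibre

open Groth.Agent.Lib.Helper67.QFFormal

section Main

variable {R R' : Type u} [CommRing R] [CommRing R'] [Algebra R R'] {p' : Ideal R'} [p'.IsPrime]
  {Ah : Type u} [CommRing Ah] [IsLocalRing Ah] [Algebra R Ah]
  {ρ : Ah →ₐ[R] (p'.comap (algebraMap R R')).ResidueField}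
  [IsNoetherianRing R] [IsNoetherianRing R'] [Algebra.FiniteType R R'] [Algebra.QuasiFiniteAt R p']
  [HenselianLocalRing Ah] [IsNoetherianRing Ah] [IsAdicComplete (maximalIdeal Ah) Ah]
  (hker : RingHom.ker ρ.toRingHom = maximalIdeal Ah)
  (hm : maximalIdeal Ah = (p'.comap (algebraMap R R')).map (algebraMap R Ah))

theorem flat_toD [Module.Flat R Ah] :
    letI := (toD R R' p' Ah ρ).toAlgebra
    Module.Flat (Localization.AtPrime p') (D R R' p' Ah ρ) := by
  letI algBD : Algebra (Localization.AtPrime p') (D R R' p' Ah ρ) := (toD R R' p' Ah ρ).toAlgebra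
  letI : Algebra R' (Ah ⊗[R] R') := Algebra.TensorProduct.rightAlgebra
  haveI : IsScalarTower R R' (Ah ⊗[R] R') := Algebra.TensorProduct.right_isScalarTower
  haveI : IsScalarTower R' (Localization.AtPrime p') (D R R' p' Ah ρ) :=
    IsScalarTower.of_algebraMap_eq (fun r' => by
      show _ = toD R R' p' Ah ρ (algebraMap R' (Localization.AtPrime p') r')
      rw [toD_algebraMap]
      rfl)
  rw [Module.flat_iff_of_isLocalization (Localization.AtPrime p') p'.primeCompl]
  haveI h1 : Module.Flat R' (Ah ⊗[R] R') := by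
    have h0 : Module.Flat R' (R' ⊗[R] Ah) := inferInstance
    let e : (R' ⊗[R] Ah) ≃ₐ[R'] (Ah ⊗[R] R') :=
      { Algebra.TensorProduct.comm R R' Ah with
        commutes' := fun r' => by
          show Algebra.TensorProduct.comm R R' Ah (r' ⊗ₜ 1) = 1 ⊗ₜ r'
          simp }
    exact Module.Flat.of_linearEquiv e.toLinearEquiv.symm
  haveI h2 : Module.Flat (Ah ⊗[R] R') (D R R' p' Ah ρ) :=
    IsLocalization.flat _ (q R R' p' Ah ρ).primeCompl
  exact Module.Flat.trans R' (Ah ⊗[R] R') (D R R' p' Ah ρ)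

include hker hm in
theorem exists_equiv [Module.Flat R Ah] :
    ∃ e : D R R' p' Ah ρ ≃+* EGA4.Cpl (Localization.AtPrime p'),
      ∀ c : Localization.AtPrime p', e (toD R R' p' Ah ρ c) =
        algebraMap (Localization.AtPrime p') (EGA4.Cpl (Localization.AtPrime p')) c := by
  letI algBD : Algebra (Localization.AtPrime p') (D R R' p' Ah ρ) := (toD R R' p' Ah ρ).toAlgebra
  haveI : IsLocalHom (algebraMap (Localization.AtPrime p') (D R R' p' Ah ρ)) :=
    inferInstanceAs (IsLocalHom (toD R R' p' Ah ρ))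
  haveI : Module.Flat (Localization.AtPrime p') (D R R' p' Ah ρ) := flat_toD
  haveI hTN : IsNoetherianRing (Ah ⊗[R] R') := Algebra.FiniteType.isNoetherianRing Ah _
  haveI hDN : IsNoetherianRing (D R R' p' Ah ρ) :=
    IsLocalization.isNoetherianRing (q R R' p' Ah ρ).primeCompl _ hTN
  haveI hBN : IsNoetherianRing (Localization.AtPrime p') :=
    IsLocalization.isNoetherianRing p'.primeCompl _ inferInstance
  have hbij : Function.Bijective
      (Groth.Agent.Lib.Helper56.cplMap (Localization.AtPrime p') (D R R' p' Ah ρ)) :=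
    Groth.Agent.Lib.Helper56.cplMap_bijective_of (Localization.AtPrime p') (D R R' p' Ah ρ)
      (map_toD_maximalIdeal hker hm) (fun d => exists_sub_toD_mem R R' p' Ah ρ d)
  haveI := isAdicComplete_D (R := R) (R' := R') (p' := p') (Ah := Ah) (ρ := ρ) hker
  let e1 : EGA4.Cpl (Localization.AtPrime p') ≃+* EGA4.Cpl (D R R' p' Ah ρ) :=
    RingEquiv.ofBijective _ hbij
  let e2 : D R R' p' Ah ρ ≃ₐ[D R R' p' Ah ρ] EGA4.Cpl (D R R' p' Ah ρ) :=
    AdicCompletion.ofAlgEquiv (maximalIdeal (D R R' p' Ah ρ))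
  refine ⟨e2.toRingEquiv.trans e1.symm, fun b => ?_⟩
  show e1.symm (e2 (algebraMap (Localization.AtPrime p') (D R R' p' Ah ρ) b)) = _
  rw [RingEquiv.symm_apply_eq]
  show _ = Groth.Agent.Lib.Helper56.cplMap (Localization.AtPrime p') (D R R' p' Ah ρ)
    (algebraMap (Localization.AtPrime p') (EGA4.Cpl (Localization.AtPrime p')) b)
  rw [Groth.Agent.Lib.Helper56.cplMap_algebraMap]
  rfl

end Main

end Groth.Agent.Lib.Helper49.FormalFibre
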