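import Mathlib
import Groth.Agent.Lib.Helper49.FormalFibre1
import Groth.Agent.Lib.Helper87.HensNoeth
import Groth.Agent.S0543

set_option autoImplicit false
set_option linter.style.haveILetI false
set_option linter.unusedSectionVars false
universe u

namespace Groth.Agent.Lib.Helper49.CplQuot

open TensorProduct IsLocalRing

theorem exists_equiv_loc {S S' : Type u} [CommRing S] [CommRing S'] (ψ : S →+* S')
    (hψ : Function.Surjective ψ) (q : Ideal S) [q.IsPrime] (q' : Ideal S') [q'.IsPrime]
    (hq' : q'.comap ψ = q) :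
    ∃ τ : (Localization.AtPrime q ⧸ (RingHom.ker ψ).map (algebraMap S (Localization.AtPrime q)))
        ≃+* Localization.AtPrime q',
      ∀ x : S, τ (Ideal.Quotient.mk _ (algebraMap S _ x)) = algebraMap S' _ (ψ x) := by
  let g : Localization.AtPrime q →+* Localization.AtPrime q' :=
    Localization.localRingHom q q' ψ hq'.symm
  have hg : ∀ x : S, g (algebraMap S _ x) = algebraMap S' _ (ψ x) := fun x =>
    Localization.localRingHom_to_map _ _ _ _ _
  have hsurj : Function.Surjective g := by
    intro y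
    obtain ⟨⟨s', t'⟩, rfl⟩ := IsLocalization.mk'_surjective q'.primeCompl y
    obtain ⟨s, rfl⟩ := hψ s'
    obtain ⟨t, ht⟩ := hψ t'.1
    have htq : t ∈ q.primeCompl := by
      intro h
      have h' : t ∈ q'.comap ψ := hq' ▸ h
      rw [Ideal.mem_comap, ht] at h'
      exact t'.2 h'
    refine ⟨IsLocalization.mk' _ s ⟨t, htq⟩, ?_⟩
    rw [Localization.localRingHom_mk']
    congr 1
    exact Subtype.ext ht
  have hker : RingHom.ker g = (RingHom.ker ψ).map (algebraMap S (Localization.AtPrime q)) := by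
    apply le_antisymm
    · intro x hx
      obtain ⟨⟨s, t⟩, rfl⟩ := IsLocalization.mk'_surjective q.primeCompl x
      rw [RingHom.mem_ker, Localization.localRingHom_mk', IsLocalization.mk'_eq_zero_iff] at hx
      obtain ⟨m, hm⟩ := hx
      obtain ⟨u, hu⟩ := hψ m.1
      have huq : u ∈ q.primeCompl := by
        intro h
        have h' : u ∈ q'.comap ψ := hq' ▸ h
        rw [Ideal.mem_comap, hu] at h'
        exact m.2 h'
      rw [IsLocalization.mk'_mem_map_algebraMap_iff]
      refine ⟨u, huq, ?_⟩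
      rw [RingHom.mem_ker, map_mul, hu]
      exact hm
    · rw [Ideal.map_le_iff_le_comap]
      intro x hx
      rw [Ideal.mem_comap, RingHom.mem_ker, hg, RingHom.mem_ker.mp hx, map_zero]
  refine ⟨(Ideal.quotEquivOfEq hker.symm).trans (RingHom.quotientKerEquivOfSurjective hsurj),
    fun x => ?_⟩
  show (RingHom.quotientKerEquivOfSurjective hsurj) ((Ideal.quotEquivOfEq hker.symm)
    (Ideal.Quotient.mk _ (algebraMap S _ x))) = _
  rw [Ideal.quotEquivOfEq_mk, RingHom.quotientKerEquivOfSurjective_apply_mk, hg]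

theorem exists_psi {A : Type u} [CommRing A] [IsNoetherianRing A] (r₀ : Ideal A)
    (p' : Ideal (A ⧸ r₀)) [p'.IsPrime] (P : Ideal A) [P.IsPrime]
    (hP : P = p'.comap (algebraMap A (A ⧸ r₀))) :
    ∃ ψ : AdicCompletion (maximalIdeal (Localization.AtPrime P)) (Localization.AtPrime P) →+*
        AdicCompletion (maximalIdeal (Localization.AtPrime p')) (Localization.AtPrime p'),
      Function.Surjective ψ ∧
      RingHom.ker ψ = r₀.map (algebraMap A
        (AdicCompletion (maximalIdeal (Localization.AtPrime P)) (Localization.AtPrime P))) ∧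
      ∀ a : A, ψ (algebraMap A _ a) = algebraMap (Localization.AtPrime p') _
        (algebraMap (A ⧸ r₀) (Localization.AtPrime p') (Ideal.Quotient.mk r₀ a)) := by
  classical
  subst hP
  let p : Ideal A := Ideal.comap (algebraMap A (A ⧸ r₀)) p'
  let Ap := Localization.AtPrime p
  haveI hApN : IsNoetherianRing Ap := IsLocalization.isNoetherianRing p.primeCompl _ inferInstance
  haveI hBN : IsNoetherianRing (A ⧸ r₀) := inferInstance
  let Ah := AdicCompletion (IsLocalRing.maximalIdeal Ap) Ap
  haveI hAhN : IsNoetherianRing Ah := Groth.Agent.S0543.result Ap _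
  haveI : HenselianLocalRing Ah := Groth.Agent.Lib.Helper87.Hens.henselianLocalRing_adicCompletion Ap
  let ρ : Ah →ₐ[A] p.ResidueField :=
    { (AdicCompletion.evalOneₐ (IsLocalRing.maximalIdeal Ap)).toRingHom with
      commutes' := fun r => by
        show AdicCompletion.evalOneₐ (IsLocalRing.maximalIdeal Ap)
          (algebraMap Ap Ah (algebraMap A Ap r)) = _
        rw [AlgHom.commutes]
        rfl }
  have hker : RingHom.ker ρ.toRingHom = IsLocalRing.maximalIdeal Ah := by
    rw [AdicCompletion.maximalIdeal_eq_map,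
      ← AdicCompletion.ker_evalOneₐ_eq_map _ (IsLocalRing.maximalIdeal Ap).fg_of_isNoetherianRing]
    rfl
  have hm : IsLocalRing.maximalIdeal Ah = p.map (algebraMap A Ah) := by
    rw [AdicCompletion.maximalIdeal_eq_map]
    have h1 : IsLocalRing.maximalIdeal Ap = p.map (algebraMap A Ap) :=
      (Localization.AtPrime.map_eq_maximalIdeal (I := p)).symm
    rw [congrArg (Ideal.map (algebraMap Ap Ah)) h1, Ideal.map_map]
    rfl
  haveI : IsScalarTower A Ap Ah := IsScalarTower.of_algebraMap_eq (fun _ => rfl)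
  haveI : Module.Flat Ap Ah := AdicCompletion.flat_of_isNoetherian _
  haveI : Module.Flat A Ah := Module.Flat.trans A Ap Ah
  obtain ⟨e, he⟩ := Groth.Agent.Lib.Helper49.FormalFibre.exists_equiv (R := A) (R' := A ⧸ r₀)
    (p' := p') (Ah := Ah) (ρ := ρ) hker hm
  let T := Ah ⊗[A] (A ⧸ r₀)
  let Dh := Groth.Agent.Lib.Helper67.QFFormal.D A (A ⧸ r₀) p' Ah ρ
  let qq := Groth.Agent.Lib.Helper67.QFFormal.q A (A ⧸ r₀) p' Ah ρ
  let E0 := Algebra.TensorProduct.quotIdealMapEquivTensorQuot Ah r₀
  let incl : Ah →+* T := Algebra.TensorProduct.includeLeftRingHom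
  have hincl_eq : ∀ x : Ah, incl x = E0 (Ideal.Quotient.mk _ x) := fun x => rfl
  have hincl : Function.Surjective incl := by
    intro t
    obtain ⟨y, rfl⟩ := E0.surjective t
    obtain ⟨x, rfl⟩ := Ideal.Quotient.mk_surjective y
    exact ⟨x, rfl⟩
  have hunit : ∀ t : T, t ∉ qq → IsUnit t := by
    intro t ht
    obtain ⟨a, rfl⟩ := hincl t
    have ha : a ∉ maximalIdeal Ah := by
      intro h
      rw [← Groth.Agent.Lib.Helper67.QFFormal.comap_algebraMap_q (R := A) (R' := A ⧸ r₀)
        (p' := p') (Ah := Ah) (ρ := ρ) hker, Ideal.mem_comap] at h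
      exact ht h
    have hau : IsUnit a := by
      by_contra hnu
      exact ha ((mem_maximalIdeal _).mpr hnu)
    exact hau.map incl
  have hTD : Function.Surjective (algebraMap T Dh) := by
    intro d
    obtain ⟨⟨t, s⟩, rfl⟩ := IsLocalization.mk'_surjective qq.primeCompl d
    obtain ⟨u, hu⟩ := hunit s.1 s.2
    refine ⟨t * ((u⁻¹ : Tˣ) : T), ?_⟩
    rw [IsLocalization.eq_mk'_iff_mul_eq, ← map_mul, ← hu, mul_assoc, Units.inv_mul, mul_one]
  let ψ : Ah →+* AdicCompletion (maximalIdeal (Localization.AtPrime p')) (Localization.AtPrime p') :=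
    e.toRingHom.comp ((algebraMap T Dh).comp incl)
  refine ⟨ψ, ?_, ?_, ?_⟩
  · exact e.surjective.comp (hTD.comp hincl)
  · ext x
    rw [RingHom.mem_ker]
    show e (algebraMap T Dh (incl x)) = 0 ↔ _
    rw [map_eq_zero_iff e e.injective, IsLocalization.map_eq_zero_iff qq.primeCompl]
    constructor
    · rintro ⟨m, hm0⟩
      obtain ⟨u, hu⟩ := hunit m.1 m.2
      have h0 : incl x = 0 := by
        rw [← hu] at hm0
        exact (Units.mul_right_eq_zero u).mp hm0
      rw [hincl_eq, map_eq_zero_iff _ E0.injective, Ideal.Quotient.eq_zero_iff_mem] at h0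
      exact h0
    · intro hx
      refine ⟨1, ?_⟩
      rw [hincl_eq, (Ideal.Quotient.eq_zero_iff_mem).mpr hx, map_zero, mul_zero]
  · intro a
    show e (algebraMap T Dh (incl (algebraMap A Ah a))) = _
    have h1 : incl (algebraMap A Ah a) = (1 : Ah) ⊗ₜ[A] (Ideal.Quotient.mk r₀ a) := by
      show (algebraMap A Ah a) ⊗ₜ[A] (1 : A ⧸ r₀) = _
      rw [Algebra.algebraMap_eq_smul_one, TensorProduct.smul_tmul, ← Algebra.algebraMap_eq_smul_one]
      rfl
    rw [h1, ← Groth.Agent.Lib.Helper67.QFFormal.toD_algebraMap, he]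

end Groth.Agent.Lib.Helper49.CplQuot
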