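import Mathlib
import Groth.Prelude.Def_CAlgX
import Groth.Prelude.Def_EGA41
import Groth.Agent.Lib.Helper61.FSLocalTest
set_option autoImplicit false
set_option linter.style.haveILetI false
set_option linter.unusedSectionVars false
universe u
namespace Groth.Agent.Lib.Helper49.ArtTest
open IsLocalRing

theorem isSimpleModule_span {T : Type*} [CommRing T] [IsLocalRing T] (t : T) (ht : t ≠ 0)
    (hm : ∀ a ∈ maximalIdeal T, a * t = 0) : IsSimpleModule T (Ideal.span {t}) := by
  rw [isSimpleModule_iff_toSpanSingleton_surjective]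
  refine ⟨⟨⟨⟨t, Ideal.subset_span rfl⟩, 0, fun h => ht (congrArg Subtype.val h)⟩⟩, ?_⟩
  rintro ⟨x, hx⟩ hx0
  obtain ⟨a, rfl⟩ := Ideal.mem_span_singleton'.mp hx
  have hau : IsUnit a := by
    by_contra hna
    apply hx0
    apply Subtype.ext
    exact hm a hna
  obtain ⟨b, hb⟩ := hau.exists_left_inv
  rintro ⟨y, hy⟩
  obtain ⟨c, rfl⟩ := Ideal.mem_span_singleton'.mp hy
  refine ⟨c * b, Subtype.ext ?_⟩
  change (c * b) • (a * t) = c * t
  rw [smul_eq_mul, mul_assoc, ← mul_assoc b a t, hb, one_mul]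

theorem exists_isCompl_of_torsion {P : Type*} [CommRing P] (𝔐 : Ideal P) [h𝔐 : 𝔐.IsMaximal]
    {M : Type*} [AddCommGroup M] [Module P M] (hM : ∀ a ∈ 𝔐, ∀ x : M, a • x = 0)
    (p : Submodule P M) : ∃ q : Submodule P M, IsCompl p q := by
  have hM' : Module.IsTorsionBySet P M 𝔐 := fun x a => hM a.1 a.2 x
  letI : Field (P ⧸ 𝔐) := Ideal.Quotient.field 𝔐
  letI := hM'.module
  have hss : IsSemisimpleModule P M := hM'.isSemisimpleModule_iff.mp inferInstance
  exact exists_isCompl p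

theorem isArtinianRing_of_ker_span {T D : Type*} [CommRing T] [IsLocalRing T] [CommRing D]
    [IsArtinianRing D] (π : T →+* D) (hπ : Function.Surjective π) (t : T)
    (hker : RingHom.ker π = Ideal.span {t}) (hm : ∀ a ∈ maximalIdeal T, a * t = 0) :
    IsArtinianRing T := by
  letI : Algebra T D := π.toAlgebra
  have h1 : IsArtinian T D := isArtinian_of_surjective_algebraMap (R := D) (M := D) hπ
  have h2 : IsArtinian T (Ideal.span {t}) := by
    by_cases ht : t = 0
    · have : Subsingleton (Ideal.span {t}) := by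
        rw [ht, Ideal.span_singleton_zero]
        exact ⟨fun a b => Subtype.ext ((Ideal.mem_bot.mp a.2).trans (Ideal.mem_bot.mp b.2).symm)⟩
      infer_instance
    · have := isSimpleModule_span t ht hm
      infer_instance
  refine isArtinian_of_range_eq_ker (Ideal.span {t} : Submodule T T).subtype
    (Algebra.linearMap T D) ?_
  rw [Submodule.range_subtype]
  ext x
  rw [← hker]
  rfl

def SmallS (R S : Type u) [CommRing R] [CommRing S] [Algebra R S] : Prop :=
  ∀ (A D : Type u) [CommRing A] [CommRing D] [IsLocalRing A] [IsArtinianRing A] [Algebra R A]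
    [Algebra R D] [IsLocalHom (algebraMap R A)] (π : A →ₐ[R] D), Function.Surjective π →
    ∀ t : A, t ≠ 0 → t ∈ maximalIdeal A → (∀ a ∈ maximalIdeal A, a * t = 0) →
    RingHom.ker π = Ideal.span {t} →
    ∀ ψ : S →ₐ[R] D, Function.Surjective ψ → ∃ χ : S →ₐ[R] A, π.comp χ = ψ

section stepA

variable {R : Type u} [CommRing R] {T D : Type u} [CommRing T] [CommRing D] [Algebra R T]
  [Algebra R D] (π : T →ₐ[R] D)

def Idx : Type u :=
  {x : Submodule T (RingHom.ker π) × (RingHom.ker π) //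
    x.2 ∉ x.1 ∧ x.1 ⊔ Submodule.span T {x.2} = ⊤}

def Nid (i : Idx π) : Ideal T := Submodule.map (Submodule.subtype (RingHom.ker π)) i.1.1

theorem Nid_le (i : Idx π) : Nid π i ≤ RingHom.ker π := by
  rintro x ⟨y, -, rfl⟩
  exact y.2

theorem coe_mem_Nid (i : Idx π) (v : RingHom.ker π) : (v : T) ∈ Nid π i ↔ v ∈ i.1.1 := by
  constructor
  · rintro ⟨y, hy, hyv⟩
    have : y = v := Subtype.ext hyv
    rwa [← this]
  · intro h
    exact ⟨v, h, rfl⟩

noncomputable def piq (i : Idx π) : (T ⧸ Nid π i) →ₐ[R] D :=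
  Ideal.Quotient.liftₐ (Nid π i) π (fun x hx => RingHom.mem_ker.mp (Nid_le π i hx))

theorem piq_mk (i : Idx π) (a : T) : piq π i (Ideal.Quotient.mk _ a) = π a := rfl

noncomputable def Pr : Subalgebra R (D × (∀ i : Idx π, T ⧸ Nid π i)) where
  carrier := {p | ∀ i, piq π i (p.2 i) = p.1}
  mul_mem' := by
    intro p p' hp hp' i
    simp only [Prod.snd_mul, Prod.fst_mul, Pi.mul_apply, map_mul, hp i, hp' i]
  add_mem' := by
    intro p p' hp hp' i
    simp only [Prod.snd_add, Prod.fst_add, Pi.add_apply, map_add, hp i, hp' i]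
  algebraMap_mem' := by
    intro r i
    simp only [Prod.algebraMap_apply, Pi.algebraMap_apply, AlgHom.commutes]

noncomputable def iotaT : T →ₐ[R] Pr π :=
  AlgHom.codRestrict (AlgHom.prod π (Pi.algHom R _ (fun i => Ideal.Quotient.mkₐ R (Nid π i))))
    (Pr π) (fun _ _ => rfl)

noncomputable def pr1 : Pr π →ₐ[R] D := (AlgHom.fst R D _).comp (Pr π).val

theorem pr1_iotaT (a : T) : pr1 π (iotaT π a) = π a := rfl

theorem iotaT_snd (a : T) (i : Idx π) : (iotaT π a).1.2 i = Ideal.Quotient.mk _ a := rfl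

theorem pr1_eq (p : Pr π) : pr1 π p = p.1.1 := rfl

theorem exists_decomp (hπ : Function.Surjective π) (p : Pr π) :
    ∃ a : T, p - iotaT π a ∈ RingHom.ker (pr1 π) := by
  obtain ⟨a, ha⟩ := hπ (pr1 π p)
  exact ⟨a, by rw [RingHom.mem_ker, map_sub, pr1_iotaT, ha, sub_self]⟩

theorem snd_mem_ker (w : Pr π) (hw : w ∈ RingHom.ker (pr1 π)) (i : Idx π) :
    ∃ v ∈ RingHom.ker π, w.1.2 i = Ideal.Quotient.mk _ v := by
  obtain ⟨a, ha⟩ := Ideal.Quotient.mk_surjective (w.1.2 i)
  refine ⟨a, ?_, ha.symm⟩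
  have h1 : piq π i (w.1.2 i) = w.1.1 := w.2 i
  have h2 : w.1.1 = 0 := hw
  rw [RingHom.mem_ker, ← piq_mk π i a, ha, h1, h2]

end stepA

end Groth.Agent.Lib.Helper49.ArtTest
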