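import Mathlib
import Groth.Agent.Lib.Helper49.ArtTest1
set_option autoImplicit false
set_option linter.style.haveILetI false
set_option linter.unusedSectionVars false
universe u
namespace Groth.Agent.Lib.Helper49.ArtTest
open IsLocalRing

section stepA2

variable {R : Type u} [CommRing R] {T D : Type u} [CommRing T] [CommRing D] [Algebra R T]
  [Algebra R D] (π : T →ₐ[R] D) [IsLocalRing T]

theorem ker_mul_ker (hV : ∀ a ∈ maximalIdeal T, ∀ v ∈ RingHom.ker π, a * v = 0)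
    (hne : RingHom.ker π ≠ ⊤) (v : T) (hv : v ∈ RingHom.ker π) (v' : T)
    (hv' : v' ∈ RingHom.ker π) : v * v' = 0 :=
  hV v (le_maximalIdeal hne hv) v' hv'

theorem W_mul_W (hV : ∀ a ∈ maximalIdeal T, ∀ v ∈ RingHom.ker π, a * v = 0)
    (hne : RingHom.ker π ≠ ⊤) (w w' : Pr π) (hw : w ∈ RingHom.ker (pr1 π))
    (hw' : w' ∈ RingHom.ker (pr1 π)) : w * w' = 0 := by
  apply Subtype.ext
  apply Prod.ext
  · change w.1.1 * w'.1.1 = 0
    rw [show w.1.1 = 0 from hw, zero_mul]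
  · funext i
    obtain ⟨v, hv, e⟩ := snd_mem_ker π w hw i
    obtain ⟨v', hv', e'⟩ := snd_mem_ker π w' hw' i
    change w.1.2 i * w'.1.2 i = 0
    rw [e, e', ← map_mul, ker_mul_ker π hV hne v hv v' hv', map_zero]

theorem M_mul_W [IsLocalRing D] (hV : ∀ a ∈ maximalIdeal T, ∀ v ∈ RingHom.ker π, a * v = 0)
    (p : Pr π) (hp : pr1 π p ∈ maximalIdeal D) (w : Pr π) (hw : w ∈ RingHom.ker (pr1 π)) :
    p * w = 0 := by
  apply Subtype.ext
  apply Prod.ext
  · change p.1.1 * w.1.1 = 0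
    rw [show w.1.1 = 0 from hw, mul_zero]
  · funext i
    obtain ⟨v, hv, e⟩ := snd_mem_ker π w hw i
    obtain ⟨a, ha⟩ := Ideal.Quotient.mk_surjective (p.1.2 i)
    have h1 : π a = pr1 π p := by
      rw [← piq_mk π i a, ha]
      exact p.2 i
    have h2 : a ∈ maximalIdeal T := by
      by_contra hna
      have hu : IsUnit a := by
        rw [mem_maximalIdeal, mem_nonunits_iff, not_not] at hna
        exact hna
      have h3 : IsUnit (π a) := hu.map π
      rw [h1] at h3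
      exact hp h3
    change p.1.2 i * w.1.2 i = 0
    rw [← ha, e, ← map_mul, hV a h2 v hv, map_zero]

theorem iotaT_injective (hV : ∀ a ∈ maximalIdeal T, ∀ v ∈ RingHom.ker π, a * v = 0) :
    Function.Injective (iotaT π) := by
  rw [injective_iff_map_eq_zero]
  intro a ha
  have h1 : π a = 0 := by
    have := congrArg (pr1 π) ha
    rwa [pr1_iotaT, map_zero] at this
  by_contra hne0
  let v : RingHom.ker π := ⟨a, h1⟩
  have hv0 : v ≠ 0 := fun h => hne0 (congrArg Subtype.val h)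
  obtain ⟨q, hq⟩ := exists_isCompl_of_torsion (maximalIdeal T) (M := RingHom.ker π)
    (fun b hb x => Subtype.ext (hV b hb x.1 x.2)) (Submodule.span T {v})
  have hvq : v ∉ q := by
    intro h
    have h2 : v ∈ Submodule.span T {v} ⊓ q := ⟨Submodule.subset_span rfl, h⟩
    rw [hq.inf_eq_bot] at h2
    exact hv0 ((Submodule.mem_bot T).mp h2)
  let i : Idx π := ⟨(q, v), hvq, by rw [sup_comm]; exact hq.sup_eq_top⟩
  have h2 : (iotaT π a).1.2 i = 0 := by
    rw [ha]
    rfl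
  rw [iotaT_snd, Ideal.Quotient.eq_zero_iff_mem] at h2
  exact hvq ((coe_mem_Nid π i v).mp h2)

theorem ker_piq (hπ : Function.Surjective π) (i : Idx π) :
    RingHom.ker (piq π i) = Ideal.span {Ideal.Quotient.mk (Nid π i) (i.1.2 : T)} := by
  ext x
  obtain ⟨a, rfl⟩ := Ideal.Quotient.mk_surjective x
  rw [RingHom.mem_ker, piq_mk, Ideal.mem_span_singleton']
  constructor
  · intro h
    have h1 : (⟨a, h⟩ : RingHom.ker π) ∈ i.1.1 ⊔ Submodule.span T {i.1.2} := by
      rw [i.2.2]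
      trivial
    obtain ⟨y, hy, z, hz, hyz⟩ := Submodule.mem_sup.mp h1
    obtain ⟨b, rfl⟩ := Submodule.mem_span_singleton.mp hz
    refine ⟨Ideal.Quotient.mk _ b, ?_⟩
    have h2 : a = (y : T) + b * (i.1.2 : T) := by
      have := congrArg Subtype.val hyz
      exact this.symm
    rw [h2, map_add, map_mul]
    have h3 : Ideal.Quotient.mk (Nid π i) (y : T) = 0 := by
      rw [Ideal.Quotient.eq_zero_iff_mem, coe_mem_Nid]
      exact hy
    rw [h3, zero_add]
  · rintro ⟨c, hc⟩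
    obtain ⟨b, rfl⟩ := Ideal.Quotient.mk_surjective c
    rw [← map_mul] at hc
    have h1 : π (b * (i.1.2 : T)) = π a := by
      rw [← piq_mk π i, ← piq_mk π i a, hc]
    rw [← h1, map_mul, RingHom.mem_ker.mp i.1.2.2, mul_zero]

theorem exists_family {S : Type u} [CommRing S] [Algebra R S] [IsLocalRing D]
    [IsLocalHom (algebraMap R T)] [IsArtinianRing D]
    (hsmall : SmallS R S) (hπ : Function.Surjective π)
    (hV : ∀ a ∈ maximalIdeal T, ∀ v ∈ RingHom.ker π, a * v = 0)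
    (u : S →ₐ[R] D) (hu : Function.Surjective u) (i : Idx π) :
    ∃ χ : S →ₐ[R] T ⧸ Nid π i, (piq π i).comp χ = u := by
  have hne : RingHom.ker π ≠ ⊤ := RingHom.ker_ne_top _
  have hNne : Nid π i ≠ ⊤ := fun h => hne (top_le_iff.mp (h ▸ Nid_le π i))
  haveI : Nontrivial (T ⧸ Nid π i) := Ideal.Quotient.nontrivial_iff.mpr hNne
  haveI : IsLocalRing (T ⧸ Nid π i) :=
    IsLocalRing.of_surjective' (Ideal.Quotient.mk _) Ideal.Quotient.mk_surjective
  haveI hloc : IsLocalHom (Ideal.Quotient.mk (Nid π i)) :=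
    IsLocalHom.of_surjective _ Ideal.Quotient.mk_surjective
  haveI : IsLocalHom (algebraMap R (T ⧸ Nid π i)) := by
    have : algebraMap R (T ⧸ Nid π i) = (Ideal.Quotient.mk (Nid π i)).comp (algebraMap R T) := rfl
    rw [this]
    exact RingHom.isLocalHom_comp _ _
  have ht0 : Ideal.Quotient.mk (Nid π i) (i.1.2 : T) ≠ 0 := by
    rw [Ne, Ideal.Quotient.eq_zero_iff_mem, coe_mem_Nid]
    exact i.2.1
  have hmt : ∀ a ∈ maximalIdeal (T ⧸ Nid π i),
      a * Ideal.Quotient.mk (Nid π i) (i.1.2 : T) = 0 := by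
    intro a' ha'
    obtain ⟨a, rfl⟩ := Ideal.Quotient.mk_surjective a'
    have h2 : a ∈ maximalIdeal T := by
      by_contra hna
      rw [mem_maximalIdeal, mem_nonunits_iff, not_not] at hna
      exact ha' (hna.map _)
    rw [← map_mul, hV a h2 _ i.1.2.2, map_zero]
  have htm : Ideal.Quotient.mk (Nid π i) (i.1.2 : T) ∈ maximalIdeal (T ⧸ Nid π i) :=
    map_nonunit (Ideal.Quotient.mk (Nid π i)) _ (le_maximalIdeal hne i.1.2.2)
  have hsurj : Function.Surjective (piq π i) := fun d => by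
    obtain ⟨a, rfl⟩ := hπ d
    exact ⟨Ideal.Quotient.mk _ a, rfl⟩
  haveI : IsArtinianRing (T ⧸ Nid π i) :=
    isArtinianRing_of_ker_span (piq π i).toRingHom hsurj _ (ker_piq π hπ i) hmt
  exact hsmall (T ⧸ Nid π i) D (piq π i) hsurj _ ht0 htm hmt (ker_piq π hπ i) u hu

theorem lift_vs {S : Type u} [CommRing S] [Algebra R S] [IsLocalRing D]
    [IsLocalHom (algebraMap R T)] [IsArtinianRing D]
    (hsmall : SmallS R S) (hπ : Function.Surjective π)
    (hV : ∀ a ∈ maximalIdeal T, ∀ v ∈ RingHom.ker π, a * v = 0)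
    (u : S →ₐ[R] D) (hu : Function.Surjective u) : ∃ χ : S →ₐ[R] T, π.comp χ = u := by
  classical
  have hne : RingHom.ker π ≠ ⊤ := RingHom.ker_ne_top _
  choose χ hχ using exists_family π hsmall hπ hV u hu
  let ξ : S →ₐ[R] Pr π := AlgHom.codRestrict (AlgHom.prod u (Pi.algHom R _ χ)) (Pr π)
    (fun s i => DFunLike.congr_fun (hχ i) s)
  have hξ : ∀ s, pr1 π (ξ s) = u s := fun s => rfl
  have hpr1surj : Function.Surjective (pr1 π) := fun d => by
    obtain ⟨a, rfl⟩ := hπ d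
    exact ⟨iotaT π a, rfl⟩
  let W : Ideal (Pr π) := RingHom.ker (pr1 π)
  let 𝔐 : Ideal (Pr π) := Ideal.comap (pr1 π) (maximalIdeal D)
  haveI h𝔐 : 𝔐.IsMaximal := Ideal.comap_isMaximal_of_surjective (pr1 π) hpr1surj
  let V' : Submodule (Pr π) W :=
    { carrier := {w | ∃ v ∈ RingHom.ker π, iotaT π v = w.1}
      add_mem' := by
        rintro w w' ⟨v, hv, e⟩ ⟨v', hv', e'⟩
        exact ⟨v + v', add_mem hv hv', by rw [map_add, e, e']; rfl⟩
      zero_mem' := ⟨0, zero_mem _, by rw [map_zero]; rfl⟩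
      smul_mem' := by
        rintro p w ⟨v, hv, e⟩
        obtain ⟨a, ha⟩ := exists_decomp π hπ p
        refine ⟨a * v, Ideal.mul_mem_left _ _ hv, ?_⟩
        change _ = p * w.1
        have h3 : (p - iotaT π a) * w.1 = 0 := W_mul_W π hV hne _ _ ha w.2
        rw [map_mul, e]
        linear_combination (-1 : Pr π) * h3 }
  obtain ⟨q, hq⟩ := exists_isCompl_of_torsion 𝔐 (M := W)
    (fun p hp w => Subtype.ext (M_mul_W π hV p hp w.1 w.2)) V'
  let N : Ideal (Pr π) := Submodule.map (Submodule.subtype W) q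
  have hNW : N ≤ W := by
    rintro x ⟨y, -, rfl⟩
    exact y.2
  let e₀ : T →ₐ[R] (Pr π ⧸ N) := (Ideal.Quotient.mkₐ R N).comp (iotaT π)
  have he₀ : ∀ a, e₀ a = Ideal.Quotient.mk N (iotaT π a) := fun a => rfl
  have hinj : Function.Injective e₀ := by
    rw [injective_iff_map_eq_zero]
    intro a ha
    rw [he₀, Ideal.Quotient.eq_zero_iff_mem] at ha
    obtain ⟨w, hwq, hw⟩ := ha
    have h1 : π a = 0 := by
      have h2 : iotaT π a ∈ W := by
        rw [← hw]
        exact w.2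
      exact h2
    have h3 : w ∈ V' := ⟨a, h1, hw.symm⟩
    have h4 : w ∈ V' ⊓ q := ⟨h3, hwq⟩
    rw [hq.inf_eq_bot] at h4
    have h5 : w = 0 := (Submodule.mem_bot _).mp h4
    have h6 : iotaT π a = 0 := by
      rw [← hw, h5]
      rfl
    exact iotaT_injective π hV (h6.trans (map_zero _).symm)
  have hsurj : Function.Surjective e₀ := by
    intro y
    obtain ⟨p, rfl⟩ := Ideal.Quotient.mk_surjective y
    obtain ⟨a, ha⟩ := exists_decomp π hπ p
    have h1 : (⟨p - iotaT π a, ha⟩ : W) ∈ V' ⊔ q := by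
      rw [hq.sup_eq_top]
      trivial
    obtain ⟨w₁, hw₁, w₂, hw₂, h12⟩ := Submodule.mem_sup.mp h1
    obtain ⟨v, hv, hvw⟩ := hw₁
    refine ⟨a + v, ?_⟩
    rw [he₀, Ideal.Quotient.eq]
    have h2 : (w₁ : Pr π) + (w₂ : Pr π) = p - iotaT π a := congrArg Subtype.val h12
    have h3 : iotaT π (a + v) - p = - (w₂ : Pr π) := by
      rw [map_add, hvw]
      linear_combination h2
    rw [h3]
    exact N.neg_mem ⟨w₂, hw₂, rfl⟩
  let e : T ≃ₐ[R] (Pr π ⧸ N) := AlgEquiv.ofBijective e₀ ⟨hinj, hsurj⟩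
  let prbar : (Pr π ⧸ N) →ₐ[R] D := Ideal.Quotient.liftₐ N (pr1 π) (fun x hx => hNW hx)
  have key : ∀ y, π (e.symm y) = prbar y := by
    intro y
    obtain ⟨a, rfl⟩ := e.surjective y
    rw [e.symm_apply_apply]
    rfl
  refine ⟨(e.symm : (Pr π ⧸ N) →ₐ[R] T).comp ((Ideal.Quotient.mkₐ R N).comp ξ), ?_⟩
  ext s
  change π (e.symm (Ideal.Quotient.mk N (ξ s))) = u s
  rw [key]
  rfl

end stepA2

end Groth.Agent.Lib.Helper49.ArtTest
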