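import Mathlib
import Groth.Agent.Lib.Helper49.ArtTest2
set_option autoImplicit false
set_option linter.style.haveILetI false
set_option linter.unusedSectionVars false
universe u
namespace Groth.Agent.Lib.Helper49.ArtTest
open IsLocalRing Groth.Agent.Lib.Helper61.FSAdic Groth.Agent.Lib.Helper61.FSLocalTest

section stepB

variable {R S : Type u} [CommRing R] [CommRing S] [IsLocalRing R] [IsLocalRing S]
  [IsNoetherianRing S] [Algebra R S] [IsLocalHom (algebraMap R S)]

theorem isArtinianRing_quot_pow (k : ℕ) [Nontrivial (S ⧸ maximalIdeal S ^ (k + 1))]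
    [IsLocalRing (S ⧸ maximalIdeal S ^ (k + 1))] :
    IsArtinianRing (S ⧸ maximalIdeal S ^ (k + 1)) := by
  rw [isArtinianRing_iff_isNilpotent_maximalIdeal]
  refine ⟨k + 1, ?_⟩
  have h2 : maximalIdeal (S ⧸ maximalIdeal S ^ (k + 1)) ≤
      (maximalIdeal S).map (Ideal.Quotient.mk (maximalIdeal S ^ (k + 1))) := by
    intro y hy
    obtain ⟨s, rfl⟩ := Ideal.Quotient.mk_surjective y
    apply Ideal.mem_map_of_mem
    rw [mem_maximalIdeal, mem_nonunits_iff]
    intro hs
    exact hy (hs.map _)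
  rw [Ideal.zero_eq_bot, eq_bot_iff]
  calc maximalIdeal (S ⧸ maximalIdeal S ^ (k + 1)) ^ (k + 1)
      ≤ ((maximalIdeal S).map (Ideal.Quotient.mk (maximalIdeal S ^ (k + 1)))) ^ (k + 1) :=
        Ideal.pow_right_mono h2 _
    _ = ⊥ := by rw [← Ideal.map_pow, Ideal.map_quotient_self]

theorem lift_gen (hsmall : SmallS R S) {C D : Type u} [CommRing C] [CommRing D] [Algebra R C]
    [Algebra R D] (π : C →ₐ[R] D) (hπ : Function.Surjective π)
    (hsq : ∀ v ∈ RingHom.ker π, ∀ w ∈ RingHom.ker π, v * w = 0)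
    (u : S →ₐ[R] D) (k : ℕ) (hk : ∀ x ∈ maximalIdeal S ^ k, u x = 0)
    (hm : ∀ x ∈ maximalIdeal S, ∀ c : C, π c = u x → ∀ v ∈ RingHom.ker π, c * v = 0) :
    ∃ χ : S →ₐ[R] C, π.comp χ = u := by
  classical
  set 𝔫k : Ideal S := maximalIdeal S ^ (k + 1) with h𝔫k
  have h𝔫k_le : 𝔫k ≤ maximalIdeal S := Ideal.pow_le_self (Nat.succ_ne_zero k)
  haveI : Nontrivial (S ⧸ 𝔫k) := Ideal.Quotient.nontrivial_iff.mpr (fun h => by
    have : maximalIdeal S = ⊤ := top_le_iff.mp (h ▸ h𝔫k_le)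
    exact (maximalIdeal.isMaximal S).ne_top this)
  haveI : IsLocalRing (S ⧸ 𝔫k) := IsLocalRing.of_surjective' _ Ideal.Quotient.mk_surjective
  haveI : IsArtinianRing (S ⧸ 𝔫k) := isArtinianRing_quot_pow k
  have hk' : ∀ x ∈ 𝔫k, u.toRingHom x = 0 := fun x hx =>
    hk x (Ideal.pow_le_pow_right (Nat.le_succ k) hx)
  let ū : S ⧸ 𝔫k →+* D := Ideal.Quotient.lift 𝔫k u.toRingHom hk'
  have hū : ∀ s : S, ū (Ideal.Quotient.mk 𝔫k s) = u s := fun s => rfl
  let p : C →+* D := π.toRingHom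
  have hp : Function.Surjective p := hπ
  have hkerp : RingHom.ker p ^ 2 = ⊥ := by
    rw [eq_bot_iff, pow_two, Ideal.mul_le]
    intro x hx y hy
    rw [Ideal.mem_bot]
    exact hsq x hx y hy
  let A := Pull p ū
  let pr : A →+* S ⧸ 𝔫k := Pull.pr₂ p ū
  have hprs : Function.Surjective pr := Pull.pr₂_surjective p ū hp
  have hkerpr : RingHom.ker pr ^ 2 = ⊥ := Pull.ker_pr₂_sq p ū hkerp
  haveI hprloc : IsLocalHom pr := isLocalHom_of_ker_sq pr hprs hkerpr
  haveI : IsLocalRing A := pr.domain_isLocalRing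
  let ρ : R →+* A := Pull.lift p ū (algebraMap R C) (algebraMap R (S ⧸ 𝔫k)) (by
    ext r
    change p (algebraMap R C r) = ū (Ideal.Quotient.mk 𝔫k (algebraMap R S r))
    rw [hū, AlgHom.commutes]
    exact π.commutes r)
  letI : Algebra R A := ρ.toAlgebra
  have hρ₁ : ∀ r, Pull.pr₁ p ū (algebraMap R A r) = algebraMap R C r := fun r => rfl
  have hρ₂ : ∀ r, pr (algebraMap R A r) = algebraMap R (S ⧸ 𝔫k) r := fun r => rfl
  haveI hmkloc : IsLocalHom (Ideal.Quotient.mk 𝔫k) :=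
    IsLocalHom.of_surjective _ Ideal.Quotient.mk_surjective
  haveI : IsLocalHom (algebraMap R A) := by
    constructor
    intro r hr
    have h1 : IsUnit (pr (algebraMap R A r)) := hr.map pr
    rw [hρ₂] at h1
    have h2 : IsUnit (algebraMap R S r) := IsLocalHom.map_nonunit (f := Ideal.Quotient.mk 𝔫k) _ h1
    exact IsLocalHom.map_nonunit (f := algebraMap R S) _ h2
  let πT : A →ₐ[R] S ⧸ 𝔫k := { pr with commutes' := hρ₂ }
  have hπT : ∀ a, πT a = pr a := fun a => rfl
  have hV : ∀ a ∈ maximalIdeal A, ∀ v ∈ RingHom.ker πT, a * v = 0 := by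
    intro a ha v hv
    have hv' : pr v = 0 := hv
    obtain ⟨s, hs⟩ := Ideal.Quotient.mk_surjective (pr a)
    have hsm : s ∈ maximalIdeal S := by
      by_contra hns
      rw [mem_maximalIdeal, mem_nonunits_iff, not_not] at hns
      have h1 : IsUnit (pr a) := by
        rw [← hs]
        exact hns.map _
      exact ha (IsLocalHom.map_nonunit (f := pr) a h1)
    have h1 : π (Pull.pr₁ p ū a) = u s := by
      change p (Pull.pr₁ p ū a) = u s
      rw [Pull.comm, ← hū, hs]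
    have h2 : Pull.pr₁ p ū v ∈ RingHom.ker π := by
      change p (Pull.pr₁ p ū v) = 0
      rw [Pull.comm]
      change ū (pr v) = 0
      rw [hv', map_zero]
    apply Pull.ext
    · rw [map_mul, map_zero]
      exact hm s hsm _ h1 _ h2
    · rw [map_mul, map_zero]
      change pr a * pr v = 0
      rw [hv', mul_zero]
  obtain ⟨χT, hχT⟩ := lift_vs πT hsmall hprs hV (Ideal.Quotient.mkₐ R 𝔫k)
    Ideal.Quotient.mk_surjective
  have hχpr : ∀ s, pr (χT s) = Ideal.Quotient.mk 𝔫k s := fun s => DFunLike.congr_fun hχT s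
  let v : S →ₐ[R] C :=
    { (Pull.pr₁ p ū).comp χT.toRingHom with
      commutes' := fun r => by
        change Pull.pr₁ p ū (χT (algebraMap R S r)) = _
        rw [χT.commutes, hρ₁] }
  refine ⟨v, AlgHom.ext fun s => ?_⟩
  change p (Pull.pr₁ p ū (χT s)) = u s
  rw [Pull.comm]
  change ū (pr (χT s)) = u s
  rw [hχpr, hū]

end stepB

end Groth.Agent.Lib.Helper49.ArtTest
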