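import Mathlib
import Groth.Agent.Lib.Helper49.ArtTest3
set_option autoImplicit false
set_option linter.style.haveILetI false
set_option linter.unusedSectionVars false
universe u
namespace Groth.Agent.Lib.Helper49.ArtTest
open IsLocalRing Groth.Agent.Lib.Helper61.FSAdic Groth.Agent.Lib.Helper61.FSLocalTest

section stepC

variable {R S : Type u} [CommRing R] [CommRing S] [IsLocalRing R] [IsLocalRing S]
  [IsNoetherianRing S] [Algebra R S] [IsLocalHom (algebraMap R S)]

theorem lift_filt (hsmall : SmallS R S) : ∀ (j : ℕ) (C D : Type u) [CommRing C] [CommRing D]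
    [Algebra R C] [Algebra R D] (π : C →ₐ[R] D), Function.Surjective π →
    (∀ v ∈ RingHom.ker π, ∀ w ∈ RingHom.ker π, v * w = 0) →
    ∀ (u : S →ₐ[R] D) (k : ℕ), (∀ x ∈ maximalIdeal S ^ k, u x = 0) →
    (Ideal.comap π ((maximalIdeal S).map u)) ^ j * RingHom.ker π = ⊥ →
    ∃ χ : S →ₐ[R] C, π.comp χ = u := by
  intro j
  induction j with
  | zero =>
    intro C D _ _ _ _ π hπ hsq u k hk h0
    rw [pow_zero, Ideal.one_eq_top, Ideal.top_mul] at h0
    have hinj : Function.Injective π := (RingHom.injective_iff_ker_eq_bot (π : C →+* D)).mpr h0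
    let e : C ≃ₐ[R] D := AlgEquiv.ofBijective π ⟨hinj, hπ⟩
    refine ⟨(e.symm : D →ₐ[R] C).comp u, AlgHom.ext fun s => ?_⟩
    change e (e.symm (u s)) = u s
    exact e.apply_symm_apply _
  | succ j ih =>
    intro C D _ _ _ _ π hπ hsq u k hk hj
    set 𝔪' : Ideal C := Ideal.comap π ((maximalIdeal S).map u) with h𝔪'
    set N : Ideal C := RingHom.ker π with hN
    set N₁ : Ideal C := 𝔪' ^ j * N with hN₁
    have hN₁N : N₁ ≤ N := Ideal.mul_le_right
    let π₁ : (C ⧸ N₁) →ₐ[R] D :=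
      Ideal.Quotient.liftₐ N₁ π (fun x hx => RingHom.mem_ker.mp (hN₁N hx))
    have hπ₁ : ∀ c : C, π₁ (Ideal.Quotient.mk N₁ c) = π c := fun c => rfl
    have hπ₁s : Function.Surjective π₁ := fun d => by
      obtain ⟨c, rfl⟩ := hπ d
      exact ⟨Ideal.Quotient.mk N₁ c, rfl⟩
    have hker₁ : ∀ x ∈ RingHom.ker π₁, ∃ c ∈ N, Ideal.Quotient.mk N₁ c = x := by
      intro x hx
      obtain ⟨c, rfl⟩ := Ideal.Quotient.mk_surjective x
      exact ⟨c, by rwa [RingHom.mem_ker, hπ₁] at hx, rfl⟩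
    have hsq₁ : ∀ v ∈ RingHom.ker π₁, ∀ w ∈ RingHom.ker π₁, v * w = 0 := by
      intro v hv w hw
      obtain ⟨a, ha, rfl⟩ := hker₁ v hv
      obtain ⟨b, hb, rfl⟩ := hker₁ w hw
      rw [← map_mul, hsq a ha b hb, map_zero]
    have hj₁ : (Ideal.comap π₁ ((maximalIdeal S).map u)) ^ j * RingHom.ker π₁ = ⊥ := by
      have h1 : Ideal.comap π₁ ((maximalIdeal S).map u) ≤ 𝔪'.map (Ideal.Quotient.mk N₁) := by
        intro x hx
        obtain ⟨c, rfl⟩ := Ideal.Quotient.mk_surjective x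
        rw [Ideal.mem_comap, hπ₁] at hx
        exact Ideal.mem_map_of_mem _ hx
      have h2 : RingHom.ker π₁ ≤ N.map (Ideal.Quotient.mk N₁) := by
        intro x hx
        obtain ⟨c, hc, rfl⟩ := hker₁ x hx
        exact Ideal.mem_map_of_mem _ hc
      rw [eq_bot_iff]
      calc (Ideal.comap π₁ ((maximalIdeal S).map u)) ^ j * RingHom.ker π₁
          ≤ (𝔪'.map (Ideal.Quotient.mk N₁)) ^ j * N.map (Ideal.Quotient.mk N₁) :=
            Ideal.mul_mono (Ideal.pow_right_mono h1 j) h2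
        _ = N₁.map (Ideal.Quotient.mk N₁) := by rw [← Ideal.map_pow, ← Ideal.map_mul]
        _ = ⊥ := Ideal.map_quotient_self N₁
    obtain ⟨χ₁, hχ₁⟩ := ih (C ⧸ N₁) D π₁ hπ₁s hsq₁ u k hk hj₁
    have hχ₁' : ∀ s, π₁ (χ₁ s) = u s := fun s => DFunLike.congr_fun hχ₁ s
    have hkermk : RingHom.ker (Ideal.Quotient.mkₐ R N₁) = N₁ := Ideal.Quotient.mkₐ_ker R N₁
    have hk₁ : ∀ x ∈ maximalIdeal S ^ (k + k), χ₁ x = 0 := by
      have h1 : maximalIdeal S ^ (k + k) ≤ RingHom.ker χ₁ := by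
        rw [pow_add, Ideal.mul_le]
        intro a ha b hb
        rw [RingHom.mem_ker, map_mul]
        apply hsq₁
        · rw [RingHom.mem_ker, hχ₁', hk a ha]
        · rw [RingHom.mem_ker, hχ₁', hk b hb]
      exact fun x hx => h1 hx
    obtain ⟨χ, hχ⟩ := lift_gen hsmall (Ideal.Quotient.mkₐ R N₁) Ideal.Quotient.mk_surjective
      (by
        intro v hv w hw
        rw [hkermk] at hv hw
        exact hsq v (hN₁N hv) w (hN₁N hw))
      χ₁ (k + k) hk₁
      (by
        intro x hx c hc v hv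
        rw [hkermk] at hv
        have h1 : c ∈ 𝔪' := by
          rw [h𝔪', Ideal.mem_comap, ← hπ₁ c]
          have : Ideal.Quotient.mk N₁ c = χ₁ x := hc
          rw [this, hχ₁']
          exact Ideal.mem_map_of_mem _ hx
        have h2 : c * v ∈ 𝔪' ^ (j + 1) * N := by
          rw [pow_succ', mul_assoc]
          exact Ideal.mul_mem_mul h1 hv
        rw [hj] at h2
        exact h2)
    have hχ' : ∀ s, Ideal.Quotient.mk N₁ (χ s) = χ₁ s := fun s => DFunLike.congr_fun hχ s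
    refine ⟨χ, AlgHom.ext fun s => ?_⟩
    change π (χ s) = u s
    rw [← hπ₁, hχ', hχ₁']

theorem lift_all (hsmall : SmallS R S) (C D : Type u) [CommRing C] [CommRing D]
    [Algebra R C] [Algebra R D] (π : C →ₐ[R] D) (hπ : Function.Surjective π)
    (hsq : ∀ v ∈ RingHom.ker π, ∀ w ∈ RingHom.ker π, v * w = 0)
    (u : S →ₐ[R] D) (k : ℕ) (hk : ∀ x ∈ maximalIdeal S ^ k, u x = 0) :
    ∃ χ : S →ₐ[R] C, π.comp χ = u := by
  refine lift_filt hsmall k C D π hπ hsq u k hk ?_
  have h1 : (Ideal.comap π ((maximalIdeal S).map u)) ^ k ≤ RingHom.ker π := by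
    calc (Ideal.comap π ((maximalIdeal S).map u)) ^ k
        ≤ Ideal.comap π (((maximalIdeal S).map u) ^ k) := Ideal.le_comap_pow _ _
      _ = Ideal.comap π ⊥ := by
          congr 1
          rw [← Ideal.map_pow, eq_bot_iff, Ideal.map_le_iff_le_comap]
          intro x hx
          rw [Ideal.mem_comap, Ideal.mem_bot]
          exact hk x hx
      _ = RingHom.ker π := rfl
  rw [eq_bot_iff]
  intro x hx
  refine Submodule.mul_induction_on hx ?_ ?_
  · intro a ha b hb
    rw [Ideal.mem_bot]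
    exact hsq a (h1 ha) b hb
  · intro a b ha hb
    exact Ideal.add_mem _ ha hb

theorem isAdicFormallySmooth_of_smallS (hsmall : SmallS R S) :
    CAlgX.IsAdicFormallySmooth R S (maximalIdeal S) := by
  intro A _ _ J hJ ψ hψ
  obtain ⟨k, hk⟩ := hψ
  have hker : RingHom.ker (Ideal.Quotient.mkₐ R J) = J := Ideal.Quotient.mkₐ_ker R J
  refine lift_all hsmall A (A ⧸ J) (Ideal.Quotient.mkₐ R J) Ideal.Quotient.mk_surjective ?_ ψ k hk
  intro v hv w hw
  rw [hker] at hv hw
  have : v * w ∈ J ^ 2 := by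
    rw [pow_two]
    exact Ideal.mul_mem_mul hv hw
  rwa [hJ, Ideal.mem_bot] at this

end stepC

section wrappers

variable {R S : Type u} [CommRing R] [CommRing S] [IsLocalRing R] [IsLocalRing S]
  [IsNoetherianRing S] [Algebra R S] [IsLocalHom (algebraMap R S)]

theorem kills_pow_of_local {B C : Type*} [CommRing B] [CommRing C] [IsLocalRing B] [IsLocalRing C]
    [IsArtinianRing C] (f : B →+* C) [IsLocalHom f] :
    ∃ k : ℕ, (maximalIdeal B ^ k).map f = ⊥ := by
  obtain ⟨k, hk⟩ := IsArtinianRing.isNilpotent_jacobson_bot (R := C)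
  rw [IsLocalRing.jacobson_eq_maximalIdeal _ bot_ne_top, Ideal.zero_eq_bot] at hk
  refine ⟨k, ?_⟩
  rw [Ideal.map_pow, eq_bot_iff, ← hk]
  exact Ideal.pow_right_mono (map_maximalIdeal_le f) k

theorem smallS_of_quot
    (H : ∀ (A : Type u) [CommRing A] [IsLocalRing A] [IsArtinianRing A] [Algebra R A]
      [IsLocalHom (algebraMap R A)] (J : Ideal A), J ^ 2 = ⊥ → Module.length A J = 1 →
      ∀ [IsLocalRing (A ⧸ J)] (ψ : S →ₐ[R] A ⧸ J) [IsLocalHom ψ.toRingHom],
        Function.Bijective (ResidueField.map ψ.toRingHom) →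
        ∃ χ : S →ₐ[R] A, (Ideal.Quotient.mkₐ R J).comp χ = ψ) : SmallS R S := by
  intro A D _ _ _ _ _ _ _ π hπ t ht0 htm hmt hker ψ hψ
  have hJ2 : RingHom.ker π ^ 2 = ⊥ := by
    rw [hker, Ideal.span_singleton_pow, pow_two, hmt t htm, Ideal.span_singleton_eq_bot]
  have hlen : Module.length A (RingHom.ker π) = 1 := by
    rw [hker]
    exact Module.length_eq_one_iff.mpr (isSimpleModule_span t ht0 hmt)
  have hne : RingHom.ker π ≠ ⊤ := by
    rw [hker, Ne, Ideal.span_singleton_eq_top]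
    exact htm
  haveI : Nontrivial (A ⧸ RingHom.ker π) := Ideal.Quotient.nontrivial_iff.mpr hne
  haveI : IsLocalRing (A ⧸ RingHom.ker π) :=
    IsLocalRing.of_surjective' (Ideal.Quotient.mk _) Ideal.Quotient.mk_surjective
  let e : (A ⧸ RingHom.ker π) ≃ₐ[R] D := Ideal.quotientKerAlgEquivOfSurjective hπ
  let ψ' : S →ₐ[R] A ⧸ RingHom.ker π := (e.symm : D →ₐ[R] A ⧸ RingHom.ker π).comp ψ
  have hψ's : Function.Surjective ψ' := e.symm.surjective.comp hψ
  haveI : IsLocalHom ψ'.toRingHom := IsLocalHom.of_surjective _ hψ's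
  have hbij : Function.Bijective (ResidueField.map ψ'.toRingHom) := by
    refine ⟨(ResidueField.map ψ'.toRingHom).injective, ?_⟩
    intro y
    obtain ⟨a, rfl⟩ := residue_surjective y
    obtain ⟨s, rfl⟩ := hψ's a
    exact ⟨residue S s, ResidueField.map_residue _ _⟩
  obtain ⟨χ, hχ⟩ := H A (RingHom.ker π) hJ2 hlen ψ' hbij
  refine ⟨χ, AlgHom.ext fun s => ?_⟩
  have h1 : Ideal.Quotient.mk (RingHom.ker π) (χ s) = ψ' s := DFunLike.congr_fun hχ s
  change π (χ s) = ψ s
  rw [← Ideal.quotientKerAlgEquivOfSurjective_mk hπ, h1]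
  exact e.apply_symm_apply _

theorem isAdicFormallySmooth_of_quot
    (H : ∀ (A : Type u) [CommRing A] [IsLocalRing A] [IsArtinianRing A] [Algebra R A]
      [IsLocalHom (algebraMap R A)] (J : Ideal A), J ^ 2 = ⊥ → Module.length A J = 1 →
      ∀ [IsLocalRing (A ⧸ J)] (ψ : S →ₐ[R] A ⧸ J) [IsLocalHom ψ.toRingHom],
        Function.Bijective (ResidueField.map ψ.toRingHom) →
        ∃ χ : S →ₐ[R] A, (Ideal.Quotient.mkₐ R J).comp χ = ψ) :
    CAlgX.IsAdicFormallySmooth R S (maximalIdeal S) :=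
  isAdicFormallySmooth_of_smallS (smallS_of_quot H)

theorem isFormallySmoothAdic_of_quot (𝔞 : Ideal R)
    (H : ∀ (A : Type u) [CommRing A] [IsLocalRing A] [IsArtinianRing A] [Algebra R A]
      [IsLocalHom (algebraMap R A)] (J : Ideal A), J ^ 2 = ⊥ → Module.length A J = 1 →
      ∀ [IsLocalRing (A ⧸ J)] (ψ : S →ₐ[R] A ⧸ J) [IsLocalHom ψ.toRingHom],
        Function.Bijective (ResidueField.map ψ.toRingHom) →
        ∃ χ : S →ₐ[R] A, (Ideal.Quotient.mkₐ R J).comp χ = ψ) :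
    EGA41.IsFormallySmoothAdic R 𝔞 S (maximalIdeal S) := by
  rw [ega_iff]
  apply lifts_of_liftsSq
  have h1 := (calgx_iff (A := R) (B := S) (maximalIdeal S)).mp (isAdicFormallySmooth_of_quot H)
  intro C _ J hJ φ _ u hu hcont
  exact h1 C J hJ φ ⟨1, by rw [pow_one, Ideal.map_bot]⟩ u hu hcont

end wrappers

end Groth.Agent.Lib.Helper49.ArtTest
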