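import Mathlib
import Groth.Agent.Lib.Helper49.ArtTest4
set_option autoImplicit false
set_option linter.style.haveILetI false
set_option linter.unusedSectionVars false
universe u
namespace Groth.Agent.Lib.Helper49.FlatFS
open IsLocalRing Groth.Agent.Lib.Helper61.FSAdic Groth.Agent.Lib.Helper61.FSLocalTest
  Groth.Agent.Lib.Helper49.ArtTest

theorem exists_ringHom_of_injective {E F B : Type*} [CommRing E] [CommRing F] [CommRing B]
    (Φ : E →+* F) (hΦ : Function.Injective Φ) (g : B →+* F) (hg : ∀ b, ∃ e, Φ e = g b) :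
    ∃ s : B →+* E, ∀ b, Φ (s b) = g b := by
  choose s hs using hg
  exact ⟨{ toFun := s
           map_one' := hΦ (by rw [hs, map_one, map_one])
           map_mul' := fun a b => hΦ (by rw [hs, map_mul, map_mul, hs, hs])
           map_zero' := hΦ (by rw [hs, map_zero, map_zero])
           map_add' := fun a b => hΦ (by rw [hs, map_add, map_add, hs, hs]) }, hs⟩

theorem isNoetherian_of_surjective_algebraMap {E B : Type*} [CommRing E] [CommRing B]
    [Algebra E B] (h : Function.Surjective (algebraMap E B)) [IsNoetherianRing B] :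
    IsNoetherian E B := by
  rw [isNoetherian_def]
  intro N
  let N' : Submodule B B :=
    { carrier := N
      add_mem' := N.add_mem
      zero_mem' := N.zero_mem
      smul_mem' := fun c x hx => by
        obtain ⟨e, rfl⟩ := h c
        have : (algebraMap E B e) • x = e • x := by
          rw [smul_eq_mul, Algebra.smul_def]
        rw [this]
        exact N.smul_mem e hx }
  have h1 : N'.FG := IsNoetherian.noetherian N'
  have h2 : N = N'.restrictScalars E := by
    ext x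
    rfl
  rw [h2]
  exact Submodule.FG.restrictScalars_of_surjective h1 h

theorem isNoetherianRing_of_ker_span {E B : Type*} [CommRing E] [IsLocalRing E] [CommRing B]
    [IsNoetherianRing B] (π : E →+* B) (hπ : Function.Surjective π) (t : E)
    (hker : RingHom.ker π = Ideal.span {t}) (hm : ∀ a ∈ maximalIdeal E, a * t = 0) :
    IsNoetherianRing E := by
  letI : Algebra E B := π.toAlgebra
  have h1 : IsNoetherian E B := isNoetherian_of_surjective_algebraMap hπ
  have h2 : IsNoetherian E (Ideal.span {t}) := by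
    by_cases ht : t = 0
    · have : Subsingleton (Ideal.span {t}) := by
        rw [ht, Ideal.span_singleton_zero]
        exact ⟨fun a b => Subtype.ext ((Ideal.mem_bot.mp a.2).trans (Ideal.mem_bot.mp b.2).symm)⟩
      infer_instance
    · have := isSimpleModule_span t ht hm
      infer_instance
  refine isNoetherian_of_range_eq_ker (Ideal.span {t} : Submodule E E).subtype
    (Algebra.linearMap E B) ?_
  rw [Submodule.range_subtype]
  ext x
  rw [← hker]
  rfl

def FibreLifts (A B : Type u) [CommRing A] [CommRing B] [IsLocalRing A] [IsLocalRing B]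
    [Algebra A B] : Prop :=
  ∀ (C : Type u) [CommRing C] [Algebra A C], (∀ a ∈ maximalIdeal A, algebraMap A C a = 0) →
    ∀ (J : Ideal C), J ^ 2 = ⊥ → ∀ u : B →ₐ[A] C ⧸ J,
      (∃ k : ℕ, ∀ x ∈ maximalIdeal B ^ k, u x = 0) →
      ∃ v : B →ₐ[A] C, (Ideal.Quotient.mkₐ A J).comp v = u

section main

theorem core {A B T D E : Type u} [CommRing A] [CommRing B] [CommRing T] [CommRing D] [CommRing E]
    [IsLocalRing A] [IsLocalRing B] [IsLocalRing T] [IsLocalRing E] [IsNoetherianRing B]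
    [Algebra A B] [Algebra A T] [Algebra A D] [Algebra A E] [IsLocalHom (algebraMap A E)]
    [Module.Flat A B] (h₀ : FibreLifts A B) (π : T →ₐ[A] D) (ψ : B →ₐ[A] D)
    (pr₁ : E →ₐ[A] T) (pr₂ : E →ₐ[A] B) (hcomm : ∀ e, π (pr₁ e) = ψ (pr₂ e))
    (hext : ∀ e e', pr₁ e = pr₁ e' → pr₂ e = pr₂ e' → e = e')
    (hpr₁s : Function.Surjective pr₁) (hpr₂s : Function.Surjective pr₂)
    (t : T) (ht0 : t ≠ 0) (hmt : ∀ a ∈ maximalIdeal T, a * t = 0)
    (hp0 : ∀ x, π x = 0 ↔ x ∈ Ideal.span {t})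
    (tE : E) (htE1 : pr₁ tE = t) (htE2 : pr₂ tE = 0) :
    ∃ χ : B →ₐ[A] T, π.comp χ = ψ := by
  classical
  haveI hpr₁loc : IsLocalHom pr₁.toRingHom := IsLocalHom.of_surjective pr₁.toRingHom hpr₁s
  have htE0 : tE ≠ 0 := fun h => ht0 (by rw [← htE1, h, map_zero])
  have hmtE : ∀ a ∈ maximalIdeal E, a * tE = 0 := by
    intro a ha
    apply hext
    · rw [map_mul, map_zero, htE1]
      exact hmt _ (map_nonunit pr₁.toRingHom a ha)
    · rw [map_mul, map_zero, htE2, mul_zero]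
  have hkerE : RingHom.ker pr₂.toRingHom = Ideal.span {tE} := by
    ext e
    rw [RingHom.mem_ker, Ideal.mem_span_singleton']
    change pr₂ e = 0 ↔ _
    constructor
    · intro he
      have h1 : π (pr₁ e) = 0 := by rw [hcomm, he, map_zero]
      obtain ⟨c, hc⟩ := Ideal.mem_span_singleton'.mp ((hp0 _).mp h1)
      obtain ⟨c', rfl⟩ := hpr₁s c
      refine ⟨c', ?_⟩
      apply hext
      · rw [map_mul, htE1]
        exact hc
      · rw [map_mul, htE2, mul_zero, he]
    · rintro ⟨c, rfl⟩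
      rw [map_mul, htE2, mul_zero]
  have hsq : ∀ x y : E, pr₂ x = 0 → pr₂ y = 0 → x * y = 0 := by
    intro x y hx hy
    have hx' : x ∈ RingHom.ker pr₂.toRingHom := hx
    have hy' : y ∈ RingHom.ker pr₂.toRingHom := hy
    rw [hkerE] at hx' hy'
    obtain ⟨a, rfl⟩ := Ideal.mem_span_singleton'.mp hx'
    obtain ⟨b, rfl⟩ := Ideal.mem_span_singleton'.mp hy'
    have htm : tE ∈ maximalIdeal E := by
      intro hu
      have h1 : IsUnit (pr₂ tE) := hu.map pr₂
      rw [htE2] at h1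
      exact not_isUnit_zero h1
    have : a * tE * (b * tE) = a * b * (tE * tE) := by ring
    rw [this, hmtE tE htm, mul_zero]
  haveI : IsNoetherianRing E :=
    isNoetherianRing_of_ker_span pr₂.toRingHom hpr₂s tE hkerE hmtE
  have hflat := LinearMap.ker_inf_smul_top_eq_smul_of_flat (maximalIdeal A) pr₂.toLinearMap hpr₂s
  have hsmulker : maximalIdeal A • LinearMap.ker pr₂.toLinearMap = ⊥ := by
    rw [eq_bot_iff, Submodule.smul_le]
    intro a ha e he
    rw [Submodule.mem_bot]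
    have he'' : e ∈ RingHom.ker pr₂.toRingHom := he
    rw [hkerE] at he''
    obtain ⟨c, rfl⟩ := Ideal.mem_span_singleton'.mp he''
    rw [Algebra.smul_def]
    have h1 : algebraMap A E a ∈ maximalIdeal E := map_nonunit (algebraMap A E) a ha
    have : algebraMap A E a * (c * tE) = c * (algebraMap A E a * tE) := by ring
    rw [this, hmtE _ h1, mul_zero]
  let 𝔞E : Ideal E := (maximalIdeal A).map (algebraMap A E)
  have hstar : ∀ e : E, pr₂ e = 0 → e ∈ 𝔞E → e = 0 := by
    intro e he1 he2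
    have h1 : e ∈ LinearMap.ker pr₂.toLinearMap ⊓ (maximalIdeal A • ⊤ : Submodule A E) := by
      refine ⟨he1, ?_⟩
      rw [Ideal.smul_top_eq_map]
      exact he2
    rw [hflat, hsmulker] at h1
    exact (Submodule.mem_bot A).mp h1
  have h𝔞le : 𝔞E ≤ maximalIdeal E := map_maximalIdeal_le (algebraMap A E)
  have h𝔞ne : 𝔞E ≠ ⊤ := fun h => (maximalIdeal.isMaximal E).ne_top (top_le_iff.mp (h ▸ h𝔞le))
  haveI : Nontrivial (E ⧸ 𝔞E) := Ideal.Quotient.nontrivial_iff.mpr h𝔞ne
  haveI : IsLocalRing (E ⧸ 𝔞E) :=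
    IsLocalRing.of_surjective' (Ideal.Quotient.mk 𝔞E) Ideal.Quotient.mk_surjective
  haveI : IsLocalHom (Ideal.Quotient.mk 𝔞E) :=
    IsLocalHom.of_surjective _ Ideal.Quotient.mk_surjective
  have hkrull := Ideal.iInf_pow_eq_bot_of_isLocalRing (maximalIdeal (E ⧸ 𝔞E))
    (maximalIdeal.isMaximal _).ne_top
  have hexi : ∃ i : ℕ, tE ∉ 𝔞E ⊔ maximalIdeal E ^ i := by
    by_contra hcon
    rw [not_exists] at hcon
    have h1 : Ideal.Quotient.mk 𝔞E tE ∈ (⨅ i : ℕ, maximalIdeal (E ⧸ 𝔞E) ^ i) := by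
      rw [Ideal.mem_iInf]
      intro i
      obtain ⟨x, hx, y, hy, hxy⟩ := Submodule.mem_sup.mp (not_not.mp (hcon i))
      rw [← hxy, map_add, Ideal.Quotient.eq_zero_iff_mem.mpr hx, zero_add]
      have h2 : Ideal.Quotient.mk 𝔞E y ∈ (maximalIdeal E ^ i).map (Ideal.Quotient.mk 𝔞E) :=
        Ideal.mem_map_of_mem _ hy
      rw [Ideal.map_pow] at h2
      exact Ideal.pow_right_mono (map_maximalIdeal_le (Ideal.Quotient.mk 𝔞E)) i h2
    rw [hkrull, Ideal.mem_bot, Ideal.Quotient.eq_zero_iff_mem] at h1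
    exact htE0 (hstar tE htE2 h1)
  obtain ⟨i, hi⟩ := hexi
  let 𝔠 : Ideal E := 𝔞E ⊔ maximalIdeal E ^ i
  have h𝔠K : ∀ e : E, pr₂ e = 0 → e ∈ 𝔠 → e = 0 := by
    intro e he1 he2
    have he'' : e ∈ RingHom.ker pr₂.toRingHom := he1
    rw [hkerE] at he''
    obtain ⟨c, rfl⟩ := Ideal.mem_span_singleton'.mp he''
    by_cases hc : IsUnit c
    · exfalso
      apply hi
      obtain ⟨d, hd⟩ := hc.exists_left_inv
      have : tE = d * (c * tE) := by rw [← mul_assoc, hd, one_mul]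
      rw [this]
      exact Ideal.mul_mem_left _ _ he2
    · rw [hmtE c hc]
  have hC : ∀ a ∈ maximalIdeal A, algebraMap A (E ⧸ 𝔠) a = 0 := by
    intro a ha
    change Ideal.Quotient.mk 𝔠 (algebraMap A E a) = 0
    rw [Ideal.Quotient.eq_zero_iff_mem]
    exact Ideal.mem_sup_left (Ideal.mem_map_of_mem _ ha)
  let J : Ideal (E ⧸ 𝔠) := (RingHom.ker pr₂.toRingHom).map (Ideal.Quotient.mk 𝔠)
  have hJ2 : J ^ 2 = ⊥ := by
    rw [← Ideal.map_pow, eq_bot_iff, Ideal.map_le_iff_le_comap, pow_two, Ideal.mul_le]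
    intro x hx y hy
    rw [Ideal.mem_comap, hsq x y hx hy, map_zero]
    exact Ideal.zero_mem _
  let g₀ : E →ₐ[A] (E ⧸ 𝔠) ⧸ J := (Ideal.Quotient.mkₐ A J).comp (Ideal.Quotient.mkₐ A 𝔠)
  have Hk : RingHom.ker pr₂.toRingHom ≤ RingHom.ker g₀.toRingHom := by
    intro e he
    rw [RingHom.mem_ker]
    change Ideal.Quotient.mk J (Ideal.Quotient.mk 𝔠 e) = 0
    rw [Ideal.Quotient.eq_zero_iff_mem]
    exact Ideal.mem_map_of_mem _ he
  let u : B →ₐ[A] (E ⧸ 𝔠) ⧸ J := AlgHom.liftOfSurjective pr₂ hpr₂s g₀ Hk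
  have hu : ∀ e : E, u (pr₂ e) = Ideal.Quotient.mk J (Ideal.Quotient.mk 𝔠 e) := fun e =>
    AlgHom.liftOfSurjective_apply pr₂ hpr₂s g₀ Hk e
  haveI : IsLocalHom pr₂.toRingHom := IsLocalHom.of_surjective pr₂.toRingHom hpr₂s
  have hukill : ∀ x ∈ maximalIdeal B ^ i, u x = 0 := by
    intro x hx
    rw [← map_maximalIdeal_of_surjective pr₂.toRingHom hpr₂s, ← Ideal.map_pow] at hx
    obtain ⟨e, he, rfl⟩ := (Ideal.mem_map_iff_of_surjective pr₂.toRingHom hpr₂s).mp hx
    change u (pr₂ e) = 0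
    rw [hu, (Ideal.Quotient.eq_zero_iff_mem (I := 𝔠)).mpr (Ideal.mem_sup_right he), map_zero]
  obtain ⟨v, hv⟩ := h₀ (E ⧸ 𝔠) hC J hJ2 u ⟨i, hukill⟩
  have hv' : ∀ b, Ideal.Quotient.mk J (v b) = u b := fun b => DFunLike.congr_fun hv b
  let Φ : E →+* (E ⧸ 𝔠) × B := (Ideal.Quotient.mk 𝔠).prod pr₂.toRingHom
  have hΦ : Function.Injective Φ := by
    rw [injective_iff_map_eq_zero]
    intro e he
    have h1 : Ideal.Quotient.mk 𝔠 e = 0 := congrArg Prod.fst he
    have h2 : pr₂ e = 0 := congrArg Prod.snd he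
    exact h𝔠K e h2 (Ideal.Quotient.eq_zero_iff_mem.mp h1)
  let g : B →+* (E ⧸ 𝔠) × B := v.toRingHom.prod (RingHom.id B)
  have hg : ∀ b, ∃ e, Φ e = g b := by
    intro b
    obtain ⟨e, rfl⟩ := hpr₂s b
    have h1 : Ideal.Quotient.mk 𝔠 e - v (pr₂ e) ∈ J := by
      rw [← Ideal.Quotient.eq, ← hu, hv']
    obtain ⟨κ, hκ, hκe⟩ := (Ideal.mem_map_iff_of_surjective (Ideal.Quotient.mk 𝔠)
      Ideal.Quotient.mk_surjective).mp h1
    refine ⟨e - κ, ?_⟩
    have hκ0 : pr₂ κ = 0 := hκ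
    apply Prod.ext
    · change Ideal.Quotient.mk 𝔠 (e - κ) = v (pr₂ e)
      rw [map_sub, hκe, sub_sub_cancel]
    · change pr₂ (e - κ) = pr₂ e
      rw [map_sub, hκ0, sub_zero]
  obtain ⟨s, hs⟩ := exists_ringHom_of_injective Φ hΦ g hg
  have hs1 : ∀ b, Ideal.Quotient.mk 𝔠 (s b) = v b := fun b => congrArg Prod.fst (hs b)
  have hs2 : ∀ b, pr₂ (s b) = b := fun b => congrArg Prod.snd (hs b)
  have hsalg : ∀ a, s (algebraMap A B a) = algebraMap A E a := by
    intro a
    apply hΦ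
    rw [hs]
    apply Prod.ext
    · change v (algebraMap A B a) = Ideal.Quotient.mk 𝔠 (algebraMap A E a)
      rw [v.commutes]
      rfl
    · change algebraMap A B a = pr₂ (algebraMap A E a)
      rw [pr₂.commutes]
  refine ⟨{ pr₁.toRingHom.comp s with
      commutes' := fun a => by
        change pr₁ (s (algebraMap A B a)) = _
        rw [hsalg, pr₁.commutes] }, AlgHom.ext fun b => ?_⟩
  change π (pr₁ (s b)) = ψ b
  rw [hcomm, hs2]

variable {A B : Type u} [CommRing A] [CommRing B] [IsLocalRing A] [IsLocalRing B]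
  [IsNoetherianRing B] [Algebra A B] [IsLocalHom (algebraMap A B)]

theorem smallS_of_flat_of_fibreLifts [Module.Flat A B] (h₀ : FibreLifts A B) : SmallS A B := by
  intro T D _ _ _ _ _ _ _ π hπ t ht0 htm hmt hker ψ hψ
  classical
  let p : T →+* D := π.toRingHom
  let q : B →+* D := ψ.toRingHom
  have hp0 : ∀ x, π x = 0 ↔ x ∈ Ideal.span {t} := by
    intro x
    rw [← hker]
    exact Iff.rfl
  have hkerp : RingHom.ker p ^ 2 = ⊥ := by
    rw [eq_bot_iff, pow_two, Ideal.mul_le]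
    intro x hx y hy
    rw [Ideal.mem_bot]
    obtain ⟨a, rfl⟩ := Ideal.mem_span_singleton'.mp ((hp0 x).mp hx)
    obtain ⟨b, rfl⟩ := Ideal.mem_span_singleton'.mp ((hp0 y).mp hy)
    have : a * t * (b * t) = a * b * (t * t) := by ring
    rw [this, hmt t htm, mul_zero]
  have hpr₂s : Function.Surjective (Pull.pr₂ p q) := Pull.pr₂_surjective p q hπ
  have hpr₁s : Function.Surjective (Pull.pr₁ p q) := fun c => by
    obtain ⟨b, hb⟩ := hψ (π c)
    exact ⟨⟨(c, b), hb.symm⟩, rfl⟩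
  have hkerpr₂sq : RingHom.ker (Pull.pr₂ p q) ^ 2 = ⊥ := Pull.ker_pr₂_sq p q hkerp
  haveI hpr₂loc : IsLocalHom (Pull.pr₂ p q) := isLocalHom_of_ker_sq _ hpr₂s hkerpr₂sq
  haveI : IsLocalRing (Pull p q) := (Pull.pr₂ p q).domain_isLocalRing
  let ρ : A →+* Pull p q := Pull.lift p q (algebraMap A T) (algebraMap A B) (by
    ext r
    change π (algebraMap A T r) = ψ (algebraMap A B r)
    rw [π.commutes, ψ.commutes])
  letI : Algebra A (Pull p q) := ρ.toAlgebra
  have hρ₁ : ∀ r, Pull.pr₁ p q (algebraMap A (Pull p q) r) = algebraMap A T r := fun r => rfl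
  have hρ₂ : ∀ r, Pull.pr₂ p q (algebraMap A (Pull p q) r) = algebraMap A B r := fun r => rfl
  haveI : IsLocalHom (algebraMap A (Pull p q)) := by
    constructor
    intro r hr
    have h1 : IsUnit (Pull.pr₂ p q (algebraMap A (Pull p q) r)) := hr.map _
    rw [hρ₂] at h1
    exact IsLocalHom.map_nonunit (f := algebraMap A B) _ h1
  have htE : p t = q 0 := by
    rw [map_zero]
    exact (hp0 t).mpr (Ideal.mem_span_singleton_self t)
  exact core h₀ π ψ { Pull.pr₁ p q with commutes' := hρ₁ } { Pull.pr₂ p q with commutes' := hρ₂ }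
    (fun e => Pull.comm p q e) (fun e e' h1 h2 => Pull.ext p q h1 h2) hpr₁s hpr₂s t ht0 hmt hp0
    ⟨(t, 0), htE⟩ rfl rfl

end main

end Groth.Agent.Lib.Helper49.FlatFS
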