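import Mathlib
import Groth.Agent.Lib.Helper49.FlatFS1
set_option autoImplicit false
set_option linter.style.haveILetI false
set_option linter.unusedSectionVars false
universe u
namespace Groth.Agent.Lib.Helper49.FlatFS
open IsLocalRing Groth.Agent.Lib.Helper61.FSAdic Groth.Agent.Lib.Helper61.FSLocalTest
  Groth.Agent.Lib.Helper49.ArtTest

variable {A B : Type u} [CommRing A] [CommRing B] [IsLocalRing A] [IsLocalRing B]
  [IsNoetherianRing B] [Algebra A B] [IsLocalHom (algebraMap A B)]

theorem fibreLifts_of_quotient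
    (h : CAlgX.IsAdicFormallySmooth (A ⧸ maximalIdeal A)
      (B ⧸ (maximalIdeal A).map (algebraMap A B))
      ((maximalIdeal B).map (Ideal.Quotient.mk ((maximalIdeal A).map (algebraMap A B))))) :
    FibreLifts A B := by
  intro C _ _ hC J hJ u hu
  obtain ⟨k, hk⟩ := hu
  let φ : A ⧸ maximalIdeal A →+* C := Ideal.Quotient.lift (maximalIdeal A) (algebraMap A C) hC
  letI : Algebra (A ⧸ maximalIdeal A) C := φ.toAlgebra
  haveI : IsScalarTower A (A ⧸ maximalIdeal A) C := IsScalarTower.of_algebraMap_eq (fun x => rfl)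
  have hkill : ∀ b ∈ (maximalIdeal A).map (algebraMap A B), u.toRingHom b = 0 := by
    intro b hb
    refine Submodule.span_induction ?_ ?_ ?_ ?_ hb
    · rintro _ ⟨a, ha, rfl⟩
      change u (algebraMap A B a) = 0
      rw [u.commutes]
      change Ideal.Quotient.mk J (algebraMap A C a) = 0
      rw [hC a ha, map_zero]
    · exact map_zero _
    · intro x y _ _ hx hy
      rw [map_add, hx, hy, add_zero]
    · intro c x _ hx
      rw [smul_eq_mul, map_mul, hx, mul_zero]
  let ū₀ : B ⧸ (maximalIdeal A).map (algebraMap A B) →+* C ⧸ J :=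
    Ideal.Quotient.lift _ u.toRingHom hkill
  let ū : B ⧸ (maximalIdeal A).map (algebraMap A B) →ₐ[A ⧸ maximalIdeal A] C ⧸ J :=
    { ū₀ with
      commutes' := fun c => by
        obtain ⟨a, rfl⟩ := Ideal.Quotient.mk_surjective c
        change u (algebraMap A B a) = _
        rw [u.commutes]
        rfl }
  obtain ⟨vb, hvb⟩ := h C J hJ ū ⟨k, fun x hx => by
    rw [← Ideal.map_pow] at hx
    obtain ⟨y, hy, rfl⟩ := (Ideal.mem_map_iff_of_surjective _ Ideal.Quotient.mk_surjective).mp hx
    exact hk y hy⟩
  refine ⟨{ vb.toRingHom.comp (Ideal.Quotient.mk _) with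
      commutes' := fun a => by
        change vb (Ideal.Quotient.mk _ (algebraMap A B a)) = _
        have h1 : Ideal.Quotient.mk ((maximalIdeal A).map (algebraMap A B)) (algebraMap A B a) =
            algebraMap (A ⧸ maximalIdeal A) (B ⧸ (maximalIdeal A).map (algebraMap A B))
              (Ideal.Quotient.mk _ a) := rfl
        rw [h1, vb.commutes]
        rfl }, AlgHom.ext fun b => ?_⟩
  exact DFunLike.congr_fun hvb (Ideal.Quotient.mk _ b)

theorem isAdicFormallySmooth_of_flat_of_fibre [Module.Flat A B]
    (h : CAlgX.IsAdicFormallySmooth (A ⧸ maximalIdeal A)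
      (B ⧸ (maximalIdeal A).map (algebraMap A B))
      ((maximalIdeal B).map (Ideal.Quotient.mk ((maximalIdeal A).map (algebraMap A B))))) :
    CAlgX.IsAdicFormallySmooth A B (maximalIdeal B) :=
  isAdicFormallySmooth_of_smallS (smallS_of_flat_of_fibreLifts (fibreLifts_of_quotient h))

end Groth.Agent.Lib.Helper49.FlatFS
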