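import Groth.Agent.Lib.Helper49.FSRegular
import Groth.Agent.Lib.Helper61.FSAdicCompl
import Groth.Agent.Lib.Helper77.RegularPowerSeries
import Groth.Agent.S0548
import Groth.Agent.S0543
import Mathlib.RingTheory.AdicCompletion.LocalRing

set_option autoImplicit false
universe u
namespace Groth.Agent.Lib.Helper49.FSRegular

open IsLocalRing Groth.Agent.Lib.Helper61.FSAdic

theorem isRegularLocalRing_mvPowerSeries (K : Type u) [Field K] (n : ℕ) :
    IsRegularLocalRing (MvPowerSeries (Fin n) K) := by
  have := Groth.Agent.Lib.Helper77.RegularPowerSeries.isRegularRing_mvPowerSeries K n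
  exact IsRegularLocalRing.of_isRegularRing_of_isLocalRing _

theorem formallySmooth_of_charZero {F K : Type u} [Field F] [CharZero F] [Field K] [Algebra F K] :
    Algebra.FormallySmooth F K := by
  obtain ⟨s, hs⟩ := exists_isTranscendenceBasis F K
  have : Algebra.IsAlgebraic (IntermediateField.adjoin F (Set.range ((↑) : s → K))) K :=
    hs.isAlgebraic_field
  have : CharZero (IntermediateField.adjoin F (Set.range ((↑) : s → K))) :=
    charZero_of_injective_algebraMap
      (algebraMap F (IntermediateField.adjoin F (Set.range ((↑) : s → K)))).injective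
  have : Algebra.IsSeparable (IntermediateField.adjoin F (Set.range ((↑) : s → K))) K :=
    Algebra.IsAlgebraic.isSeparable_of_perfectField
  exact Algebra.FormallySmooth.of_algebraicIndependent_of_isSeparable hs.1

theorem exists_base (k : Type u) [Field k] :
    ∃ (P : Type u) (_ : Field P) (_ : Algebra P k), Algebra.FormallySmooth P k ∧
      ∀ (K : Type u) [Field K] [Algebra P K], Algebra.FormallySmooth P K := by
  obtain ⟨p, hp⟩ := CharP.exists k
  rcases CharP.char_is_prime_or_zero k p with hpp | rfl
  · haveI : Fact p.Prime := ⟨hpp⟩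
    obtain ⟨P, hF, hC, hPerf, hA, -, -⟩ := Groth.Agent.Lib.Helper49.MacLane.exists_primeField p k k
    refine ⟨P, hF, hA, Groth.Agent.Lib.Helper49.MacLane.formallySmooth_of_perfect p, ?_⟩
    intro K _ _
    haveI : CharP K p := charP_of_injective_algebraMap (algebraMap P K).injective p
    exact Groth.Agent.Lib.Helper49.MacLane.formallySmooth_of_perfect p
  · haveI : CharZero k := CharP.charP_to_charZero k
    exact ⟨k, inferInstance, inferInstance, inferInstance, fun K _ _ => formallySmooth_of_charZero⟩

theorem isAdicFormallySmooth_restrict {P k A : Type u} [Field P] [Field k] [CommRing A]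
    [Algebra P k] [Algebra k A] [Algebra P A] [IsScalarTower P k A] [Algebra.FormallySmooth P k]
    (𝔫 : Ideal A) (h : CAlgX.IsAdicFormallySmooth k A 𝔫) : CAlgX.IsAdicFormallySmooth P A 𝔫 := by
  have h1 : Lifts (⊥ : Ideal P) (algebraMap P k) (⊥ : Ideal k) := by
    intro C _ J hJ φ _ u hu _
    letI : Algebra P C := φ.toAlgebra
    let u' : k →ₐ[P] C ⧸ J := { u with commutes' := fun a => DFunLike.congr_fun hu a }
    obtain ⟨v, hv⟩ := Algebra.FormallySmooth.exists_lift J hJ u'
    refine ⟨v.toRingHom, RingHom.ext fun a => v.commutes a, RingHom.ext fun b => ?_⟩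
    exact DFunLike.congr_fun hv b
  have h2 : Lifts (⊥ : Ideal k) (algebraMap k A) 𝔫 := lifts_of_liftsSq ((calgx_iff 𝔫).mp h)
  have h3 := Lifts.comp (f := algebraMap P k) (g := algebraMap k A) ⟨1, by simp⟩ h1 h2
  rw [calgx_iff, IsScalarTower.algebraMap_eq P k A]
  exact liftsSq_of_lifts h3

section sep

variable {k A : Type u} [Field k] [CommRing A] [IsLocalRing A] [IsNoetherianRing A] [Algebra k A]

theorem residueMapAlgHom_aux :
    ∃ f : ResidueField A →ₐ[k]
      AdicCompletion (maximalIdeal A) A ⧸ maximalIdeal (AdicCompletion (maximalIdeal A) A),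
      Function.Surjective f := by
  haveI : IsNoetherianRing (AdicCompletion (maximalIdeal A) A) :=
    Groth.Agent.S0543.result A (maximalIdeal A)
  let f : ResidueField A →ₐ[k]
      AdicCompletion (maximalIdeal A) A ⧸ maximalIdeal (AdicCompletion (maximalIdeal A) A) :=
    { toFun := fun x => ResidueField.map (algebraMap A (AdicCompletion (maximalIdeal A) A)) x
      map_one' := map_one _
      map_mul' := map_mul _
      map_zero' := map_zero _
      map_add' := map_add _
      commutes' := fun x => by
        change ResidueField.map (algebraMap A (AdicCompletion (maximalIdeal A) A))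
          (residue A (algebraMap k A x)) = _
        rw [ResidueField.map_residue, ← IsScalarTower.algebraMap_apply]
        rfl }
  exact ⟨f, (AdicCompletion.residueField_map_bijective A).surjective⟩

theorem isAdicFormallySmooth_iff_isRegularLocalRing_of_sep
    [Algebra.FormallySmooth k (ResidueField A)] :
    CAlgX.IsAdicFormallySmooth k A (maximalIdeal A) ↔ IsRegularLocalRing A := by
  haveI : IsNoetherianRing (AdicCompletion (maximalIdeal A) A) :=
    Groth.Agent.S0543.result A (maximalIdeal A)
  obtain ⟨f, hf⟩ := residueMapAlgHom_aux (k := k) (A := A)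
  have hmax := AdicCompletion.maximalIdeal_eq_map (R := A)
  have hfg : (maximalIdeal A).FG := IsNoetherian.noetherian _
  constructor
  · intro h
    have h1 := Groth.Agent.Lib.Helper61.FSCompl.to_completion (maximalIdeal A) hfg h
    rw [← hmax] at h1
    have h2 := isRegularLocalRing_of_isAdicFormallySmooth f hf h1
    exact (Groth.Agent.S0548.result A).mpr h2
  · intro h
    have h2 := (Groth.Agent.S0548.result A).mp h
    have h1 := isAdicFormallySmooth_of_isRegularLocalRing f hf h2
    rw [hmax] at h1
    exact Groth.Agent.Lib.Helper61.FSCompl.of_completion (maximalIdeal A) h1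

theorem exists_algEquiv_completion_of_sep [Algebra.FormallySmooth k (ResidueField A)]
    (h : IsRegularLocalRing A) :
    ∃ d : ℕ, Nonempty (MvPowerSeries (Fin d) (ResidueField A) ≃ₐ[k]
      AdicCompletion (maximalIdeal A) A) := by
  haveI : IsNoetherianRing (AdicCompletion (maximalIdeal A) A) :=
    Groth.Agent.S0543.result A (maximalIdeal A)
  obtain ⟨f, hf⟩ := residueMapAlgHom_aux (k := k) (A := A)
  exact exists_algEquiv_of_isRegularLocalRing f hf ((Groth.Agent.S0548.result A).mp h)

end sep

theorem isRegularLocalRing_of_isAdicFormallySmooth_field {k A : Type u} [Field k] [CommRing A]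
    [IsLocalRing A] [IsNoetherianRing A] [Algebra k A]
    (h : CAlgX.IsAdicFormallySmooth k A (maximalIdeal A)) :
    IsRegularLocalRing A ∧ ∃ d : ℕ, Nonempty (AdicCompletion (maximalIdeal A) A ≃+*
      MvPowerSeries (Fin d) (ResidueField A)) := by
  obtain ⟨P, _, _, hPk, hPK⟩ := exists_base k
  letI : Algebra P A := ((algebraMap k A).comp (algebraMap P k)).toAlgebra
  haveI : IsScalarTower P k A := IsScalarTower.of_algebraMap_eq (fun x => rfl)
  have h1 : CAlgX.IsAdicFormallySmooth P A (maximalIdeal A) := isAdicFormallySmooth_restrict _ h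
  haveI : Algebra.FormallySmooth P (ResidueField A) := hPK (ResidueField A)
  have h2 : IsRegularLocalRing A := isAdicFormallySmooth_iff_isRegularLocalRing_of_sep.mp h1
  obtain ⟨d, ⟨e⟩⟩ := exists_algEquiv_completion_of_sep (k := P) h2
  exact ⟨h2, d, ⟨e.symm.toRingEquiv⟩⟩

end Groth.Agent.Lib.Helper49.FSRegular
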