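import Groth.Agent.Lib.Helper49.FSRegular2
import Groth.Agent.Lib.Helper61.FSAdicBC
import Groth.Agent.Lib.Helper77.RegularLocalization
import Groth.Prelude.Def_Found
import Mathlib.RingTheory.Ideal.Quotient.Nilpotent
import Mathlib.RingTheory.Ideal.GoingUp

set_option autoImplicit false
universe u
namespace Groth.Agent.Lib.Helper49.FSRegular

open IsLocalRing Groth.Agent.Lib.Helper61.FSAdic TensorProduct

theorem isAdicFormallySmooth_localization {k B : Type u} [CommRing k] [CommRing B] [Algebra k B]
    (𝔟 : Ideal B) (n : Ideal B) [n.IsPrime] (h𝔟 : 𝔟 ≤ n)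
    (h : Lifts (⊥ : Ideal k) (algebraMap k B) 𝔟) :
    CAlgX.IsAdicFormallySmooth k (Localization.AtPrime n)
      (maximalIdeal (Localization.AtPrime n)) := by
  intro C _ _ J hJ u hu
  obtain ⟨j, hj⟩ := hu
  let ι : B →ₐ[k] Localization.AtPrime n := IsScalarTower.toAlgHom k B (Localization.AtPrime n)
  have hι : ∀ b, ι b = algebraMap B (Localization.AtPrime n) b := fun b => rfl
  have hmap : 𝔟.map (algebraMap B (Localization.AtPrime n)) ≤
      maximalIdeal (Localization.AtPrime n) := by
    rw [← Localization.AtPrime.map_eq_maximalIdeal]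
    exact Ideal.map_mono h𝔟
  obtain ⟨v', hv'1, hv'2⟩ := h C J ⟨2, hJ⟩ (algebraMap k C) ⟨1, by simp⟩
    (u.comp ι).toRingHom (by
      ext a
      exact (u.comp ι).commutes a)
    ⟨j, fun x hx => by
      apply hj
      have h1 : algebraMap B (Localization.AtPrime n) x ∈
          (𝔟 ^ j).map (algebraMap B (Localization.AtPrime n)) := Ideal.mem_map_of_mem _ hx
      rw [Ideal.map_pow] at h1
      exact Ideal.pow_right_mono hmap j h1⟩
  have hv'2' : ∀ b, Ideal.Quotient.mk J (v' b) = u (algebraMap B (Localization.AtPrime n) b) :=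
    fun b => DFunLike.congr_fun hv'2 b
  have hunits : ∀ s : n.primeCompl, IsUnit (v' s) := by
    intro s
    rw [← IsNilpotent.isUnit_quotient_mk_iff (I := J) ⟨2, hJ⟩, hv'2']
    exact (IsLocalization.map_units (Localization.AtPrime n) s).map u
  let v : Localization.AtPrime n →+* C := IsLocalization.lift (M := n.primeCompl) hunits
  have hv : ∀ b, v (algebraMap B (Localization.AtPrime n) b) = v' b := fun b =>
    IsLocalization.lift_eq hunits b
  refine ⟨{ v with commutes' := fun x => ?_ }, ?_⟩
  · change v (algebraMap k (Localization.AtPrime n) x) = algebraMap k C x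
    rw [IsScalarTower.algebraMap_apply k B (Localization.AtPrime n), hv]
    exact DFunLike.congr_fun hv'1 x
  · apply AlgHom.coe_ringHom_injective
    apply IsLocalization.ringHom_ext n.primeCompl
    ext b
    change Ideal.Quotient.mk J (v (algebraMap B (Localization.AtPrime n) b)) =
      u (algebraMap B (Localization.AtPrime n) b)
    rw [hv, hv'2']

theorem isGeometricallyRegular_of_isAdicFormallySmooth {k A : Type u} [Field k] [CommRing A]
    [IsLocalRing A] [IsNoetherianRing A] [Algebra k A]
    (h : CAlgX.IsAdicFormallySmooth k A (maximalIdeal A)) :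
    CAlg.IsGeometricallyRegular k A := by
  intro k' _ _ hfin
  have hL : Lifts (⊥ : Ideal k) (algebraMap k A) (maximalIdeal A) :=
    lifts_of_liftsSq ((calgx_iff (maximalIdeal A)).mp h)
  have hL' := Groth.Agent.Lib.Helper61.FSAdic.lifts_baseChange (A' := k') (⊥ : Ideal k)
    (maximalIdeal A) (⊥ : Ideal k') ⟨1, by simp⟩ hL
  rw [Ideal.map_bot, bot_sup_eq] at hL'
  set ι : A →+* k' ⊗[k] A :=
    (Algebra.TensorProduct.includeRight : A →ₐ[k] k' ⊗[k] A).toRingHom with hι
  haveI : IsNoetherianRing (A ⊗[k] k') := IsNoetherianRing.of_finite A (A ⊗[k] k')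
  haveI : IsNoetherianRing (k' ⊗[k] A) :=
    isNoetherianRing_of_ringEquiv (A ⊗[k] k') (Algebra.TensorProduct.comm k A k').toRingEquiv
  have hint : ι.IsIntegral := by
    haveI : Algebra.IsIntegral k k' := Algebra.IsIntegral.of_finite k k'
    have h1 : (algebraMap A (A ⊗[k] k')).IsIntegral := fun x => Algebra.IsIntegral.isIntegral x
    have h2 : ι = ((Algebra.TensorProduct.comm k A k').toRingEquiv : A ⊗[k] k' →+* k' ⊗[k] A).comp
        (algebraMap A (A ⊗[k] k')) := by
      ext a
      simp [hι]
    rw [h2]
    exact RingHom.IsIntegral.trans _ _ h1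
      (RingHom.isIntegral_of_surjective _ (Algebra.TensorProduct.comm k A k').surjective)
  apply Groth.Agent.Lib.Helper77.RegularLocalization.isRegularRing_of_maximal
  intro n hn
  haveI : (n.comap ι).IsMaximal := Ideal.isMaximal_comap_of_isIntegral_of_isMaximal' ι hint n
  have hcomap : n.comap ι = maximalIdeal A := IsLocalRing.eq_maximalIdeal inferInstance
  have hle : (maximalIdeal A).map ι ≤ n := by
    rw [Ideal.map_le_iff_le_comap, hcomap]
  have h3 := isAdicFormallySmooth_localization ((maximalIdeal A).map ι) n hle hL'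
  exact (isRegularLocalRing_of_isAdicFormallySmooth_field h3).1

end Groth.Agent.Lib.Helper49.FSRegular
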