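import Groth.Agent.Lib.Helper49.FSJacobi
import Groth.Agent.S12136
import Mathlib.Algebra.Module.Torsion.Basic

set_option autoImplicit false
universe u
namespace Groth.Agent.Lib.Helper49.FSJacobi

open TensorProduct KaehlerDifferential IsLocalRing Groth.Agent.Lib.Helper61.FSAdic
  Groth.Agent.Lib.Helper49.KaehlerResidue

variable {k A : Type u} [Field k] [CommRing A] [IsLocalRing A] [Algebra k A]

theorem core (hinj : Function.Injective ((mapBaseChange ℤ k A).lTensor (ResidueField A)))
    (E : Type u) [CommRing E] [Algebra k E] (N : Ideal E) (hN : N ^ 2 = ⊥) (χ₀ : A →+* E)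
    (h1 : ∀ x : k, χ₀ (algebraMap k A x) - algebraMap k E x ∈ N)
    (h2 : ∀ a ∈ maximalIdeal A, ∀ n ∈ N, χ₀ a * n = 0) :
    ∃ χ : A →ₐ[k] E, ∀ a, χ a - χ₀ a ∈ N := by
  have hNN : ∀ n₁ ∈ N, ∀ n₂ ∈ N, n₁ * n₂ = 0 := by
    intro n₁ hn₁ n₂ hn₂
    have h := Ideal.mul_mem_mul hn₁ hn₂
    rw [← pow_two, hN, Ideal.mem_bot] at h
    exact h
  letI modA : Module A ↥N := Module.compHom ↥N χ₀
  have hsmulA : ∀ (a : A) (n : ↥N), ((a • n : ↥N) : E) = χ₀ a * (n : E) := fun a n => rfl
  have hsmulk : ∀ (x : k) (n : ↥N), ((x • n : ↥N) : E) = algebraMap k E x * (n : E) := fun x n => by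
    rw [Submodule.coe_smul_of_tower, Algebra.smul_def]
  have htors : Module.IsTorsionBySet A ↥N (maximalIdeal A : Set A) := by
    intro n a
    apply Subtype.ext
    rw [hsmulA, Submodule.coe_zero]
    exact h2 a a.2 n n.2
  letI modK : Module (ResidueField A) ↥N :=
    (htors.module : Module (A ⧸ maximalIdeal A) ↥N)
  have hresK : ∀ (a : A) (n : ↥N), (residue A a • n : ↥N) = a • n := fun a n => rfl
  haveI : IsScalarTower A (ResidueField A) ↥N := by
    refine ⟨fun a c n => ?_⟩
    obtain ⟨b, rfl⟩ := residue_surjective c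
    have e1 : a • residue A b = residue A (a * b) := by
      rw [Algebra.smul_def, map_mul]
      rfl
    rw [e1, hresK, hresK, mul_smul]
  haveI : IsScalarTower k A ↥N := by
    refine ⟨fun x a n => ?_⟩
    apply Subtype.ext
    rw [hsmulA, hsmulk, hsmulA, Algebra.smul_def, map_mul]
    have h3 := hNN _ (h1 x) _ (N.mul_mem_left (χ₀ a) n.2)
    linear_combination h3
  let lin : k →ₗ[ℤ] ↥N :=
    ({ toFun := fun x => ⟨χ₀ (algebraMap k A x) - algebraMap k E x, h1 x⟩
       map_zero' := by
         apply Subtype.ext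
         simp
       map_add' := fun x y => by
         apply Subtype.ext
         simp only [map_add, Submodule.coe_add]
         ring } : k →+ ↥N).toIntLinearMap
  have hlin : ∀ x, ((lin x : ↥N) : E) = χ₀ (algebraMap k A x) - algebraMap k E x := fun x => rfl
  let δ : Derivation ℤ k ↥N := Derivation.mk' lin (fun x y => by
    apply Subtype.ext
    rw [Submodule.coe_add, hsmulk, hsmulk, hlin, hlin, hlin, map_mul, map_mul, map_mul]
    have h3 := hNN _ (h1 x) _ (h1 y)
    linear_combination h3)
  obtain ⟨D', hD'⟩ := exists_derivation_extension_of_injective hinj ↥N δ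
  have hD'k : ∀ x, ((D' (algebraMap k A x) : ↥N) : E) = χ₀ (algebraMap k A x) - algebraMap k E x :=
    fun x => by rw [hD']; rfl
  refine ⟨{ toFun := fun a => χ₀ a - (D' a : E)
            map_one' := by
              rw [Derivation.map_one_eq_zero, Submodule.coe_zero, sub_zero, map_one]
            map_mul' := fun a b => by
              rw [Derivation.leibniz, Submodule.coe_add, hsmulA, hsmulA, map_mul]
              have h3 := hNN _ (D' a).2 _ (D' b).2
              linear_combination (-1 : E) * h3
            map_zero' := by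
              rw [map_zero, map_zero, Submodule.coe_zero, sub_zero]
            map_add' := fun a b => by
              rw [map_add, map_add, Submodule.coe_add]
              ring
            commutes' := fun x => by
              rw [hD'k]
              ring }, fun a => ?_⟩
  change χ₀ a - (D' a : E) - χ₀ a ∈ N
  have : χ₀ a - (D' a : E) - χ₀ a = - (D' a : E) := by ring
  rw [this]
  exact N.neg_mem (D' a).2

theorem isAdicFormallySmooth_of_regular_of_injective [IsNoetherianRing A]
    (hreg : IsRegularLocalRing A)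
    (hinj : Function.Injective ((mapBaseChange ℤ k A).lTensor (ResidueField A))) :
    CAlgX.IsAdicFormallySmooth k A (maximalIdeal A) := by
  obtain ⟨P, _, _, hPk, hPK⟩ := Groth.Agent.Lib.Helper49.FSRegular.exists_base k
  letI : Algebra P A := ((algebraMap k A).comp (algebraMap P k)).toAlgebra
  haveI : IsScalarTower P k A := IsScalarTower.of_algebraMap_eq (fun x => rfl)
  haveI : Algebra.FormallySmooth P (ResidueField A) := hPK (ResidueField A)
  have hP : CAlgX.IsAdicFormallySmooth P A (maximalIdeal A) :=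
    Groth.Agent.Lib.Helper49.FSRegular.isAdicFormallySmooth_iff_isRegularLocalRing_of_sep.mpr hreg
  have hLP : Lifts (⊥ : Ideal P) (algebraMap P A) (maximalIdeal A) :=
    lifts_of_liftsSq ((calgx_iff (maximalIdeal A)).mp hP)
  apply Groth.Agent.S12136.devissage (maximalIdeal A) (maximalIdeal A) 1 (by rw [pow_one])
  intro E _ _ N hN ψ hψ hQN
  obtain ⟨χ₀, hχ₀1, hχ₀2⟩ := hLP E N ⟨2, hN⟩ ((algebraMap k E).comp (algebraMap P k))
    ⟨1, by simp⟩ ψ.toRingHom
    (by
      ext p
      simp only [RingHom.comp_apply]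
      change ψ (algebraMap k A (algebraMap P k p)) = _
      rw [ψ.commutes]
      rfl)
    hψ
  have hχ₀2' : ∀ a, Ideal.Quotient.mk N (χ₀ a) = ψ a := fun a => DFunLike.congr_fun hχ₀2 a
  obtain ⟨χ, hχ⟩ := core hinj E N hN χ₀
    (fun x => by
      rw [← Ideal.Quotient.eq, hχ₀2', ψ.commutes]
      rfl)
    (fun a ha n hn => hQN a ha (χ₀ a) (hχ₀2' a) n hn)
  refine ⟨χ, AlgHom.ext fun a => ?_⟩
  change Ideal.Quotient.mk N (χ a) = ψ a
  rw [← hχ₀2', Ideal.Quotient.eq]
  exact hχ a

theorem isAdicFormallySmooth_iff_regular_and_injective [IsNoetherianRing A] :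
    CAlgX.IsAdicFormallySmooth k A (maximalIdeal A) ↔
      (IsRegularLocalRing A ∧
        Function.Injective ((mapBaseChange ℤ k A).lTensor (ResidueField A))) := by
  constructor
  · intro h
    refine ⟨(Groth.Agent.Lib.Helper49.FSRegular.isRegularLocalRing_of_isAdicFormallySmooth_field h).1,
      ?_⟩
    apply injective_of_forall_exists_derivation
    intro δ
    exact exists_derivation_of_lifts (lifts_of_liftsSq ((calgx_iff (maximalIdeal A)).mp h)) δ
  · rintro ⟨hreg, hinj⟩
    exact isAdicFormallySmooth_of_regular_of_injective hreg hinj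

end Groth.Agent.Lib.Helper49.FSJacobi
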