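import Groth.Agent.Lib.Helper49.MacLane
import Mathlib.RingTheory.Smooth.AdicCompletion
import Mathlib.RingTheory.Smooth.Field
import Mathlib.RingTheory.AdicCompletion.Noetherian
import Mathlib.Data.ZMod.QuotientRing

set_option autoImplicit false
universe u
namespace Groth.Agent.Lib.Helper49.CoeffField

theorem isAdicComplete_pow {R : Type*} [CommRing R] (I : Ideal R) [IsAdicComplete I R] {c : ℕ}
    (hc : c ≠ 0) : IsAdicComplete (I ^ c) R := by
  have hle : ∀ n : ℕ, (I ^ c) ^ n ≤ I ^ n := fun n => by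
    rw [← pow_mul]
    exact Ideal.pow_le_pow_right (Nat.le_mul_of_pos_left n (Nat.pos_of_ne_zero hc))
  have hH : IsHausdorff (I ^ c) R := by
    refine ⟨fun x hx => ?_⟩
    apply IsHausdorff.haus (I := I) inferInstance x
    intro n
    have h1 := hx n
    rw [SModEq.zero] at h1 ⊢
    rw [smul_eq_mul, Ideal.mul_top] at h1 ⊢
    exact hle n h1
  have hP : IsPrecomplete (I ^ c) R := by
    refine ⟨fun f hf => ?_⟩
    have hf' : ∀ {m n : ℕ}, m ≤ n → f m ≡ f n [SMOD (I ^ m • ⊤ : Submodule R R)] := by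
      intro m n hmn
      have h1 := hf hmn
      rw [SModEq.sub_mem] at h1 ⊢
      rw [smul_eq_mul, Ideal.mul_top] at h1 ⊢
      exact hle m h1
    obtain ⟨L, hL⟩ := IsPrecomplete.prec (I := I) inferInstance hf'
    refine ⟨L, fun n => ?_⟩
    rw [SModEq.sub_mem, smul_eq_mul, Ideal.mul_top, ← pow_mul]
    have h2 : n ≤ c * n := Nat.le_mul_of_pos_left n (Nat.pos_of_ne_zero hc)
    have h3 := hf h2
    have h4 := hL (c * n)
    rw [SModEq.sub_mem, smul_eq_mul, Ideal.mul_top] at h3 h4
    rw [← pow_mul] at h3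
    have : f n - L = (f n - f (c * n)) + (f (c * n) - L) := by ring
    rw [this]
    exact Ideal.add_mem _ h3 h4
  exact { hH, hP with }

theorem formallySmooth_int_of_charZero (K : Type u) [Field K] [CharZero K] :
    Algebra.FormallySmooth ℤ K := by
  have h1 : Algebra.FormallySmooth ℤ ℚ := Algebra.FormallySmooth.of_isLocalization (nonZeroDivisors ℤ)
  have h2 : Algebra.FormallySmooth ℚ K := by
    obtain ⟨s, hs⟩ := exists_isTranscendenceBasis ℚ K
    have : Algebra.IsAlgebraic (IntermediateField.adjoin ℚ (Set.range ((↑) : s → K))) K :=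
      hs.isAlgebraic_field
    have : CharZero (IntermediateField.adjoin ℚ (Set.range ((↑) : s → K))) :=
      charZero_of_injective_algebraMap
        (algebraMap ℚ (IntermediateField.adjoin ℚ (Set.range ((↑) : s → K)))).injective
    have : Algebra.IsSeparable (IntermediateField.adjoin ℚ (Set.range ((↑) : s → K))) K :=
      Algebra.IsAlgebraic.isSeparable_of_perfectField
    exact Algebra.FormallySmooth.of_algebraicIndependent_of_isSeparable hs.1
  exact Algebra.FormallySmooth.comp ℤ ℚ K

theorem exists_lift_charZero {K C : Type u} [Field K] [CharZero K] [CommRing C] (I : Ideal C)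
    [IsAdicComplete I C] (f : K →+* C ⧸ I) :
    ∃ g : K →+* C, (Ideal.Quotient.mk I).comp g = f := by
  have := formallySmooth_int_of_charZero K
  obtain ⟨g, hg⟩ := Algebra.FormallySmooth.exists_mkₐ_comp_eq_of_isAdicComplete (R := ℤ)
    (I := I) f.toIntAlgHom
  refine ⟨g.toRingHom, RingHom.ext fun x => ?_⟩
  exact DFunLike.congr_fun hg x

theorem ringHom_ulift_zmod_ext (p : ℕ) {R : Type*} [Semiring R]
    (f g : ULift.{u} (ZMod p) →+* R) : f = g := by
  have h := RingHom.ext_zmod (f.comp (ULift.ringEquiv.symm : ZMod p ≃+* ULift.{u} (ZMod p)).toRingHom)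
    (g.comp (ULift.ringEquiv.symm : ZMod p ≃+* ULift.{u} (ZMod p)).toRingHom)
  ext x
  have h2 := DFunLike.congr_fun h x.down
  exact h2

theorem exists_ringHom_ulift_zmod (p : ℕ) {R : Type*} [CommRing R] (hp : (p : R) = 0) :
    Nonempty (ULift.{u} (ZMod p) →+* R) := by
  have h1 : ∀ a ∈ Ideal.span {(p : ℤ)}, Int.castRingHom R a = 0 := by
    intro a ha
    obtain ⟨b, rfl⟩ := Ideal.mem_span_singleton.mp ha
    simp [hp]
  exact ⟨((Ideal.Quotient.lift (Ideal.span {(p : ℤ)}) (Int.castRingHom R) h1).comp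
    (Int.quotientSpanNatEquivZMod p).symm.toRingHom).comp
    (ULift.ringEquiv : ULift.{u} (ZMod p) ≃+* ZMod p).toRingHom⟩

theorem exists_lift_charP (p : ℕ) [Fact p.Prime] {K C : Type u} [Field K] [CharP K p]
    [CommRing C] (hp : (p : C) = 0) (I : Ideal C) [IsAdicComplete I C] (f : K →+* C ⧸ I) :
    ∃ g : K →+* C, (Ideal.Quotient.mk I).comp g = f := by
  obtain ⟨φ⟩ := exists_ringHom_ulift_zmod.{u} p hp
  have hpK : (p : K) = 0 := CharP.cast_eq_zero K p
  obtain ⟨ψ⟩ := exists_ringHom_ulift_zmod.{u} p hpK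
  letI : Algebra (ULift.{u} (ZMod p)) C := φ.toAlgebra
  letI : Algebra (ULift.{u} (ZMod p)) K := ψ.toAlgebra
  have hfs : Algebra.FormallySmooth (ULift.{u} (ZMod p)) K :=
    Groth.Agent.Lib.Helper49.MacLane.formallySmooth_of_perfect p
  let f' : K →ₐ[ULift.{u} (ZMod p)] C ⧸ I :=
    { f with
      commutes' := fun x => by
        have := ringHom_ulift_zmod_ext.{u} p (f.comp (algebraMap (ULift.{u} (ZMod p)) K))
          (algebraMap (ULift.{u} (ZMod p)) (C ⧸ I))
        exact DFunLike.congr_fun this x }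
  obtain ⟨g, hg⟩ := Algebra.FormallySmooth.exists_mkₐ_comp_eq_of_isAdicComplete
    (R := ULift.{u} (ZMod p)) (I := I) f'
  refine ⟨g.toRingHom, RingHom.ext fun x => ?_⟩
  exact DFunLike.congr_fun hg x

theorem exists_lift (p : ℕ) {K C : Type u} [Field K] [CharP K p]
    [CommRing C] (hp : (p : C) = 0) (I : Ideal C) [IsAdicComplete I C] (f : K →+* C ⧸ I) :
    ∃ g : K →+* C, (Ideal.Quotient.mk I).comp g = f := by
  rcases CharP.char_is_prime_or_zero K p with hpp | rfl
  · haveI : Fact p.Prime := ⟨hpp⟩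
    exact exists_lift_charP p hp I f
  · haveI : CharZero K := CharP.charP_to_charZero K
    exact exists_lift_charZero I f

end Groth.Agent.Lib.Helper49.CoeffField
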