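import Mathlib

set_option autoImplicit false
set_option linter.style.haveILetI false
set_option linter.unusedSectionVars false
universe u

namespace Groth.Agent.Lib.Helper49.GeomRegFS

open TensorProduct IsLocalRing

section Loc

variable {k k' A : Type u} [Field k] [Field k'] [Algebra k k'] [CommRing A] [Algebra k A]
  (p : ℕ) [Fact p.Prime] [CharP k p]

theorem nontrivial_tensor [Nontrivial A] : Nontrivial (k' ⊗[k] A) :=
  Algebra.TensorProduct.nontrivial_of_algebraMap_injective_of_flat_left k k' A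
    (algebraMap k A).injective

theorem charP_tensor [Nontrivial A] : CharP (k' ⊗[k] A) p := by
  haveI := nontrivial_tensor (k := k) (k' := k') (A := A)
  exact charP_of_injective_algebraMap (algebraMap k (k' ⊗[k] A)).injective p

theorem exists_pow_eq [Nontrivial A] (hk' : ∀ x : k', x ^ p ∈ (algebraMap k k').range)
    (x : k' ⊗[k] A) : ∃ y : A, x ^ p = (1 : k') ⊗ₜ[k] y := by
  haveI := charP_tensor (k := k) (k' := k') (A := A) p
  induction x using TensorProduct.induction_on with
  | zero => exact ⟨0, by rw [zero_pow (Fact.out : p.Prime).ne_zero, TensorProduct.tmul_zero]⟩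
  | tmul l a =>
    obtain ⟨c, hc⟩ := hk' l
    refine ⟨c • a ^ p, ?_⟩
    rw [Algebra.TensorProduct.tmul_pow, ← hc, Algebra.algebraMap_eq_smul_one,
      TensorProduct.smul_tmul]
  | add x y hx hy =>
    obtain ⟨a, ha⟩ := hx
    obtain ⟨b, hb⟩ := hy
    exact ⟨a + b, by rw [add_pow_char, ha, hb, TensorProduct.tmul_add]⟩

theorem isLocalRing_tensor [IsLocalRing A] (hk' : ∀ x : k', x ^ p ∈ (algebraMap k k').range) :
    IsLocalRing (k' ⊗[k] A) := by
  haveI := nontrivial_tensor (k := k) (k' := k') (A := A)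
  haveI := charP_tensor (k := k) (k' := k') (A := A) p
  have hp : p ≠ 0 := (Fact.out : p.Prime).ne_zero
  refine IsLocalRing.of_isUnit_or_isUnit_one_sub_self fun x => ?_
  obtain ⟨y, hy⟩ := exists_pow_eq p hk' x
  have hinc : ∀ z : A, IsUnit z → IsUnit ((1 : k') ⊗ₜ[k] z) := fun z hz =>
    hz.map (Algebra.TensorProduct.includeRight : A →ₐ[k] k' ⊗[k] A)
  rcases IsLocalRing.isUnit_or_isUnit_one_sub_self y with h | h
  · left
    have := hinc y h
    rw [← hy] at this
    exact (isUnit_pow_iff hp).mp this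
  · right
    have := hinc _ h
    rw [TensorProduct.tmul_sub, ← hy, ← Algebra.TensorProduct.one_def] at this
    have h2 : (1 - x) ^ p = 1 - x ^ p := by
      rw [sub_pow_char, one_pow]
    rw [← h2] at this
    exact (isUnit_pow_iff hp).mp this

theorem isIntegral_includeRight [Nontrivial A] (hk' : ∀ x : k', x ^ p ∈ (algebraMap k k').range) :
    (Algebra.TensorProduct.includeRight : A →ₐ[k] k' ⊗[k] A).toRingHom.IsIntegral := by
  intro x
  obtain ⟨y, hy⟩ := exists_pow_eq p hk' x
  refine ⟨Polynomial.X ^ p - Polynomial.C y, Polynomial.monic_X_pow_sub_C y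
    (Fact.out : p.Prime).ne_zero, ?_⟩
  rw [Polynomial.eval₂_sub, Polynomial.eval₂_pow, Polynomial.eval₂_X, Polynomial.eval₂_C, hy]
  exact sub_self _

theorem ringKrullDim_le_of_isIntegral {R S : Type*} [CommRing R] [CommRing S] (f : R →+* S)
    (hf : f.IsIntegral) : ringKrullDim S ≤ ringKrullDim R := by
  letI := f.toAlgebra
  haveI : Algebra.IsIntegral R S := ⟨hf⟩
  refine Order.krullDim_le_of_strictMono (PrimeSpectrum.comap (algebraMap R S)) ?_
  intro p q hpq
  rw [← PrimeSpectrum.asIdeal_lt_asIdeal] at hpq ⊢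
  exact Ideal.IsIntegral.comap_lt_comap hpq

theorem ringKrullDim_tensor_le [Nontrivial A] (hk' : ∀ x : k', x ^ p ∈ (algebraMap k k').range) :
    ringKrullDim (k' ⊗[k] A) ≤ ringKrullDim A :=
  ringKrullDim_le_of_isIntegral _ (isIntegral_includeRight p hk')

end Loc


section Count

variable {A R : Type u} [CommRing A] [IsLocalRing A] [IsNoetherianRing A]
  [CommRing R] [IsLocalRing R] [IsNoetherianRing R]

theorem isLocalRing_quot_sq : IsLocalRing (A ⧸ maximalIdeal A ^ 2) := by
  have hne : maximalIdeal A ^ 2 ≠ ⊤ := fun h =>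
    (maximalIdeal.isMaximal A).ne_top (top_le_iff.mp (h ▸ Ideal.pow_le_self two_ne_zero))
  haveI : Nontrivial (A ⧸ maximalIdeal A ^ 2) := Ideal.Quotient.nontrivial_iff.mpr hne
  exact IsLocalRing.of_surjective' (Ideal.Quotient.mk _) Ideal.Quotient.mk_surjective

theorem spanFinrank_succ_le
    (ι : A →+* R) (Φ : R →+* DualNumber (A ⧸ maximalIdeal A ^ 2))
    (hι : ∀ x, Φ (ι x) = TrivSqZeroExt.inl (Ideal.Quotient.mk (maximalIdeal A ^ 2) x))
    (t : R) (ht : Φ t = DualNumber.eps) :
    (maximalIdeal A).spanFinrank + 1 ≤ (maximalIdeal R).spanFinrank := by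
  classical
  haveI := isLocalRing_quot_sq (A := A)
  set π := Ideal.Quotient.mk (maximalIdeal A ^ 2) with hπdef
  have hπs : Function.Surjective π := Ideal.Quotient.mk_surjective
  let φ1 : R →+* (A ⧸ maximalIdeal A ^ 2) :=
    (TrivSqZeroExt.fstHom (A ⧸ maximalIdeal A ^ 2) (A ⧸ maximalIdeal A ^ 2)
      (A ⧸ maximalIdeal A ^ 2)).toRingHom.comp Φ
  have hφ1 : ∀ x, φ1 x = (Φ x).fst := fun x => rfl
  have hφ1ι : ∀ x, φ1 (ι x) = π x := fun x => by rw [hφ1, hι, TrivSqZeroExt.fst_inl]
  have hφ1s : Function.Surjective φ1 := fun y => by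
    obtain ⟨x, rfl⟩ := hπs y
    exact ⟨ι x, hφ1ι x⟩
  haveI : IsLocalHom φ1 := Function.Surjective.isLocalHom _ hφ1s
  haveI : IsLocalHom π := Function.Surjective.isLocalHom _ hπs
  have hmem : ∀ s ∈ maximalIdeal R, φ1 s ∈ maximalIdeal (A ⧸ maximalIdeal A ^ 2) := by
    intro s hs
    rw [mem_maximalIdeal, mem_nonunits_iff] at hs ⊢
    exact fun h => hs (isUnit_of_map_unit φ1 s h)
  obtain ⟨S, hScard, hSspan⟩ := Submodule.FG.exists_span_finset_card_eq_spanFinrank
    (IsNoetherian.noetherian (maximalIdeal R))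
  have hSM : ∀ s ∈ S, s ∈ maximalIdeal R := fun s hs => by
    rw [← hSspan]; exact Submodule.subset_span hs
  have htM : t ∈ maximalIdeal R := by
    rw [mem_maximalIdeal, mem_nonunits_iff]
    intro h
    have h1 := h.map φ1
    rw [hφ1, ht, DualNumber.fst_eps] at h1
    exact not_isUnit_zero h1
  have hrep : ∀ y ∈ maximalIdeal R, ∃ r : R → R, y = ∑ s ∈ S, r s * s := by
    intro y hy
    rw [← hSspan] at hy
    obtain ⟨r, hr⟩ := (Submodule.mem_span_finset).mp hy
    refine ⟨r, ?_⟩
    rw [← hr.2]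
    rfl
  obtain ⟨r, hr⟩ := hrep t htM
  have h2 : (1 : A ⧸ maximalIdeal A ^ 2) =
      ∑ s ∈ S, (φ1 (r s) * (Φ s).snd + (Φ (r s)).snd * φ1 s) := by
    have := congrArg (fun z => (Φ z).snd) hr
    simp only [map_sum, map_mul, TrivSqZeroExt.snd_sum, DualNumber.snd_mul] at this
    rw [ht, DualNumber.snd_eps] at this
    exact this
  have hex : ∃ s0 ∈ S, IsUnit (φ1 (r s0)) := by
    by_contra hcon
    push_neg at hcon
    have : (1 : A ⧸ maximalIdeal A ^ 2) ∈ maximalIdeal (A ⧸ maximalIdeal A ^ 2) := by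
      rw [h2]
      refine Ideal.sum_mem _ fun s hs => Ideal.add_mem _ ?_ ?_
      · exact Ideal.mul_mem_right _ _ ((mem_maximalIdeal _).mpr (hcon s hs))
      · exact Ideal.mul_mem_left _ _ (hmem s (hSM s hs))
    exact (maximalIdeal.isMaximal _).ne_top ((Ideal.eq_top_iff_one _).mpr this)
  obtain ⟨s0, hs0, hu⟩ := hex
  let N0 : Ideal (A ⧸ maximalIdeal A ^ 2) := Ideal.span (φ1 '' ((S.erase s0 : Finset R) : Set R))
  have h3 : φ1 s0 ∈ N0 := by
    have h0 : (0 : A ⧸ maximalIdeal A ^ 2) = ∑ s ∈ S, φ1 (r s) * φ1 s := by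
      have := congrArg φ1 hr
      rw [hφ1, ht, DualNumber.fst_eps, map_sum] at this
      simpa only [map_mul] using this
    rw [← Finset.add_sum_erase S _ hs0] at h0
    have h4 : φ1 (r s0) * φ1 s0 = -∑ s ∈ S.erase s0, φ1 (r s) * φ1 s :=
      eq_neg_of_add_eq_zero_left h0.symm
    have h5 : φ1 (r s0) * φ1 s0 ∈ N0 := by
      rw [h4]
      refine N0.neg_mem (Ideal.sum_mem _ fun s hs => Ideal.mul_mem_left _ _ ?_)
      exact Ideal.subset_span ⟨s, hs, rfl⟩
    exact (Ideal.unit_mul_mem_iff_mem N0 hu).mp h5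
  have h6 : ∀ s ∈ S, φ1 s ∈ N0 := by
    intro s hs
    by_cases hss : s = s0
    · rw [hss]; exact h3
    · exact Ideal.subset_span ⟨s, Finset.mem_erase.mpr ⟨hss, hs⟩, rfl⟩
  have h7 : ∀ x ∈ maximalIdeal A, π x ∈ N0 := by
    intro x hx
    have hxM : ι x ∈ maximalIdeal R := by
      rw [mem_maximalIdeal, mem_nonunits_iff]
      intro h
      have h1 := h.map φ1
      rw [hφ1ι] at h1
      exact hx (isUnit_of_map_unit π x h1)
    obtain ⟨r', hr'⟩ := hrep _ hxM
    have := congrArg φ1 hr'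
    rw [hφ1ι, map_sum] at this
    rw [this]
    refine Ideal.sum_mem _ fun s hs => ?_
    rw [map_mul]
    exact Ideal.mul_mem_left _ _ (h6 s hs)
  let z : R → A := fun s => Function.surjInv hπs (φ1 s)
  have hz : ∀ s, π (z s) = φ1 s := fun s => Function.surjInv_eq hπs _
  let T : Finset A := (S.erase s0).image z
  have hTN : Ideal.map π (Ideal.span (T : Set A)) = N0 := by
    rw [Ideal.map_span]
    congr 1
    ext y
    simp only [T, Finset.coe_image, Set.mem_image, Finset.mem_coe]
    constructor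
    · rintro ⟨_, ⟨s, hs, rfl⟩, rfl⟩
      exact ⟨s, hs, (hz s).symm⟩
    · rintro ⟨s, hs, rfl⟩
      exact ⟨z s, ⟨s, hs, rfl⟩, hz s⟩
  have hTm : Ideal.span (T : Set A) ≤ maximalIdeal A := by
    rw [Ideal.span_le]
    intro y hy
    simp only [T, Finset.coe_image, Set.mem_image, Finset.mem_coe] at hy
    obtain ⟨s, hs, rfl⟩ := hy
    have hsS : s ∈ S := Finset.mem_of_mem_erase hs
    have h8 := hmem s (hSM s hsS)
    rw [← hz] at h8
    intro h
    exact h8 (h.map π)
  have hle : maximalIdeal A ≤ Ideal.span (T : Set A) ⊔ maximalIdeal A ^ 2 := by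
    intro x hx
    have h9 : π x ∈ Ideal.map π (Ideal.span (T : Set A)) := by rw [hTN]; exact h7 x hx
    have h10 : x ∈ (Ideal.map π (Ideal.span (T : Set A))).comap π := h9
    rwa [Ideal.comap_map_of_surjective _ hπs, ← RingHom.ker_eq_comap_bot, Ideal.mk_ker] at h10
  have hle2 : maximalIdeal A ≤ Ideal.span (T : Set A) := by
    apply Submodule.le_of_le_smul_of_le_jacobson_bot (I := maximalIdeal A)
      (IsNoetherian.noetherian _) (IsLocalRing.jacobson_eq_maximalIdeal _ bot_ne_top).ge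
    rw [smul_eq_mul, ← pow_two]
    exact hle
  have heq : maximalIdeal A = Ideal.span (T : Set A) := le_antisymm hle2 hTm
  have h11 : (maximalIdeal A).spanFinrank ≤ (S.erase s0).card := by
    calc (maximalIdeal A).spanFinrank = (Ideal.span (T : Set A)).spanFinrank := by rw [← heq]
      _ ≤ (T : Set A).ncard := Submodule.spanFinrank_span_le_ncard_of_finite T.finite_toSet
      _ = T.card := Set.ncard_coe_finset T
      _ ≤ (S.erase s0).card := Finset.card_image_le
  rw [Finset.card_erase_of_mem hs0, hScard] at h11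
  have hpos : 0 < S.card := Finset.card_pos.mpr ⟨s0, hs0⟩
  rw [hScard] at hpos
  omega

end Count


end Groth.Agent.Lib.Helper49.GeomRegFS
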