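import Groth.Agent.Lib.Helper49.PBasis
import Mathlib.FieldTheory.IntermediateField.Adjoin.Basic
import Mathlib.FieldTheory.Minpoly.Field
import Mathlib.FieldTheory.KummerPolynomial
import Mathlib.Algebra.CharP.Reduced
import Mathlib.Order.Zorn
import Mathlib.Data.Set.Finite.Lattice

set_option autoImplicit false
universe u

namespace Groth.Agent.Lib.Helper49.PBasis

open EGA41 Polynomial

section PowIndep

variable {k K : Type u} [Field k] [Field K] [Algebra k K]

theorem pow_indep (p : ℕ) [Fact p.Prime] [CharP K p] (F : IntermediateField k K) (y : K)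
    (hyp : y ^ p ∈ F) (hy : y ∉ F) (G : ℕ → K) (hG : ∀ j, G j ∈ F)
    (hsum : ∑ j ∈ Finset.range p, G j * y ^ j = 0) : ∀ j < p, G j = 0 := by
  have hp : p.Prime := Fact.out
  let a : F := ⟨y ^ p, hyp⟩
  have hirr : Irreducible (X ^ p - C a : F[X]) := by
    refine X_pow_sub_C_irreducible_of_prime hp fun b hb => hy ?_
    have h1 : (b : K) ^ p = y ^ p := congrArg Subtype.val hb
    have h2 : (b : K) = y := frobenius_inj K p h1
    rw [← h2]
    exact b.2
  have hroot : aeval y (X ^ p - C a : F[X]) = 0 := by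
    simp [a]
  have hmin : (X ^ p - C a : F[X]) = minpoly F y :=
    minpoly.eq_of_irreducible_of_monic hirr hroot (monic_X_pow_sub_C _ hp.ne_zero)
  let P : F[X] := ∑ j : Fin p, C (⟨G j, hG j⟩ : F) * X ^ (j : ℕ)
  have hPdeg : P.degree < p := degree_sum_fin_lt _
  have hPy : aeval y P = 0 := by
    simp only [P, map_sum, map_mul, aeval_C, map_pow, aeval_X]
    rw [← hsum, Finset.sum_range]
    rfl
  have hP0 : P = 0 := by
    by_contra hne
    have h1 := minpoly.degree_le_of_ne_zero F y hne hPy
    rw [← hmin, degree_X_pow_sub_C hp.pos] at h1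
    exact absurd (lt_of_le_of_lt h1 hPdeg) (lt_irrefl _)
  intro j hj
  have hc : P.coeff j = ⟨G j, hG j⟩ := by
    simp only [P, finsetSum_coeff, coeff_C_mul_X_pow]
    rw [Finset.sum_eq_single ⟨j, hj⟩]
    · simp
    · intro i _ hi
      have : j ≠ (i : ℕ) := fun h => hi (Fin.ext h.symm)
      simp [this]
    · intro h
      exact absurd (Finset.mem_univ _) h
  rw [hP0, coeff_zero] at hc
  exact (congrArg Subtype.val hc).symm

end PowIndep

section Criterion

variable {k K : Type u} [Field k] [Field K] [Algebra k K] {p : ℕ} {ι : Type u}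

theorem inv_mem_pPower [Fact p.Prime] (c : K) (hc : c ∈ pPowerSubalgebra p k K) :
    c⁻¹ ∈ pPowerSubalgebra p k K := by
  have hp : p.Prime := Fact.out
  by_cases h0 : c = 0
  · rw [h0, inv_zero]
    exact zero_mem _
  · have h1 : c⁻¹ = c ^ (p - 1) * (c⁻¹) ^ p := by
      rw [inv_pow, ← pow_sub_one_mul hp.ne_zero c, mul_inv, ← mul_assoc,
        mul_inv_cancel₀ (pow_ne_zero _ h0), one_mul]
    rw [h1]
    exact mul_mem (pow_mem hc _) (pow_mem_pPower p k _)

theorem pPower_le_adjoin (S : Set K) (c : K) (hc : c ∈ pPowerSubalgebra p k K) :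
    c ∈ IntermediateField.adjoin k ((Set.range fun y : K => y ^ p) ∪ S) := by
  have h : pPowerSubalgebra p k K ≤
      (IntermediateField.adjoin k ((Set.range fun y : K => y ^ p) ∪ S)).toSubalgebra := by
    refine Algebra.adjoin_le ?_
    intro y hy
    exact IntermediateField.subset_adjoin k _ (Or.inl hy)
  exact h hc

theorem pMonomial_erase (x : ι → K) (a : ι) (e : ι →₀ ℕ) :
    pMonomial x e = x a ^ e a * pMonomial x (e.erase a) := by
  conv_lhs => rw [← Finsupp.single_add_erase a e, pMonomial_add, pMonomial_single]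

theorem pMonomial_mem_of_forall {S : Type*} [SetLike S K] [SubmonoidClass S K] (F : S)
    (x : ι → K) (e : ι →₀ ℕ) (h : ∀ i ∈ e.support, x i ∈ F) : pMonomial x e ∈ F := by
  unfold pMonomial
  exact prod_mem fun i hi => pow_mem (h i hi) _

theorem single_one_lt [Fact p.Prime] (b : ι) (i : ι) : (Finsupp.single b 1 : ι →₀ ℕ) i < p := by
  classical
  have hp : p.Prime := Fact.out
  rw [Finsupp.single_apply]
  split_ifs
  · exact hp.one_lt
  · exact hp.pos

theorem adjoin_le_span [Fact p.Prime] (x : ι → K) (J : Set ι) (y : K)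
    (hy : y ∈ IntermediateField.adjoin k ((Set.range fun y : K => y ^ p) ∪ x '' J)) :
    y ∈ Submodule.span (pPowerSubalgebra p k K)
      ((fun e : {e : ι →₀ ℕ // ∀ i, e i < p} => pMonomial x e.1) ''
        {e | ∀ i, e.1 i ≠ 0 → i ∈ J}) := by
  classical
  have hp : p.Prime := Fact.out
  let v : {e : ι →₀ ℕ // ∀ i, e i < p} → K := fun e => pMonomial x e.1
  let T : Set {e : ι →₀ ℕ // ∀ i, e i < p} := {e | ∀ i, e.1 i ≠ 0 → i ∈ J}
  let W : Submodule (pPowerSubalgebra p k K) K := Submodule.span _ (v '' T)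
  have hone : (1 : K) ∈ W := by
    refine Submodule.subset_span ⟨⟨0, fun i => hp.pos⟩, ?_, pMonomial_zero x⟩
    intro i hi
    exact absurd rfl hi
  have hL : ∀ c ∈ pPowerSubalgebra p k K, c ∈ W := by
    intro c hc
    have : c = (⟨c, hc⟩ : pPowerSubalgebra p k K) • (1 : K) := by
      rw [Algebra.smul_def, mul_one]
      rfl
    rw [this]
    exact Submodule.smul_mem _ _ hone
  have hmul : ∀ y y', y ∈ W → y' ∈ W → y * y' ∈ W := by
    intro y y' hy hy'
    induction hy, hy' using Submodule.span_induction₂ with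
    | mem_mem y y' hy hy' =>
      obtain ⟨e, he, rfl⟩ := hy
      obtain ⟨e', he', rfl⟩ := hy'
      change pMonomial x e.1 * pMonomial x e'.1 ∈ W
      rw [← pMonomial_add, pMonomial_eq_smul (p := p) (A := k)]
      refine Submodule.smul_mem _ _ (Submodule.subset_span
        ⟨⟨emod p (e.1 + e'.1), emod_lt hp.pos _⟩, ?_, rfl⟩)
      intro i hi
      change emod p (e.1 + e'.1) i ≠ 0 at hi
      rw [emod_apply, Finsupp.add_apply] at hi
      by_cases h1 : e.1 i = 0
      · by_cases h2 : e'.1 i = 0
        · rw [h1, h2] at hi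
          exact absurd (Nat.zero_mod p) hi
        · exact he' i h2
      · exact he i h1
    | zero_left y hy => rw [zero_mul]; exact zero_mem _
    | zero_right y hy => rw [mul_zero]; exact zero_mem _
    | add_left y y' z _ _ _ h1 h2 => rw [add_mul]; exact add_mem h1 h2
    | add_right y y' z _ _ _ h1 h2 => rw [mul_add]; exact add_mem h1 h2
    | smul_left c y z _ _ h => rw [smul_mul_assoc]; exact Submodule.smul_mem _ _ h
    | smul_right c y z _ _ h => rw [mul_smul_comm]; exact Submodule.smul_mem _ _ h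
  have hpowW : ∀ (y : K) (n : ℕ), y ∈ W → y ^ n ∈ W := by
    intro y n hy
    induction n with
    | zero => rw [pow_zero]; exact hone
    | succ n ih => rw [pow_succ]; exact hmul _ _ ih hy
  induction hy using IntermediateField.adjoin_induction with
  | mem y hy =>
    rcases hy with ⟨y, rfl⟩ | ⟨b, hb, rfl⟩
    · exact hL _ (pow_mem_pPower p k y)
    · refine Submodule.subset_span ⟨⟨Finsupp.single b 1, single_one_lt b⟩, ?_, ?_⟩
      · intro i hi
        change (Finsupp.single b 1 : ι →₀ ℕ) i ≠ 0 at hi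
        rw [Finsupp.single_apply] at hi
        by_cases hbi : b = i
        · exact hbi ▸ hb
        · rw [if_neg hbi] at hi
          exact absurd rfl hi
      · change pMonomial x (Finsupp.single b 1) = x b
        rw [pMonomial_single, pow_one]
  | algebraMap c => exact hL _ (Subalgebra.algebraMap_mem _ c)
  | add y y' _ _ h1 h2 => exact add_mem h1 h2
  | inv y _ h =>
    by_cases h0 : y = 0
    · rw [h0, inv_zero]
      exact zero_mem _
    · have h1 : y⁻¹ = y ^ (p - 1) * (y⁻¹) ^ p := by
        rw [inv_pow, ← pow_sub_one_mul hp.ne_zero y, mul_inv, ← mul_assoc,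
          mul_inv_cancel₀ (pow_ne_zero _ h0), one_mul]
      rw [h1]
      exact hmul _ _ (hpowW _ _ h) (hL _ (pow_mem_pPower p k _))
  | mul y y' _ _ h1 h2 => exact hmul _ _ h1 h2

theorem not_mem_of_pIndependent [Fact p.Prime] {x : ι → K} (hx : IsPIndependent p k x) (a : ι) :
    x a ∉ IntermediateField.adjoin k ((Set.range fun y : K => y ^ p) ∪ x '' {b | b ≠ a}) := by
  classical
  intro hxa
  have hmem := adjoin_le_span x {b | b ≠ a} _ hxa
  have hnt : Nontrivial (pPowerSubalgebra p k K) := inferInstance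
  refine LinearIndependent.notMem_span_image hx
    (s := {e | ∀ i, e.1 i ≠ 0 → i ∈ {b | b ≠ a}}) (x := ⟨Finsupp.single a 1, single_one_lt a⟩) ?_ ?_
  · intro hcon
    exact hcon a (by simp) rfl
  · change pMonomial x (Finsupp.single a 1) ∈ _
    rw [pMonomial_single, pow_one]
    exact hmem

theorem span_le_adjoin (x : ι → K) (y : K)
    (hy : y ∈ Submodule.span (pPowerSubalgebra p k K)
      (Set.range fun e : {e : ι →₀ ℕ // ∀ i, e i < p} => pMonomial x e.1)) :
    y ∈ IntermediateField.adjoin k ((Set.range fun y : K => y ^ p) ∪ Set.range x) := by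
  induction hy using Submodule.span_induction with
  | mem y hy =>
    obtain ⟨e, rfl⟩ := hy
    exact pMonomial_mem_of_forall _ x _ fun i _ =>
      IntermediateField.subset_adjoin k _ (Or.inr ⟨i, rfl⟩)
  | zero => exact zero_mem _
  | add a b _ _ ha hb => exact add_mem ha hb
  | smul c b _ hb =>
    rw [Algebra.smul_def]
    exact mul_mem (pPower_le_adjoin _ _ c.2) hb

theorem pGenerating_iff [Fact p.Prime] (x : ι → K) :
    IsPGenerating p k x ↔
      IntermediateField.adjoin k ((Set.range fun y : K => y ^ p) ∪ Set.range x) = ⊤ := by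
  constructor
  · intro hx
    rw [eq_top_iff]
    intro y _
    refine span_le_adjoin x y ?_
    rw [hx]
    trivial
  · intro h
    unfold IsPGenerating
    rw [eq_top_iff]
    intro y _
    have hy : y ∈ IntermediateField.adjoin k
        ((Set.range fun y : K => y ^ p) ∪ x '' Set.univ) := by
      rw [Set.image_univ, h]
      trivial
    have := adjoin_le_span x Set.univ y hy
    refine Submodule.span_mono ?_ this
    rintro _ ⟨e, _, rfl⟩
    exact ⟨e, rfl⟩

theorem pIndependent_of_not_mem [Fact p.Prime] [CharP K p] {x : ι → K}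
    (h : ∀ a, x a ∉ IntermediateField.adjoin k
      ((Set.range fun y : K => y ^ p) ∪ x '' {b | b ≠ a})) : IsPIndependent p k x := by
  classical
  have hp : p.Prime := Fact.out
  have hx0 : ∀ a, x a ≠ 0 := fun a h0 => h a (h0 ▸ zero_mem _)
  have hv0 : ∀ e : ι →₀ ℕ, pMonomial x e ≠ 0 := by
    intro e
    unfold pMonomial
    rw [Finsupp.prod, Finset.prod_ne_zero_iff]
    exact fun i _ => pow_ne_zero _ (hx0 i)
  unfold IsPIndependent
  rw [linearIndependent_iff']
  intro s
  induction s using Finset.strongInduction with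
  | H s ih =>
    intro g hsum
    by_cases hs : ∃ e₁ ∈ s, ∃ e₂ ∈ s, e₁ ≠ e₂
    · obtain ⟨e₁, he₁, e₂, he₂, hne⟩ := hs
      obtain ⟨a, ha⟩ : ∃ a, e₁.1 a ≠ e₂.1 a := by
        by_contra hcon
        push Not at hcon
        exact hne (Subtype.ext (Finsupp.ext hcon))
      set F := IntermediateField.adjoin k
        ((Set.range fun y : K => y ^ p) ∪ x '' {b | b ≠ a}) with hF
      let m : {e : ι →₀ ℕ // ∀ i, e i < p} → K := fun e => pMonomial x (e.1.erase a)
      have hm : ∀ e, m e ∈ F := by
        intro e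
        refine pMonomial_mem_of_forall F x _ fun i hi => ?_
        have hia : i ≠ a := by
          intro hia
          rw [hia] at hi
          simp at hi
        exact IntermediateField.subset_adjoin k _ (Or.inr ⟨i, hia, rfl⟩)
      have hv : ∀ e : {e : ι →₀ ℕ // ∀ i, e i < p}, pMonomial x e.1 = x a ^ e.1 a * m e :=
        fun e => pMonomial_erase x a e.1
      let G : ℕ → K := fun j => ∑ e ∈ s with e.1 a = j, (g e : K) * m e
      have hG : ∀ j, G j ∈ F := fun j =>
        sum_mem fun e _ => mul_mem (pPower_le_adjoin _ _ (g e).2) (hm e)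
      have hfib : ∀ j, ∑ e ∈ s with e.1 a = j, g e • pMonomial x e.1 = G j * x a ^ j := by
        intro j
        rw [Finset.sum_mul]
        refine Finset.sum_congr rfl fun e he => ?_
        have hej : e.1 a = j := (Finset.mem_filter.mp he).2
        rw [Algebra.smul_def, hv e, hej]
        change (g e : K) * (x a ^ j * m e) = (g e : K) * m e * x a ^ j
        ring
      have hsum' : ∑ j ∈ Finset.range p, G j * x a ^ j = 0 := by
        rw [← hsum, ← Finset.sum_fiberwise_of_maps_to (t := Finset.range p)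
          (g := fun e : {e : ι →₀ ℕ // ∀ i, e i < p} => e.1 a)
          (fun e _ => Finset.mem_range.mpr (e.2 a))]
        exact Finset.sum_congr rfl fun j _ => (hfib j).symm
      have hG0 := pow_indep p F (x a)
        (IntermediateField.subset_adjoin k _ (Or.inl ⟨x a, rfl⟩)) (h a) G hG hsum'
      intro e he
      have hsub : (s.filter fun e' => e'.1 a = e.1 a) ⊂ s := by
        refine Finset.filter_ssubset.mpr ?_
        by_cases h1 : e₁.1 a = e.1 a
        · exact ⟨e₂, he₂, fun h2 => ha (h1.trans h2.symm)⟩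
        · exact ⟨e₁, he₁, h1⟩
      refine ih _ hsub g ?_ e (Finset.mem_filter.mpr ⟨he, rfl⟩)
      rw [hfib, hG0 _ (e.2 a), zero_mul]
    · push Not at hs
      intro e he
      have hs' : s = {e} := by
        ext e'
        rw [Finset.mem_singleton]
        exact ⟨fun he' => hs e' he' e he, fun h' => h' ▸ he⟩
      rw [hs', Finset.sum_singleton] at hsum
      rcases smul_eq_zero.mp hsum with h0 | h0
      · exact h0
      · exact absurd h0 (hv0 _)

theorem pIndependent_iff [Fact p.Prime] [CharP K p] (x : ι → K) :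
    IsPIndependent p k x ↔ ∀ a : ι, x a ∉ IntermediateField.adjoin k
      ((Set.range fun y : K => y ^ p) ∪ x '' {b | b ≠ a}) :=
  ⟨fun hx a => not_mem_of_pIndependent hx a, pIndependent_of_not_mem⟩

end Criterion

section Exchange

variable {k K : Type u} [Field k] [Field K] [Algebra k K] {p : ℕ}

theorem repr_adjoin_simple [Fact p.Prime] (M : IntermediateField k K) (hM : ∀ y : K, y ^ p ∈ M)
    (s : K) (y : K) (hy : y ∈ IntermediateField.adjoin k ((M : Set K) ∪ {s})) :
    ∃ G : ℕ → K, (∀ j, G j ∈ M) ∧ y = ∑ j ∈ Finset.range p, G j * s ^ j := by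
  classical
  have hp : p.Prime := Fact.out
  let W : Submodule M K := Submodule.span M (Set.range fun j : Fin p => s ^ (j : ℕ))
  have hone : (1 : K) ∈ W :=
    Submodule.subset_span ⟨⟨0, hp.pos⟩, pow_zero s⟩
  have hL : ∀ c ∈ M, c ∈ W := by
    intro c hc
    have : c = (⟨c, hc⟩ : M) • (1 : K) := by
      rw [Algebra.smul_def, mul_one]
      rfl
    rw [this]
    exact Submodule.smul_mem _ _ hone
  have hspow : ∀ n : ℕ, s ^ n ∈ W := by
    intro n
    have h1 : s ^ n = (⟨(s ^ p) ^ (n / p), pow_mem (hM s) _⟩ : M) • s ^ (n % p) := by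
      rw [Algebra.smul_def]
      change s ^ n = (s ^ p) ^ (n / p) * s ^ (n % p)
      rw [← pow_mul, ← pow_add, Nat.div_add_mod]
    rw [h1]
    exact Submodule.smul_mem _ _ (Submodule.subset_span ⟨⟨n % p, Nat.mod_lt _ hp.pos⟩, rfl⟩)
  have hmul : ∀ y y', y ∈ W → y' ∈ W → y * y' ∈ W := by
    intro y y' hy hy'
    induction hy, hy' using Submodule.span_induction₂ with
    | mem_mem y y' hy hy' =>
      obtain ⟨i, rfl⟩ := hy
      obtain ⟨j, rfl⟩ := hy'
      change s ^ (i : ℕ) * s ^ (j : ℕ) ∈ W
      rw [← pow_add]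
      exact hspow _
    | zero_left y hy => rw [zero_mul]; exact zero_mem _
    | zero_right y hy => rw [mul_zero]; exact zero_mem _
    | add_left y y' z _ _ _ h1 h2 => rw [add_mul]; exact add_mem h1 h2
    | add_right y y' z _ _ _ h1 h2 => rw [mul_add]; exact add_mem h1 h2
    | smul_left c y z _ _ h => rw [smul_mul_assoc]; exact Submodule.smul_mem _ _ h
    | smul_right c y z _ _ h => rw [mul_smul_comm]; exact Submodule.smul_mem _ _ h
  have hpowW : ∀ (y : K) (n : ℕ), y ∈ W → y ^ n ∈ W := by
    intro y n hy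
    induction n with
    | zero => rw [pow_zero]; exact hone
    | succ n ih => rw [pow_succ]; exact hmul _ _ ih hy
  have hW : y ∈ W := by
    induction hy using IntermediateField.adjoin_induction with
    | mem y hy =>
      rcases hy with hy | hy
      · exact hL _ hy
      · rw [Set.mem_singleton_iff.mp hy]
        have := hspow 1
        rwa [pow_one] at this
    | algebraMap c => exact hL _ (M.algebraMap_mem c)
    | add y y' _ _ h1 h2 => exact add_mem h1 h2
    | inv y _ h =>
      by_cases h0 : y = 0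
      · rw [h0, inv_zero]
        exact zero_mem _
      · have h1 : y⁻¹ = y ^ (p - 1) * (y⁻¹) ^ p := by
          rw [inv_pow, ← pow_sub_one_mul hp.ne_zero y, mul_inv, ← mul_assoc,
            mul_inv_cancel₀ (pow_ne_zero _ h0), one_mul]
        rw [h1]
        exact hmul _ _ (hpowW _ _ h) (hL _ (hM _))
    | mul y y' _ _ h1 h2 => exact hmul _ _ h1 h2
  obtain ⟨c, hc⟩ := (Submodule.mem_span_range_iff_exists_fun M).mp hW
  refine ⟨fun j => if h : j < p then (c ⟨j, h⟩ : K) else 0, fun j => ?_, ?_⟩
  · by_cases h : j < p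
    · simp only [h, dite_true]
      exact (c ⟨j, h⟩).2
    · simp only [h, dite_false]
      exact zero_mem _
  · rw [← hc, Finset.sum_range]
    refine Finset.sum_congr rfl fun j _ => ?_
    rw [Algebra.smul_def]
    simp only [j.2, dite_true]
    rfl

theorem exchange [Fact p.Prime] [CharP K p] (M : IntermediateField k K)
    (hM : ∀ y : K, y ^ p ∈ M) (b s : K) (hb : b ∉ M)
    (hbs : b ∈ IntermediateField.adjoin k ((M : Set K) ∪ {s})) :
    s ∈ IntermediateField.adjoin k ((M : Set K) ∪ {b}) := by
  classical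
  have hp : p.Prime := Fact.out
  by_contra hs
  obtain ⟨G, hG, hsum⟩ := repr_adjoin_simple M hM s b hbs
  set F₁ := IntermediateField.adjoin k ((M : Set K) ∪ {b}) with hF₁
  have hMF : ∀ c ∈ M, c ∈ F₁ := fun c hc =>
    IntermediateField.subset_adjoin k _ (Or.inl hc)
  have hbF : b ∈ F₁ := IntermediateField.subset_adjoin k _ (Or.inr rfl)
  let G' : ℕ → K := fun j => G j - if j = 0 then b else 0
  have hG' : ∀ j, G' j ∈ F₁ := by
    intro j
    refine sub_mem (hMF _ (hG j)) ?_
    split_ifs
    · exact hbF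
    · exact zero_mem _
  have hsum' : ∑ j ∈ Finset.range p, G' j * s ^ j = 0 := by
    simp only [G', sub_mul, Finset.sum_sub_distrib]
    rw [← hsum, Finset.sum_eq_single 0]
    · simp
    · intro j _ hj
      simp [hj]
    · intro h0
      exact absurd (Finset.mem_range.mpr hp.pos) h0
  have h0 := pow_indep p F₁ s (hMF _ (hM s)) hs G' hG' hsum' 0 hp.pos
  have hb' : b = G 0 := by
    have : G 0 - b = 0 := by simpa [G'] using h0
    exact (sub_eq_zero.mp this).symm
  exact hb (hb' ▸ hG 0)

end Exchange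

section Sets

variable {k K : Type u} [Field k] [Field K] [Algebra k K] {p : ℕ}

theorem indep_set_iff [Fact p.Prime] [CharP K p] (T : Set K) :
    IsPIndependent p k (Subtype.val : T → K) ↔
      ∀ t ∈ T, t ∉ IntermediateField.adjoin k ((Set.range fun y : K => y ^ p) ∪ (T \ {t})) := by
  rw [pIndependent_iff]
  have himg : ∀ a : T, (Subtype.val : T → K) '' {b | b ≠ a} = T \ {a.1} := by
    intro a
    ext y
    constructor
    · rintro ⟨b, hb, rfl⟩
      exact ⟨b.2, fun h => hb (Subtype.ext h)⟩
    · rintro ⟨hy, hya⟩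
      exact ⟨⟨y, hy⟩, fun h => hya (congrArg Subtype.val h), rfl⟩
  constructor
  · intro h t ht
    have := h ⟨t, ht⟩
    rwa [himg] at this
  · intro h a
    rw [himg]
    exact h a.1 a.2

theorem gen_set_iff [Fact p.Prime] (T : Set K) :
    IsPGenerating p k (Subtype.val : T → K) ↔
      IntermediateField.adjoin k ((Set.range fun y : K => y ^ p) ∪ T) = ⊤ := by
  rw [pGenerating_iff, Subtype.range_val]

theorem indep_insert [Fact p.Prime] [CharP K p] (B : Set K) (s : K)
    (hBind : ∀ t ∈ B, t ∉ IntermediateField.adjoin k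
      ((Set.range fun y : K => y ^ p) ∪ (B \ {t})))
    (hscl : s ∉ IntermediateField.adjoin k ((Set.range fun y : K => y ^ p) ∪ B)) :
    ∀ t ∈ insert s B, t ∉ IntermediateField.adjoin k
      ((Set.range fun y : K => y ^ p) ∪ (insert s B \ {t})) := by
  classical
  let P : Set K := Set.range fun y : K => y ^ p
  let cl : Set K → IntermediateField k K := fun T => IntermediateField.adjoin k (P ∪ T)
  have hclP : ∀ (T : Set K) (y : K), y ^ p ∈ cl T := fun T y =>
    IntermediateField.subset_adjoin k _ (Or.inl ⟨y, rfl⟩)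
  have hclT : ∀ T : Set K, T ⊆ (cl T : Set K) := fun T y hy =>
    IntermediateField.subset_adjoin k _ (Or.inr hy)
  have hmono : ∀ T T' : Set K, T ⊆ T' → cl T ≤ cl T' := fun T T' h =>
    IntermediateField.adjoin.mono k _ _ (Set.union_subset_union_right _ h)
  have hsB : s ∉ B := fun h => hscl (hclT B h)
  rintro t (rfl | htB) htcl
  · refine hscl (hmono _ _ ?_ htcl)
    rintro y ⟨hy | hy, hyt⟩
    · exact absurd hy hyt
    · exact hy
  · have hts : t ≠ s := fun h => hsB (h ▸ htB)
    set M := cl (B \ {t}) with hMdef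
    have h1 : t ∈ IntermediateField.adjoin k ((M : Set K) ∪ {s}) := by
      refine IntermediateField.adjoin.mono k _ _ ?_ htcl
      rintro y (hy | ⟨hy | hy, hyt⟩)
      · exact Or.inl (IntermediateField.subset_adjoin k _ (Or.inl hy))
      · exact Or.inr hy
      · exact Or.inl (hclT _ ⟨hy, hyt⟩)
    have h2 := exchange M (hclP _) t s (hBind t htB) h1
    refine hscl ?_
    have h3 : IntermediateField.adjoin k ((M : Set K) ∪ {t}) ≤ cl B := by
      rw [IntermediateField.adjoin_le_iff]
      rintro y (hy | hy)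
      · exact hmono _ _ Set.sdiff_subset hy
      · rw [Set.mem_singleton_iff.mp hy]
        exact hclT B htB
    exact h3 h2

theorem exists_maximal_indep [Fact p.Prime] [CharP K p] (S L : Set K) (hLS : L ⊆ S)
    (hL : IsPIndependent p k (Subtype.val : L → K)) :
    ∃ B : Set K, L ⊆ B ∧ B ⊆ S ∧ IsPIndependent p k (Subtype.val : B → K) ∧
      S ⊆ (IntermediateField.adjoin k ((Set.range fun y : K => y ^ p) ∪ B) : Set K) := by
  classical
  let P : Set K := Set.range fun y : K => y ^ p
  let cl : Set K → IntermediateField k K := fun T => IntermediateField.adjoin k (P ∪ T)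
  have hclT : ∀ T : Set K, T ⊆ (cl T : Set K) := fun T y hy =>
    IntermediateField.subset_adjoin k _ (Or.inr hy)
  have hindep : ∀ T : Set K, IsPIndependent p k (Subtype.val : T → K) ↔
      ∀ t ∈ T, t ∉ cl (T \ {t}) := indep_set_iff
  let 𝒮 : Set (Set K) := {B | L ⊆ B ∧ B ⊆ S ∧ ∀ t ∈ B, t ∉ cl (B \ {t})}
  have hL𝒮 : L ∈ 𝒮 := ⟨subset_rfl, hLS, (hindep L).mp hL⟩
  obtain ⟨B, hLB, hBmax⟩ := zorn_subset_nonempty 𝒮 (by
    intro c hc𝒮 hchain hne
    refine ⟨⋃₀ c, ⟨?_, ?_, ?_⟩, fun s hs => Set.subset_sUnion_of_mem hs⟩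
    · obtain ⟨B₀, hB₀⟩ := hne
      exact (hc𝒮 hB₀).1.trans (Set.subset_sUnion_of_mem hB₀)
    · exact Set.sUnion_subset fun B₀ hB₀ => (hc𝒮 hB₀).2.1
    · intro t ht htcl
      obtain ⟨T', hT'sub, htT'⟩ := IntermediateField.exists_finset_of_mem_adjoin htcl
      let T'' : Set K := insert t {y | y ∈ T' ∧ y ∈ ⋃₀ c}
      have hfin : T''.Finite :=
        Set.Finite.insert _ (T'.finite_toSet.subset fun y hy => hy.1)
      have hsub : T'' ⊆ ⋃₀ c := by
        rintro y (rfl | hy)
        · exact ht
        · exact hy.2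
      obtain ⟨B₀, hB₀c, hB₀⟩ :=
        DirectedOn.exists_mem_subset_of_finite_of_subset_sUnion hne hchain.directedOn hfin hsub
      have htB₀ : t ∈ B₀ := hB₀ (Set.mem_insert _ _)
      refine (hc𝒮 hB₀c).2.2 t htB₀ ?_
      refine IntermediateField.adjoin.mono k _ _ ?_ htT'
      intro y hy
      rcases hT'sub hy with hyP | ⟨hyU, hyt⟩
      · exact Or.inl hyP
      · exact Or.inr ⟨hB₀ (Set.mem_insert_of_mem _ ⟨hy, hyU⟩), hyt⟩) L hL𝒮
  obtain ⟨hLB', hBS, hBind⟩ := hBmax.prop
  refine ⟨B, hLB', hBS, (hindep B).mpr hBind, ?_⟩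
  intro s hs
  by_contra hscl
  have hsB : s ∉ B := fun h => hscl (hclT B h)
  have hins : insert s B ∈ 𝒮 :=
    ⟨hLB'.trans (Set.subset_insert _ _), Set.insert_subset hs hBS, indep_insert B s hBind hscl⟩
  exact hsB (hBmax.le_of_ge hins (Set.subset_insert _ _) (Set.mem_insert _ _))

theorem exists_pBasis_between [Fact p.Prime] [CharP K p] (S L : Set K) (hLS : L ⊆ S)
    (hS : IsPGenerating p k (Subtype.val : S → K))
    (hL : IsPIndependent p k (Subtype.val : L → K)) :
    ∃ B : Set K, L ⊆ B ∧ B ⊆ S ∧ IsPBasis p k (Subtype.val : B → K) := by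
  obtain ⟨B, hLB, hBS, hBind, hSB⟩ := exists_maximal_indep S L hLS hL
  refine ⟨B, hLB, hBS, hBind, (gen_set_iff B).mpr ?_⟩
  rw [eq_top_iff, ← (gen_set_iff S).mp hS, IntermediateField.adjoin_le_iff]
  rintro y (hy | hy)
  · exact IntermediateField.subset_adjoin k _ (Or.inl hy)
  · exact hSB hy

end Sets

section DerivField

variable {k K : Type u} [Field k] [Field K] [Algebra k K] {p : ℕ}

theorem derivation_mem_span [Fact p.Prime] [CharP K p] {M : Type*} [AddCommGroup M] [Module k M]
    [Module K M] [IsScalarTower k K M] (D : Derivation k K M) (J : Set K) (y : K)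
    (hy : y ∈ IntermediateField.adjoin k ((Set.range fun y : K => y ^ p) ∪ J)) :
    D y ∈ Submodule.span K (D '' J) := by
  induction hy using IntermediateField.adjoin_induction with
  | mem y hy =>
    rcases hy with ⟨z, rfl⟩ | hy
    · change D (z ^ p) ∈ _
      rw [Derivation.leibniz_pow, ← Nat.cast_smul_eq_nsmul K, CharP.cast_eq_zero, zero_smul]
      exact zero_mem _
    · exact Submodule.subset_span ⟨y, hy, rfl⟩
  | algebraMap c =>
    rw [D.map_algebraMap]
    exact zero_mem _
  | add y y' _ _ h1 h2 =>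
    rw [map_add]
    exact add_mem h1 h2
  | inv y _ h =>
    rw [Derivation.leibniz_inv]
    exact Submodule.smul_mem _ _ h
  | mul y y' _ _ h1 h2 =>
    rw [Derivation.leibniz]
    exact add_mem (Submodule.smul_mem _ _ h2) (Submodule.smul_mem _ _ h1)

end DerivField

end Groth.Agent.Lib.Helper49.PBasis
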