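import Groth.Agent.Lib.Helper49.PBasisTower
import Mathlib.RingTheory.Kaehler.Basic

set_option autoImplicit false
universe u

namespace Groth.Agent.Lib.Helper49.PBasis

open EGA41

section KaehlerRaw

variable {p : ℕ} [Fact p.Prime] {B : Type u} [CommRing B] [CharP B p] {ι : Type u}

theorem pPower_ulift_carrier :
    letI : Algebra (ULift.{u} ℤ) B := ULift.algebra' ℤ B
    (pPowerSubalgebra p (ULift.{u} ℤ) B : Set B) = Set.range fun b : B => b ^ p := by
  let _ : Algebra (ULift.{u} ℤ) B := ULift.algebra' ℤ B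
  ext c
  constructor
  · intro hc
    induction hc using Algebra.adjoin_induction with
    | mem c hc => exact hc
    | algebraMap n =>
      refine ⟨algebraMap (ULift.{u} ℤ) B n, ?_⟩
      change (algebraMap (ULift.{u} ℤ) B n) ^ p = algebraMap (ULift.{u} ℤ) B n
      rw [ULift.algebraMap_apply', eq_intCast]
      exact map_intCast (frobenius B p) n.down
    | add a b _ _ ha hb =>
      obtain ⟨a, rfl⟩ := ha
      obtain ⟨b, rfl⟩ := hb
      exact ⟨a + b, add_pow_char a b p⟩
    | mul a b _ _ ha hb =>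
      obtain ⟨a, rfl⟩ := ha
      obtain ⟨b, rfl⟩ := hb
      exact ⟨a * b, mul_pow a b p⟩
  · rintro ⟨b, rfl⟩
    exact pow_mem_pPower p _ b

theorem kaehler_basis_raw (z : ι → B)
    (hind : SetIndep (Set.range fun b : B => b ^ p)
      (fun e : {e : ι →₀ ℕ // ∀ i, e i < p} => pMonomial z e.1))
    (hgen : SetGen (Set.range fun b : B => b ^ p)
      (fun e : {e : ι →₀ ℕ // ∀ i, e i < p} => pMonomial z e.1)) :
    LinearIndependent B (fun i => KaehlerDifferential.D ℤ B (z i)) ∧
      ⊤ ≤ Submodule.span B (Set.range fun i => KaehlerDifferential.D ℤ B (z i)) := by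
  classical
  let _ : Algebra (ULift.{u} ℤ) B := ULift.algebra' ℤ B
  have hcar := pPower_ulift_carrier (p := p) (B := B)
  have hz : IsPBasis p (ULift.{u} ℤ) z := by
    refine ⟨(linearIndependent_iff_setIndep _ _).mpr ?_, (span_eq_top_iff_setGen _ _).mpr ?_⟩
    · rw [hcar]
      exact hind
    · rw [hcar]
      exact hgen
  have hpL : ∀ {L : Type u} [AddCommGroup L] [Module B L] (l : L), p • l = 0 := by
    intro L _ _ l
    rw [← Nat.cast_smul_eq_nsmul B, CharP.cast_eq_zero, zero_smul]
  constructor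
  · rw [linearIndependent_iff]
    intro l hl
    ext i₀
    obtain ⟨δ, hδ, -, hδx⟩ := exists_leibniz hz B 0 (by simp) (by simp) (Pi.single i₀ (1 : B))
    let dd : Derivation ℤ B B := Derivation.mk' δ.toIntLinearMap hδ
    have hdd : ∀ i, dd (z i) = (Pi.single i₀ (1 : B) : ι → B) i := fun i => hδx i
    have h := congrArg dd.liftKaehlerDifferential hl
    rw [map_zero, Finsupp.linearCombination_apply, map_finsuppSum] at h
    simp only [map_smul, Derivation.liftKaehlerDifferential_comp_D, hdd, smul_eq_mul] at h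
    rw [Finsupp.sum, Finset.sum_eq_single i₀] at h
    · simpa using h
    · intro j _ hj
      simp [Pi.single_eq_of_ne hj]
    · intro hi
      simp [Finsupp.notMem_support_iff.mp hi]
  · set N := Submodule.span B (Set.range fun i => KaehlerDifferential.D ℤ B (z i)) with hN
    let dq : Derivation ℤ B (Ω[B⁄ℤ] ⧸ N) := N.mkQ.compDer (KaehlerDifferential.D ℤ B)
    have h0 : (dq : B →ₗ[ℤ] (Ω[B⁄ℤ] ⧸ N)).toAddMonoidHom = 0 := by
      refine leibniz_ext hz.2 _ _ (fun a b => dq.leibniz a b) (fun a b => by simp) ?_ ?_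
      · rintro ⟨c, hc⟩
        have hc' : c ∈ (pPowerSubalgebra p (ULift.{u} ℤ) B : Set B) := hc
        rw [hcar] at hc'
        obtain ⟨b, rfl⟩ := hc'
        change dq (b ^ p) = 0
        rw [Derivation.leibniz_pow, hpL]
      · intro i
        change N.mkQ (KaehlerDifferential.D ℤ B (z i)) = 0
        rw [Submodule.mkQ_apply, Submodule.Quotient.mk_eq_zero]
        exact Submodule.subset_span ⟨i, rfl⟩
    rw [← KaehlerDifferential.span_range_derivation, Submodule.span_le]
    rintro _ ⟨b, rfl⟩
    have := congrArg (fun w : B →+ (Ω[B⁄ℤ] ⧸ N) => w b) h0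
    change N.mkQ (KaehlerDifferential.D ℤ B b) = 0 at this
    rwa [Submodule.mkQ_apply, Submodule.Quotient.mk_eq_zero] at this

end KaehlerRaw

end Groth.Agent.Lib.Helper49.PBasis
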