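import Groth.Prelude.Def_EGA41
import Mathlib.Algebra.BigOperators.Finsupp.Basic
import Mathlib.LinearAlgebra.Basis.Basic
import Mathlib.LinearAlgebra.BilinearMap
import Mathlib.Algebra.Algebra.Bilinear
import Mathlib.Algebra.CharP.Lemmas
import Mathlib.Algebra.CharP.Algebra
import Mathlib.Algebra.TrivSqZeroExt.Basic
import Mathlib.RingTheory.Derivation.Basic

set_option autoImplicit false
universe u

namespace Groth.Agent.Lib.Helper49.PBasis

open EGA41

section Monomial

variable {B : Type u} [CommRing B] {ι : Type u}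

theorem pMonomial_zero (x : ι → B) : pMonomial x 0 = 1 := by
  simp [pMonomial]

theorem pMonomial_add (x : ι → B) (e f : ι →₀ ℕ) :
    pMonomial x (e + f) = pMonomial x e * pMonomial x f := by
  unfold pMonomial
  exact Finsupp.prod_add_index' (fun _ => pow_zero _) (fun _ _ _ => pow_add _ _ _)

theorem pMonomial_single (x : ι → B) (i : ι) (n : ℕ) :
    pMonomial x (Finsupp.single i n) = x i ^ n := by
  unfold pMonomial
  exact Finsupp.prod_single_index (pow_zero _)

theorem pMonomial_nsmul (x : ι → B) (n : ℕ) (e : ι →₀ ℕ) :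
    pMonomial x (n • e) = pMonomial x e ^ n := by
  induction n with
  | zero => simp [pMonomial_zero]
  | succ n ih => rw [succ_nsmul, pMonomial_add, ih, pow_succ]

theorem map_pMonomial {E : Type*} [CommRing E] (φ : B →+* E) (x : ι → B) (e : ι →₀ ℕ) :
    φ (pMonomial x e) = e.prod fun i n => φ (x i) ^ n := by
  unfold pMonomial
  rw [map_finsuppProd]
  simp only [map_pow]

theorem pMonomial_pow_fun (x : ι → B) (n : ℕ) (e : ι →₀ ℕ) :
    pMonomial (fun i => x i ^ n) e = pMonomial x e ^ n := by
  unfold pMonomial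
  rw [Finsupp.prod, Finsupp.prod, ← Finset.prod_pow]
  refine Finset.prod_congr rfl fun i _ => ?_
  rw [← pow_mul, ← pow_mul, mul_comm]

end Monomial

section Exponent

variable {ι : Type u}

noncomputable def emod (p : ℕ) (e : ι →₀ ℕ) : ι →₀ ℕ := e.mapRange (· % p) (Nat.zero_mod p)

noncomputable def ediv (p : ℕ) (e : ι →₀ ℕ) : ι →₀ ℕ := e.mapRange (· / p) (Nat.zero_div p)

theorem emod_apply (p : ℕ) (e : ι →₀ ℕ) (i : ι) : emod p e i = e i % p := by
  simp [emod]

theorem ediv_apply (p : ℕ) (e : ι →₀ ℕ) (i : ι) : ediv p e i = e i / p := by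
  simp [ediv]

theorem emod_add_ediv (p : ℕ) (e : ι →₀ ℕ) : emod p e + p • ediv p e = e := by
  ext i
  simp [emod_apply, ediv_apply, Nat.mod_add_div]

theorem emod_lt {p : ℕ} (hp : 0 < p) (e : ι →₀ ℕ) (i : ι) : emod p e i < p := by
  rw [emod_apply]
  exact Nat.mod_lt _ hp

theorem emod_eq_self {p : ℕ} {e : ι →₀ ℕ} (he : ∀ i, e i < p) : emod p e = e := by
  ext i
  rw [emod_apply, Nat.mod_eq_of_lt (he i)]

end Exponent

section Structure

variable {p : ℕ} {A B : Type u} [CommRing A] [CommRing B] [Algebra A B] {ι : Type u}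

theorem pow_mem_pPower (p : ℕ) (A : Type u) {B : Type u} [CommRing A] [CommRing B] [Algebra A B]
    (b : B) : b ^ p ∈ pPowerSubalgebra p A B :=
  Algebra.subset_adjoin ⟨b, rfl⟩

noncomputable def xp (p : ℕ) (A : Type u) {B : Type u} [CommRing A] [CommRing B] [Algebra A B]
    (x : ι → B) (i : ι) : pPowerSubalgebra p A B := ⟨x i ^ p, pow_mem_pPower p A (x i)⟩

theorem coe_pMonomial_xp (x : ι → B) (q : ι →₀ ℕ) :
    ((pMonomial (xp p A x) q : pPowerSubalgebra p A B) : B) = pMonomial x q ^ p := by
  have h := map_pMonomial (pPowerSubalgebra p A B).val.toRingHom (xp p A x) q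
  rw [← pMonomial_pow_fun]
  exact h

theorem pMonomial_eq_smul (x : ι → B) (f : ι →₀ ℕ) :
    pMonomial x f = pMonomial (xp p A x) (ediv p f) • pMonomial x (emod p f) := by
  conv_lhs => rw [← emod_add_ediv p f, pMonomial_add, pMonomial_nsmul]
  rw [Algebra.smul_def, mul_comm]
  congr 1
  exact (coe_pMonomial_xp x _).symm

noncomputable def redBasis {x : ι → B} (hx : IsPBasis p A x) :
    Module.Basis {e : ι →₀ ℕ // ∀ i, e i < p} (pPowerSubalgebra p A B) B :=
  Module.Basis.mk hx.1 (top_le_iff.2 hx.2)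

theorem redBasis_apply {x : ι → B} (hx : IsPBasis p A x) (e : {e : ι →₀ ℕ // ∀ i, e i < p}) :
    redBasis hx e = pMonomial x e.1 :=
  Module.Basis.mk_apply _ _ e

theorem exists_lift [Fact p.Prime] {x : ι → B} (hx : IsPBasis p A x) {E : Type u} [CommRing E]
    (φ : pPowerSubalgebra p A B →+* E) (z : ι → E) (hz : ∀ i, z i ^ p = φ (xp p A x i)) :
    ∃ v : B →+* E, (∀ c : pPowerSubalgebra p A B, v c = φ c) ∧ ∀ i, v (x i) = z i := by
  classical
  have hp : 0 < p := (Fact.out : p.Prime).pos
  let _ : Algebra (pPowerSubalgebra p A B) E := φ.toAlgebra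
  let bas := redBasis hx
  let v₀ : B →ₗ[pPowerSubalgebra p A B] E := bas.constr ℕ (fun e => pMonomial z e.1)
  have hv₀ : ∀ e : {e : ι →₀ ℕ // ∀ i, e i < p}, v₀ (pMonomial x e.1) = pMonomial z e.1 := by
    intro e
    rw [← redBasis_apply hx e]
    exact bas.constr_basis ℕ _ e
  have hφ : ∀ q : ι →₀ ℕ, φ (pMonomial (xp p A x) q) = pMonomial z q ^ p := by
    intro q
    rw [map_pMonomial, ← pMonomial_pow_fun]
    unfold pMonomial
    refine Finsupp.prod_congr fun i _ => ?_
    change _ = (z i ^ p) ^ q i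
    rw [hz i]
  have key : ∀ f : ι →₀ ℕ, v₀ (pMonomial x f) = pMonomial z f := by
    intro f
    rw [pMonomial_eq_smul (p := p) (A := A) x f, map_smul,
      hv₀ ⟨emod p f, emod_lt hp f⟩, Algebra.smul_def]
    change φ _ * _ = _
    rw [hφ]
    conv_rhs => rw [← emod_add_ediv p f, pMonomial_add, pMonomial_nsmul]
    rw [mul_comm]
  have hone : v₀ 1 = 1 := by
    have := key 0
    rwa [pMonomial_zero, pMonomial_zero] at this
  have hmul : ∀ a b, v₀ (a * b) = v₀ a * v₀ b := by
    have h : (LinearMap.mul (pPowerSubalgebra p A B) B).compr₂ v₀ =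
        (LinearMap.mul (pPowerSubalgebra p A B) E).compl₁₂ v₀ v₀ := by
      refine bas.ext fun e => bas.ext fun e' => ?_
      simp only [LinearMap.compr₂_apply, LinearMap.mul_apply', LinearMap.compl₁₂_apply]
      rw [redBasis_apply, redBasis_apply, ← pMonomial_add, key, hv₀, hv₀, pMonomial_add]
    intro a b
    exact LinearMap.congr_fun₂ h a b
  refine ⟨{ toFun := v₀, map_one' := hone, map_mul' := hmul, map_zero' := map_zero _,
            map_add' := map_add _ }, ?_, ?_⟩
  · intro c
    change v₀ (c : B) = φ c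
    have h1 : (c : B) = c • (1 : B) := by
      rw [Algebra.smul_def, mul_one]
      rfl
    rw [h1, map_smul, hone, Algebra.smul_def, mul_one]
    rfl
  · intro i
    have := key (Finsupp.single i 1)
    rwa [pMonomial_single, pMonomial_single, pow_one, pow_one] at this

theorem ringHom_ext {x : ι → B} (hx : IsPGenerating p A x) {E : Type*} [CommRing E] (v w : B →+* E)
    (h1 : ∀ c : pPowerSubalgebra p A B, v c = w c) (h2 : ∀ i, v (x i) = w (x i)) : v = w := by
  ext b
  have hb : b ∈ Submodule.span (pPowerSubalgebra p A B)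
      (Set.range fun e : {e : ι →₀ ℕ // ∀ i, e i < p} => pMonomial x e.1) := by
    rw [hx]
    trivial
  induction hb using Submodule.span_induction with
  | mem b hb =>
    obtain ⟨e, rfl⟩ := hb
    change v (pMonomial x e.1) = w (pMonomial x e.1)
    rw [map_pMonomial, map_pMonomial]
    simp only [h2]
  | zero => simp
  | add a b _ _ ha hb => rw [map_add, map_add, ha, hb]
  | smul c b _ hb =>
    rw [Algebra.smul_def, map_mul, map_mul, hb]
    congr 1
    exact h1 c

end Structure

section OverA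

variable {p : ℕ} {A B : Type u} [CommRing A] [CommRing B] [Algebra A B] {ι : Type u}

theorem pPower_eq_bot (hpow : ∀ b : B, b ^ p ∈ Set.range (algebraMap A B)) :
    pPowerSubalgebra p A B = ⊥ := by
  refine le_antisymm ?_ bot_le
  refine Algebra.adjoin_le ?_
  rintro _ ⟨b, rfl⟩
  exact Algebra.mem_bot.mpr (hpow b)

theorem mem_pPower_iff (hpow : ∀ b : B, b ^ p ∈ Set.range (algebraMap A B)) (b : B) :
    b ∈ pPowerSubalgebra p A B ↔ b ∈ Set.range (algebraMap A B) := by
  rw [pPower_eq_bot hpow, Algebra.mem_bot]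

theorem algebraMap_mem_pPower (p : ℕ) {A B : Type u} [CommRing A] [CommRing B] [Algebra A B]
    (a : A) : algebraMap A B a ∈ pPowerSubalgebra p A B :=
  Subalgebra.algebraMap_mem _ a

theorem exists_phi (hinj : Function.Injective (algebraMap A B))
    (hpow : ∀ b : B, b ^ p ∈ Set.range (algebraMap A B)) {E : Type*} [CommRing E]
    (g : A →+* E) :
    ∃ φ : pPowerSubalgebra p A B →+* E,
      ∀ a : A, φ ⟨algebraMap A B a, algebraMap_mem_pPower p a⟩ = g a := by
  let ψ : A →+* pPowerSubalgebra p A B := algebraMap A (pPowerSubalgebra p A B)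
  have hψ : ∀ a, ψ a = ⟨algebraMap A B a, algebraMap_mem_pPower p a⟩ := fun a => rfl
  have hbij : Function.Bijective ψ := by
    constructor
    · intro a a' h
      apply hinj
      have := congrArg Subtype.val h
      simpa [hψ] using this
    · rintro ⟨c, hc⟩
      obtain ⟨a, rfl⟩ := (mem_pPower_iff hpow c).mp hc
      exact ⟨a, rfl⟩
  let e := RingEquiv.ofBijective ψ hbij
  refine ⟨g.comp e.symm.toRingHom, fun a => ?_⟩
  have : e.symm ⟨algebraMap A B a, algebraMap_mem_pPower p a⟩ = a := by
    rw [← hψ a]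
    exact e.symm_apply_apply a
  change g (e.symm ⟨algebraMap A B a, algebraMap_mem_pPower p a⟩) = g a
  rw [this]

theorem exists_equiv (hinj : Function.Injective (algebraMap A B))
    (hpow : ∀ b : B, b ^ p ∈ Set.range (algebraMap A B)) :
    ∃ e : A ≃+* pPowerSubalgebra p A B, ∀ a : A, ((e a : pPowerSubalgebra p A B) : B) =
      algebraMap A B a := by
  let ψ : A →+* pPowerSubalgebra p A B := algebraMap A (pPowerSubalgebra p A B)
  have hψ : ∀ a, ψ a = ⟨algebraMap A B a, algebraMap_mem_pPower p a⟩ := fun a => rfl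
  have hbij : Function.Bijective ψ := by
    constructor
    · intro a a' h
      apply hinj
      have := congrArg Subtype.val h
      simpa [hψ] using this
    · rintro ⟨c, hc⟩
      obtain ⟨a, rfl⟩ := (mem_pPower_iff hpow c).mp hc
      exact ⟨a, rfl⟩
  exact ⟨RingEquiv.ofBijective ψ hbij, fun a => rfl⟩

theorem exists_ringHom [Fact p.Prime] (hinj : Function.Injective (algebraMap A B))
    (hpow : ∀ b : B, b ^ p ∈ Set.range (algebraMap A B)) {x : ι → B} (hx : IsPBasis p A x)
    {E : Type u} [CommRing E] (g : A →+* E) (z : ι → E)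
    (hz : ∀ i (a : A), algebraMap A B a = x i ^ p → z i ^ p = g a) :
    ∃ v : B →+* E, (∀ a, v (algebraMap A B a) = g a) ∧ ∀ i, v (x i) = z i := by
  obtain ⟨φ, hφ⟩ := exists_phi (p := p) hinj hpow g
  have hz' : ∀ i, z i ^ p = φ (xp p A x i) := by
    intro i
    obtain ⟨a, ha⟩ := hpow (x i)
    rw [hz i a ha, ← hφ a]
    congr 1
    exact Subtype.ext ha
  obtain ⟨v, hv1, hv2⟩ := exists_lift hx φ z hz'
  refine ⟨v, fun a => ?_, hv2⟩
  rw [← hφ a]
  exact hv1 ⟨algebraMap A B a, algebraMap_mem_pPower p a⟩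

theorem ringHom_ext' (hpow : ∀ b : B, b ^ p ∈ Set.range (algebraMap A B)) {x : ι → B}
    (hx : IsPGenerating p A x) {E : Type*} [CommRing E] (v w : B →+* E)
    (h1 : ∀ a, v (algebraMap A B a) = w (algebraMap A B a)) (h2 : ∀ i, v (x i) = w (x i)) :
    v = w := by
  refine ringHom_ext hx v w ?_ h2
  rintro ⟨c, hc⟩
  obtain ⟨a, rfl⟩ := (mem_pPower_iff hpow c).mp hc
  exact h1 a

theorem exists_algHom [Fact p.Prime] (hinj : Function.Injective (algebraMap A B))
    (hpow : ∀ b : B, b ^ p ∈ Set.range (algebraMap A B)) {x : ι → B} (hx : IsPBasis p A x)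
    {E : Type u} [CommRing E] [Algebra A E] (z : ι → E)
    (hz : ∀ i (a : A), algebraMap A B a = x i ^ p → z i ^ p = algebraMap A E a) :
    ∃ v : B →ₐ[A] E, ∀ i, v (x i) = z i := by
  obtain ⟨v, hv1, hv2⟩ := exists_ringHom hinj hpow hx (algebraMap A E) z hz
  exact ⟨{ v with commutes' := hv1 }, hv2⟩

theorem algHom_ext (hpow : ∀ b : B, b ^ p ∈ Set.range (algebraMap A B)) {x : ι → B}
    (hx : IsPGenerating p A x) {E : Type*} [CommRing E] [Algebra A E] (v w : B →ₐ[A] E)
    (h : ∀ i, v (x i) = w (x i)) : v = w := by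
  have := ringHom_ext' hpow hx v.toRingHom w.toRingHom
    (fun a => by simp) h
  exact AlgHom.coe_ringHom_injective this

end OverA

section Leibniz

variable {p : ℕ} {A B : Type u} [CommRing A] [CommRing B] [Algebra A B] {ι : Type u}

theorem exists_leibniz [Fact p.Prime] [CharP B p] {x : ι → B} (hx : IsPBasis p A x)
    (L : Type u) [AddCommGroup L] [Module B L]
    (d₀ : pPowerSubalgebra p A B →+ L)
    (hd₀ : ∀ c c' : pPowerSubalgebra p A B, d₀ (c * c') = (c : B) • d₀ c' + (c' : B) • d₀ c)
    (hxp : ∀ i, d₀ (xp p A x i) = 0) (y : ι → L) :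
    ∃ δ : B →+ L, (∀ a b, δ (a * b) = a • δ b + b • δ a) ∧
      (∀ c : pPowerSubalgebra p A B, δ c = d₀ c) ∧ ∀ i, δ (x i) = y i := by
  let _ : Module Bᵐᵒᵖ L := Module.compHom _ ((RingHom.id B).fromOpposite mul_comm)
  have : IsCentralScalar B L := ⟨fun r m => rfl⟩
  have hd1 : d₀ 1 = 0 := by
    have h := hd₀ 1 1
    simp only [mul_one, OneMemClass.coe_one, one_smul] at h
    exact left_eq_add.mp h
  let φ : pPowerSubalgebra p A B →+* TrivSqZeroExt B L :=
    { toFun := fun c => ⟨(c : B), d₀ c⟩
      map_one' := TrivSqZeroExt.ext rfl hd1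
      map_mul' := fun c c' => by
        refine TrivSqZeroExt.ext rfl ?_
        change d₀ (c * c') = (c : B) • d₀ c' + MulOpposite.op (c' : B) • d₀ c
        rw [hd₀, op_smul_eq_smul]
      map_zero' := TrivSqZeroExt.ext rfl (map_zero d₀)
      map_add' := fun c c' => TrivSqZeroExt.ext rfl (map_add d₀ c c') }
  let z : ι → TrivSqZeroExt B L := fun i => ⟨x i, y i⟩
  have hz : ∀ i, z i ^ p = φ (xp p A x i) := by
    intro i
    refine TrivSqZeroExt.ext rfl ?_
    change ((z i) ^ p).snd = d₀ (xp p A x i)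
    rw [hxp, TrivSqZeroExt.snd_pow, ← Nat.cast_smul_eq_nsmul B, CharP.cast_eq_zero, zero_smul]
  obtain ⟨v, hv1, hv2⟩ := exists_lift hx φ z hz
  have hfst : ∀ b, (v b).fst = b := by
    have h := ringHom_ext hx.2 ((TrivSqZeroExt.fstHom B B L).toRingHom.comp v) (RingHom.id B)
      (fun c => by
        change (v c).fst = c
        rw [hv1 c]
        rfl)
      (fun i => by
        change (v (x i)).fst = x i
        rw [hv2 i]
        rfl)
    intro b
    exact congrArg (fun w : B →+* B => w b) h
  refine ⟨⟨⟨fun b => (v b).snd, by simp⟩, fun a b => by simp⟩, ?_, ?_, ?_⟩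
  · intro a b
    change (v (a * b)).snd = a • (v b).snd + b • (v a).snd
    rw [map_mul, TrivSqZeroExt.snd_mul, hfst, hfst, op_smul_eq_smul]
  · intro c
    change (v c).snd = d₀ c
    rw [hv1 c]
    rfl
  · intro i
    change (v (x i)).snd = y i
    rw [hv2 i]
    rfl

end Leibniz

section Deriv

variable {p : ℕ} {A B : Type u} [CommRing A] [CommRing B] [Algebra A B] {ι : Type u}

theorem leibniz_pMonomial {L : Type*} [AddCommGroup L] [Module B L] (δ δ' : B →+ L)
    (hδ : ∀ a b, δ (a * b) = a • δ b + b • δ a) (hδ' : ∀ a b, δ' (a * b) = a • δ' b + b • δ' a)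
    (x : ι → B) (h2 : ∀ i, δ (x i) = δ' (x i)) (e : ι →₀ ℕ) :
    δ (pMonomial x e) = δ' (pMonomial x e) := by
  have h1 : δ 1 = 0 := by
    have h := hδ 1 1
    simp only [mul_one, one_smul] at h
    exact left_eq_add.mp h
  have h1' : δ' 1 = 0 := by
    have h := hδ' 1 1
    simp only [mul_one, one_smul] at h
    exact left_eq_add.mp h
  have hpow : ∀ (i : ι) (n : ℕ), δ (x i ^ n) = δ' (x i ^ n) := by
    intro i n
    induction n with
    | zero => rw [pow_zero, h1, h1']
    | succ n ih => rw [pow_succ, hδ, hδ', ih, h2]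
  induction e using Finsupp.induction with
  | zero => rw [pMonomial_zero, h1, h1']
  | single_add i n f _ _ ih =>
    rw [pMonomial_add, pMonomial_single, hδ, hδ', ih, hpow]

theorem leibniz_ext {x : ι → B} (hx : IsPGenerating p A x) {L : Type*} [AddCommGroup L]
    [Module B L] (δ δ' : B →+ L)
    (hδ : ∀ a b, δ (a * b) = a • δ b + b • δ a) (hδ' : ∀ a b, δ' (a * b) = a • δ' b + b • δ' a)
    (h1 : ∀ c : pPowerSubalgebra p A B, δ c = δ' c) (h2 : ∀ i, δ (x i) = δ' (x i)) : δ = δ' := by
  ext b
  have hb : b ∈ Submodule.span (pPowerSubalgebra p A B)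
      (Set.range fun e : {e : ι →₀ ℕ // ∀ i, e i < p} => pMonomial x e.1) := by
    rw [hx]
    trivial
  induction hb using Submodule.span_induction with
  | mem b hb =>
    obtain ⟨e, rfl⟩ := hb
    exact leibniz_pMonomial δ δ' hδ hδ' x h2 e.1
  | zero => simp
  | add a b _ _ ha hb => rw [map_add, map_add, ha, hb]
  | smul c b _ hb =>
    rw [Algebra.smul_def]
    change δ ((c : B) * b) = δ' ((c : B) * b)
    rw [hδ, hδ', hb, h1 c]

theorem derivation_apply_pPower [Fact p.Prime] [CharP B p] {L : Type*} [AddCommGroup L]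
    [Module A L] [Module B L] [IsScalarTower A B L] (D : Derivation A B L)
    (c : pPowerSubalgebra p A B) : D c = 0 := by
  obtain ⟨c, hc⟩ := c
  change D c = 0
  induction hc using Algebra.adjoin_induction with
  | mem c hc =>
    obtain ⟨b, rfl⟩ := hc
    change D (b ^ p) = 0
    rw [Derivation.leibniz_pow, ← Nat.cast_smul_eq_nsmul B, CharP.cast_eq_zero, zero_smul]
  | algebraMap a => exact D.map_algebraMap a
  | add a b _ _ ha hb => rw [map_add, ha, hb, add_zero]
  | mul a b _ _ ha hb => rw [Derivation.leibniz, ha, hb, smul_zero, smul_zero, add_zero]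

theorem derivation_ext [Fact p.Prime] [CharP B p] {x : ι → B} (hx : IsPGenerating p A x)
    {L : Type*} [AddCommGroup L] [Module A L] [Module B L] [IsScalarTower A B L]
    (D D' : Derivation A B L) (h : ∀ i, D (x i) = D' (x i)) : D = D' := by
  have := leibniz_ext hx (D : B →ₗ[A] L).toAddMonoidHom (D' : B →ₗ[A] L).toAddMonoidHom
    (fun a b => D.leibniz a b) (fun a b => D'.leibniz a b)
    (fun c => by
      change D c = D' c
      rw [derivation_apply_pPower, derivation_apply_pPower])
    h
  ext b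
  exact congrArg (fun w : B →+ L => w b) this

theorem exists_derivation [Fact p.Prime] [CharP B p] {x : ι → B} (hx : IsPBasis p A x)
    (L : Type u) [AddCommGroup L] [Module A L] [Module B L] [IsScalarTower A B L] (y : ι → L) :
    ∃ D : Derivation A B L, ∀ i, D (x i) = y i := by
  obtain ⟨δ, hδ, hδ0, hδx⟩ := exists_leibniz hx L 0 (by simp) (by simp) y
  have hlin : ∀ (a : A) (b : B), δ (a • b) = a • δ b := by
    intro a b
    rw [Algebra.smul_def, hδ]
    have h0 : δ (algebraMap A B a) = 0 :=
      hδ0 ⟨algebraMap A B a, Subalgebra.algebraMap_mem _ a⟩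
    rw [h0, smul_zero, add_zero, algebraMap_smul]
  let Dl : B →ₗ[A] L := { toFun := δ, map_add' := map_add δ, map_smul' := hlin }
  exact ⟨Derivation.mk' Dl hδ, hδx⟩

end Deriv

section Adjoin

variable {p : ℕ} {A B : Type u} [CommRing A] [CommRing B] [Algebra A B] {ι : Type u}

theorem single_one_lt' [Fact p.Prime] (b : ι) (i : ι) : (Finsupp.single b 1 : ι →₀ ℕ) i < p := by
  classical
  have hp : p.Prime := Fact.out
  rw [Finsupp.single_apply]
  split_ifs
  · exact hp.one_lt
  · exact hp.pos

theorem pMonomial_mem_of_forall' {S : Type*} [SetLike S B] [SubmonoidClass S B] (F : S)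
    (x : ι → B) (e : ι →₀ ℕ) (h : ∀ i ∈ e.support, x i ∈ F) : pMonomial x e ∈ F := by
  unfold pMonomial
  exact prod_mem fun i hi => pow_mem (h i hi) _

theorem pGenerating_iff_adjoin [Fact p.Prime] (x : ι → B) :
    Algebra.adjoin (pPowerSubalgebra p A B) (Set.range x) = ⊤ ↔ IsPGenerating p A x := by
  classical
  have hp : p.Prime := Fact.out
  constructor
  · intro h
    unfold IsPGenerating
    rw [eq_top_iff]
    intro y _
    set W := Submodule.span (pPowerSubalgebra p A B)
      (Set.range fun e : {e : ι →₀ ℕ // ∀ i, e i < p} => pMonomial x e.1) with hW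
    have hone : (1 : B) ∈ W :=
      Submodule.subset_span ⟨⟨0, fun i => hp.pos⟩, pMonomial_zero x⟩
    have hmul : ∀ y y', y ∈ W → y' ∈ W → y * y' ∈ W := by
      intro y y' hy hy'
      induction hy, hy' using Submodule.span_induction₂ with
      | mem_mem y y' hy hy' =>
        obtain ⟨e, rfl⟩ := hy
        obtain ⟨e', rfl⟩ := hy'
        change pMonomial x e.1 * pMonomial x e'.1 ∈ W
        rw [← pMonomial_add, pMonomial_eq_smul (p := p) (A := A)]
        exact Submodule.smul_mem _ _ (Submodule.subset_span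
          ⟨⟨emod p (e.1 + e'.1), emod_lt hp.pos _⟩, rfl⟩)
      | zero_left y hy => rw [zero_mul]; exact zero_mem _
      | zero_right y hy => rw [mul_zero]; exact zero_mem _
      | add_left y y' z _ _ _ h1 h2 => rw [add_mul]; exact add_mem h1 h2
      | add_right y y' z _ _ _ h1 h2 => rw [mul_add]; exact add_mem h1 h2
      | smul_left c y z _ _ h => rw [smul_mul_assoc]; exact Submodule.smul_mem _ _ h
      | smul_right c y z _ _ h => rw [mul_smul_comm]; exact Submodule.smul_mem _ _ h
    have hy : y ∈ Algebra.adjoin (pPowerSubalgebra p A B) (Set.range x) := by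
      rw [h]
      trivial
    induction hy using Algebra.adjoin_induction with
    | mem y hy =>
      obtain ⟨i, rfl⟩ := hy
      refine Submodule.subset_span ⟨⟨Finsupp.single i 1, single_one_lt' i⟩, ?_⟩
      change pMonomial x (Finsupp.single i 1) = x i
      rw [pMonomial_single, pow_one]
    | algebraMap c =>
      rw [Algebra.algebraMap_eq_smul_one]
      exact Submodule.smul_mem _ _ hone
    | add y y' _ _ h1 h2 => exact add_mem (h1 trivial) (h2 trivial)
    | mul y y' _ _ h1 h2 => exact hmul _ _ (h1 trivial) (h2 trivial)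
  · intro h
    rw [eq_top_iff]
    intro y _
    have hy : y ∈ Submodule.span (pPowerSubalgebra p A B)
        (Set.range fun e : {e : ι →₀ ℕ // ∀ i, e i < p} => pMonomial x e.1) := by
      rw [h]
      trivial
    have hle : Submodule.span (pPowerSubalgebra p A B)
        (Set.range fun e : {e : ι →₀ ℕ // ∀ i, e i < p} => pMonomial x e.1) ≤
        Subalgebra.toSubmodule (Algebra.adjoin (pPowerSubalgebra p A B) (Set.range x)) := by
      rw [Submodule.span_le]
      rintro _ ⟨e, rfl⟩
      exact pMonomial_mem_of_forall' (Algebra.adjoin (pPowerSubalgebra p A B) (Set.range x))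
        x _ fun i _ => Algebra.subset_adjoin ⟨i, rfl⟩
    exact hle hy

end Adjoin

end Groth.Agent.Lib.Helper49.PBasis
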