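import Mathlib
import Groth.Agent.Lib.Helper49.GeomRegFS1
import Groth.Agent.Lib.Helper49.PBasisKaehler
import Groth.Agent.Lib.Helper49.PBasisField
import Groth.Agent.Lib.Helper49.CoeffField
import Groth.Agent.S2468

set_option autoImplicit false
set_option linter.style.haveILetI false
set_option linter.unusedSectionVars false
universe u

namespace Groth.Agent.Lib.Helper49.GeomRegFS

open TensorProduct IsLocalRing Polynomial EGA41 Groth.Agent.Lib.Helper49.PBasis
  Groth.Agent.Lib.Helper49.CoeffField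

section NonReg

variable (p : ℕ) [Fact p.Prime] {k A : Type u} [Field k] [CharP k p] [CommRing A] [Algebra k A]

theorem pow_mem_range_adjoinRoot (a : k) [Fact (Irreducible (X ^ p - C a : k[X]))]
    (x : AdjoinRoot (X ^ p - C a : k[X])) :
    x ^ p ∈ (algebraMap k (AdjoinRoot (X ^ p - C a : k[X]))).range := by
  haveI : CharP (AdjoinRoot (X ^ p - C a : k[X])) p :=
    charP_of_injective_algebraMap (algebraMap k (AdjoinRoot (X ^ p - C a : k[X]))).injective p
  have hroot : (AdjoinRoot.root (X ^ p - C a : k[X])) ^ p =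
      algebraMap k (AdjoinRoot (X ^ p - C a : k[X])) a := by
    have := AdjoinRoot.eval₂_root (X ^ p - C a : k[X])
    rw [eval₂_sub, eval₂_pow, eval₂_X, eval₂_C, sub_eq_zero] at this
    exact this
  have hx : x ∈ Algebra.adjoin k ({AdjoinRoot.root (X ^ p - C a : k[X])} : Set _) := by
    rw [AdjoinRoot.adjoinRoot_eq_top]; trivial
  induction hx using Algebra.adjoin_induction with
  | mem y hy =>
    rw [Set.mem_singleton_iff] at hy
    rw [hy, hroot]
    exact ⟨a, rfl⟩
  | algebraMap c => exact ⟨c ^ p, by rw [map_pow]⟩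
  | add y z _ _ hy hz =>
    rw [add_pow_char]
    exact Subring.add_mem _ hy hz
  | mul y z _ _ hy hz =>
    rw [mul_pow]
    exact Subring.mul_mem _ hy hz

theorem not_isRegularRing_adjoinRoot [IsRegularLocalRing A] (a : k)
    [Fact (Irreducible (X ^ p - C a : k[X]))] (g : A)
    (hg : algebraMap k A a - g ^ p ∈ maximalIdeal A ^ 2) :
    ¬ IsRegularRing (AdjoinRoot (X ^ p - C a : k[X]) ⊗[k] A) := by
  intro hreg
  have hk' := pow_mem_range_adjoinRoot p a
  haveI : IsLocalRing (AdjoinRoot (X ^ p - C a : k[X]) ⊗[k] A) := isLocalRing_tensor p hk'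
  haveI : IsRegularLocalRing (AdjoinRoot (X ^ p - C a : k[X]) ⊗[k] A) :=
    IsRegularLocalRing.of_isRegularRing_of_isLocalRing _
  haveI := isLocalRing_quot_sq (A := A)
  haveI : CharP (DualNumber (A ⧸ maximalIdeal A ^ 2)) p :=
    charP_of_injective_algebraMap
      (algebraMap k (DualNumber (A ⧸ maximalIdeal A ^ 2))).injective p
  have hp2 : 2 ≤ p := (Fact.out : p.Prime).two_le
  have hρ : (X ^ p - C a : k[X]).eval₂
      (Algebra.ofId k (DualNumber (A ⧸ maximalIdeal A ^ 2)) : k →+* _)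
      (TrivSqZeroExt.inl (Ideal.Quotient.mk (maximalIdeal A ^ 2) g) + DualNumber.eps) = 0 := by
    have heps : (DualNumber.eps : DualNumber (A ⧸ maximalIdeal A ^ 2)) ^ p = 0 :=
      pow_eq_zero_of_le hp2 ((pow_two _).trans DualNumber.eps_mul_eps)
    rw [eval₂_sub, eval₂_pow, eval₂_X, eval₂_C, add_pow_char, heps, add_zero,
      TrivSqZeroExt.inl_pow, ← map_pow, sub_eq_zero]
    change _ = algebraMap k (DualNumber (A ⧸ maximalIdeal A ^ 2)) a
    rw [TrivSqZeroExt.algebraMap_eq_inl']
    congr 1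
    exact (Ideal.Quotient.eq.mpr hg).symm
  let ψ : AdjoinRoot (X ^ p - C a : k[X]) →ₐ[k] DualNumber (A ⧸ maximalIdeal A ^ 2) :=
    AdjoinRoot.liftAlgHom _ (Algebra.ofId k _) _ hρ
  let ιQ : A →ₐ[k] DualNumber (A ⧸ maximalIdeal A ^ 2) :=
    (TrivSqZeroExt.inlAlgHom k (A ⧸ maximalIdeal A ^ 2) (A ⧸ maximalIdeal A ^ 2)).comp
      (Ideal.Quotient.mkₐ k (maximalIdeal A ^ 2))
  let Φ : AdjoinRoot (X ^ p - C a : k[X]) ⊗[k] A →ₐ[k] DualNumber (A ⧸ maximalIdeal A ^ 2) :=
    Algebra.TensorProduct.lift ψ ιQ (fun _ _ => Commute.all _ _)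
  have hΦι : ∀ x : A, Φ.toRingHom
      ((Algebra.TensorProduct.includeRight : A →ₐ[k] _ ⊗[k] A).toRingHom x) =
      TrivSqZeroExt.inl (Ideal.Quotient.mk (maximalIdeal A ^ 2) x) := by
    intro x
    change Φ ((1 : AdjoinRoot (X ^ p - C a : k[X])) ⊗ₜ[k] x) = _
    rw [Algebra.TensorProduct.lift_tmul, map_one, one_mul]
    rfl
  have hΦt : Φ.toRingHom ((AdjoinRoot.root (X ^ p - C a : k[X])) ⊗ₜ[k] (1 : A) -
      (1 : AdjoinRoot (X ^ p - C a : k[X])) ⊗ₜ[k] g) = DualNumber.eps := by
    change Φ _ = _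
    rw [map_sub, Algebra.TensorProduct.lift_tmul, Algebra.TensorProduct.lift_tmul, map_one,
      map_one, one_mul, mul_one, AdjoinRoot.liftAlgHom_root]
    change _ + _ - TrivSqZeroExt.inl (Ideal.Quotient.mk (maximalIdeal A ^ 2) g) = _
    rw [add_sub_cancel_left]
  have h1 := spanFinrank_succ_le (A := A) _ Φ.toRingHom hΦι _ hΦt
  have h2 : ringKrullDim (AdjoinRoot (X ^ p - C a : k[X]) ⊗[k] A) ≤ ringKrullDim A :=
    ringKrullDim_tensor_le p hk'
  rw [← IsRegularLocalRing.spanFinrank_maximalIdeal,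
    ← IsRegularLocalRing.spanFinrank_maximalIdeal (R := A)] at h2
  have h3 : (maximalIdeal (AdjoinRoot (X ^ p - C a : k[X]) ⊗[k] A)).spanFinrank ≤
      (maximalIdeal A).spanFinrank := by exact_mod_cast h2
  omega

end NonReg


section KB

variable (p : ℕ) [Fact p.Prime] (K : Type u) [Field K] [CharP K p]

def PInd (L : Set K) : Prop :=
  ∀ t ∈ L, t ∉ Subfield.closure ((Set.range fun y : K => y ^ p) ∪ (L \ {t}))

theorem ulift_zmod_pow (c : ULift.{u} (ZMod p)) : c ^ p = c := by
  apply ULift.ext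
  change c.down ^ p = c.down
  exact ZMod.pow_card _

variable {K}

theorem mem_adjoin_iff [Algebra (ULift.{u} (ZMod p)) K] (T : Set K) (t : K) :
    t ∈ IntermediateField.adjoin (ULift.{u} (ZMod p)) ((Set.range fun y : K => y ^ p) ∪ T) ↔
      t ∈ Subfield.closure ((Set.range fun y : K => y ^ p) ∪ T) := by
  constructor
  · intro ht
    let E' : IntermediateField (ULift.{u} (ZMod p)) K :=
      (Subfield.closure ((Set.range fun y : K => y ^ p) ∪ T)).toIntermediateField (by
        intro c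
        rw [← ulift_zmod_pow p c, map_pow]
        exact Subfield.subset_closure (Or.inl ⟨_, rfl⟩))
    have hle : IntermediateField.adjoin (ULift.{u} (ZMod p))
        ((Set.range fun y : K => y ^ p) ∪ T) ≤ E' := by
      rw [IntermediateField.adjoin_le_iff]
      intro y hy
      exact Subfield.subset_closure hy
    exact hle ht
  · intro ht
    have hle : Subfield.closure ((Set.range fun y : K => y ^ p) ∪ T) ≤
        (IntermediateField.adjoin (ULift.{u} (ZMod p))
          ((Set.range fun y : K => y ^ p) ∪ T)).toSubfield := by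
      rw [Subfield.closure_le]
      intro y hy
      exact IntermediateField.subset_adjoin _ _ hy
    exact hle ht

theorem exists_kaehler_basis (L : Set K) (hL : PInd p K L) :
    ∃ (B : Set K) (b : Module.Basis B K Ω[K⁄ℤ]), L ⊆ B ∧
      (∀ i, b i = KaehlerDifferential.D ℤ K (i : K)) ∧ PInd p K B := by
  letI : Algebra (ZMod p) K := ZMod.algebra K p
  letI : Algebra (ULift.{u} (ZMod p)) K := ULift.algebra' (ZMod p) K
  have hLind : IsPIndependent p (ULift.{u} (ZMod p)) (Subtype.val : L → K) := by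
    rw [indep_set_iff]
    intro t ht
    rw [mem_adjoin_iff]
    exact hL t ht
  obtain ⟨B, hLB, -, hB⟩ := exists_pBasis_between (p := p) (k := ULift.{u} (ZMod p))
    (Set.univ : Set K) L (Set.subset_univ _) Groth.Agent.S2468.gen_univ hLind
  have hcar : ((pPowerSubalgebra p (ULift.{u} (ZMod p)) K : Subalgebra _ K) : Set K) =
      Set.range fun b : K => b ^ p := by
    ext c
    constructor
    · intro hc
      induction hc using Algebra.adjoin_induction with
      | mem c hc => exact hc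
      | algebraMap n =>
        refine ⟨algebraMap (ULift.{u} (ZMod p)) K n, ?_⟩
        change (algebraMap (ULift.{u} (ZMod p)) K n) ^ p = algebraMap (ULift.{u} (ZMod p)) K n
        rw [← map_pow, ulift_zmod_pow]
      | add a b _ _ ha hb =>
        obtain ⟨a, rfl⟩ := ha
        obtain ⟨b, rfl⟩ := hb
        exact ⟨a + b, add_pow_char a b p⟩
      | mul a b _ _ ha hb =>
        obtain ⟨a, rfl⟩ := ha
        obtain ⟨b, rfl⟩ := hb
        exact ⟨a * b, mul_pow a b p⟩
    · rintro ⟨b, rfl⟩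
      exact pow_mem_pPower p _ b
  have hind := (linearIndependent_iff_setIndep _ _).mp hB.1
  have hgen := (span_eq_top_iff_setGen _ _).mp hB.2
  rw [hcar] at hind hgen
  obtain ⟨h1, h2⟩ := kaehler_basis_raw (p := p) (Subtype.val : B → K) hind hgen
  refine ⟨B, Module.Basis.mk h1 h2, hLB, fun i => Module.Basis.mk_apply h1 h2 i, ?_⟩
  have hBind := (indep_set_iff B).mp hB.1
  intro t ht
  rw [← mem_adjoin_iff]
  exact hBind t ht

theorem exists_derivation_ne_zero (y : K) (hy : y ∉ Set.range fun z : K => z ^ p) :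
    ∃ δ : Derivation ℤ K K, δ y ≠ 0 := by
  have hL : PInd p K {y} := by
    intro t ht
    rw [Set.mem_singleton_iff] at ht
    subst ht
    intro hcon
    apply hy
    have hle : Subfield.closure ((Set.range fun z : K => z ^ p) ∪ ({t} \ {t})) ≤
        (frobenius K p).fieldRange := by
      rw [Subfield.closure_le]
      rintro z (⟨w, rfl⟩ | hz)
      · exact ⟨w, rfl⟩
      · exact absurd hz.1 hz.2
    obtain ⟨w, hw⟩ := hle hcon
    exact ⟨w, hw⟩
  obtain ⟨B, b, hLB, hb, -⟩ := exists_kaehler_basis p {y} hL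
  have hyB : y ∈ B := hLB rfl
  refine ⟨(b.coord ⟨y, hyB⟩).compDer (KaehlerDifferential.D ℤ K), ?_⟩
  change b.coord ⟨y, hyB⟩ (KaehlerDifferential.D ℤ K y) ≠ 0
  rw [← hb ⟨y, hyB⟩, Module.Basis.coord_apply, Module.Basis.repr_self, Finsupp.single_eq_same]
  exact one_ne_zero

end KB

theorem exists_lift_nilpotent (p : ℕ) [Fact p.Prime] {K C : Type u} [Field K] [CharP K p]
    [CommRing C] (hp : (p : C) = 0) (I : Ideal C) (hI : IsNilpotent I) (f : K →+* C ⧸ I) :
    ∃ g : K →+* C, (Ideal.Quotient.mk I).comp g = f := by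
  obtain ⟨φ⟩ := exists_ringHom_ulift_zmod.{u} p hp
  have hpK : (p : K) = 0 := CharP.cast_eq_zero K p
  obtain ⟨ψ⟩ := exists_ringHom_ulift_zmod.{u} p hpK
  letI : Algebra (ULift.{u} (ZMod p)) C := φ.toAlgebra
  letI : Algebra (ULift.{u} (ZMod p)) K := ψ.toAlgebra
  have hfs : Algebra.FormallySmooth (ULift.{u} (ZMod p)) K :=
    Groth.Agent.Lib.Helper49.MacLane.formallySmooth_of_perfect p
  let f' : K →ₐ[ULift.{u} (ZMod p)] C ⧸ I :=
    { f with
      commutes' := fun x => by
        have := ringHom_ulift_zmod_ext.{u} p (f.comp (algebraMap (ULift.{u} (ZMod p)) K))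
          (algebraMap (ULift.{u} (ZMod p)) (C ⧸ I))
        exact DFunLike.congr_fun this x }
  obtain ⟨g, hg⟩ := Algebra.FormallySmooth.exists_lift I hI f'
  refine ⟨g.toRingHom, RingHom.ext fun x => ?_⟩
  exact DFunLike.congr_fun hg x

section Conormal

variable (p : ℕ) [Fact p.Prime] {A : Type u} [CommRing A] [IsLocalRing A]

def DKills (x : A) : Prop :=
  ∀ (V : Type u) [AddCommGroup V] [Module A V],
    (∀ m ∈ maximalIdeal A, ∀ v : V, m • v = 0) → ∀ D : Derivation ℤ A V, D x = 0

theorem mem_sq_of_dKills (hpA : (p : A) = 0) [CharP (ResidueField A) p] (h : A)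
    (hm : h ∈ maximalIdeal A) (hD : DKills h) : h ∈ maximalIdeal A ^ 2 := by
  set π := Ideal.Quotient.mk (maximalIdeal A ^ 2) with hπ
  let I : Ideal (A ⧸ maximalIdeal A ^ 2) := (maximalIdeal A).cotangentIdeal
  have hI2 : I ^ 2 = ⊥ := Ideal.cotangentIdeal_square _
  have hImem : ∀ x ∈ maximalIdeal A, π x ∈ I := fun x hx => Ideal.mk_mem_cotangentIdeal.mpr hx
  have hII : ∀ u ∈ I, ∀ v ∈ I, u * v = 0 := by
    intro u hu v hv
    have : u * v ∈ I * I := Ideal.mul_mem_mul hu hv
    rwa [← pow_two, hI2, Ideal.mem_bot] at this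
  let f : ResidueField A →+* (A ⧸ maximalIdeal A ^ 2) ⧸ I :=
    Ideal.Quotient.lift (maximalIdeal A) ((Ideal.Quotient.mk I).comp π) (fun x hx => by
      rw [RingHom.comp_apply, Ideal.Quotient.eq_zero_iff_mem]
      exact hImem x hx)
  have hf : ∀ x : A, f (residue A x) = Ideal.Quotient.mk I (π x) := fun x => rfl
  have hpC : ((p : ℕ) : A ⧸ maximalIdeal A ^ 2) = 0 := by
    have := congrArg π hpA
    rwa [map_natCast, map_zero] at this
  obtain ⟨s, hs⟩ := exists_lift_nilpotent p hpC I ⟨2, hI2⟩ f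
  have hsf : ∀ x : A, π x - s (residue A x) ∈ I := by
    intro x
    rw [← Ideal.Quotient.eq_zero_iff_mem, map_sub, ← hf x, ← hs, RingHom.comp_apply, sub_self]
  let D0l : A →+ I :=
    { toFun := fun x => ⟨π x - s (residue A x), hsf x⟩
      map_zero' := by
        apply Subtype.ext
        simp
      map_add' := fun x y => by
        apply Subtype.ext
        simp only [map_add, Submodule.coe_add]
        ring }
  have hD0 : ∀ x, ((D0l x : I) : A ⧸ maximalIdeal A ^ 2) = π x - s (residue A x) := fun x => rfl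
  let D0 : Derivation ℤ A I := Derivation.mk' D0l.toIntLinearMap (by
    intro x y
    apply Subtype.ext
    change ((D0l (x * y) : I) : A ⧸ maximalIdeal A ^ 2) = _
    rw [Submodule.coe_add, Submodule.coe_smul_of_tower, Submodule.coe_smul_of_tower]
    change _ = x • ((D0l y : I) : A ⧸ maximalIdeal A ^ 2) + y • ((D0l x : I) : A ⧸ _)
    rw [hD0, hD0, hD0, Algebra.smul_def, Algebra.smul_def, map_mul, map_mul, map_mul]
    change _ = π x * _ + π y * _
    have := hII _ (hsf x) _ (hsf y)
    linear_combination (-1 : A ⧸ maximalIdeal A ^ 2) * this)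
  have hkill : ∀ m ∈ maximalIdeal A, ∀ v : I, m • v = 0 := by
    intro m hm v
    apply Subtype.ext
    rw [Submodule.coe_smul_of_tower, Algebra.smul_def]
    exact hII _ (hImem m hm) _ v.2
  have h0 := hD I hkill D0
  have h1 : ((D0 h : I) : A ⧸ maximalIdeal A ^ 2) = 0 := by rw [h0]; rfl
  change π h - s (residue A h) = 0 at h1
  rw [(residue_eq_zero_iff h).mpr hm, map_zero, sub_zero] at h1
  exact Ideal.Quotient.eq_zero_iff_mem.mp h1

end Conormal

end Groth.Agent.Lib.Helper49.GeomRegFS
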