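import Mathlib.RingTheory.Kaehler.Basic
import Mathlib.RingTheory.LocalRing.ResidueField.Basic
import Mathlib.LinearAlgebra.Dual.Lemmas
import Mathlib.RingTheory.TensorProduct.Basic
import Mathlib.Algebra.Algebra.RestrictScalars

set_option autoImplicit false
universe u
namespace Groth.Agent.Lib.Helper49.KaehlerResidue

open TensorProduct KaehlerDifferential IsLocalRing

variable {k A : Type u} [Field k] [CommRing A] [IsLocalRing A] [Algebra k A]

variable (k A) in
noncomputable def eX (x : k) : ResidueField A ⊗[A] (A ⊗[k] Ω[k⁄ℤ]) :=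
  (1 : ResidueField A) ⊗ₜ[A] ((1 : A) ⊗ₜ[k] D ℤ k x)

theorem map_eX (x : k) :
    (mapBaseChange ℤ k A).lTensor (ResidueField A) (eX k A x) =
      (1 : ResidueField A) ⊗ₜ[A] D ℤ A (algebraMap k A x) := by
  rw [eX, LinearMap.lTensor_tmul, mapBaseChange_tmul, one_smul, map_D]

theorem one_tmul_smul (a : A) (m : A ⊗[k] Ω[k⁄ℤ]) :
    (1 : ResidueField A) ⊗ₜ[A] (a • m) = residue A a • ((1 : ResidueField A) ⊗ₜ[A] m) := by
  rw [← TensorProduct.smul_tmul, TensorProduct.smul_tmul', smul_eq_mul, mul_one,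
    Algebra.smul_def, mul_one]
  rfl

theorem mem_span_one_one (ω : Ω[k⁄ℤ]) :
    (1 : ResidueField A) ⊗ₜ[A] ((1 : A) ⊗ₜ[k] ω) ∈
      Submodule.span (ResidueField A) (Set.range (eX k A)) := by
  have hω : ω ∈ Submodule.span k (Set.range (D ℤ k)) := by
    rw [span_range_derivation]; trivial
  induction hω using Submodule.span_induction with
  | mem y hy =>
    obtain ⟨x, rfl⟩ := hy
    exact Submodule.subset_span ⟨x, rfl⟩
  | zero =>
    rw [TensorProduct.tmul_zero, TensorProduct.tmul_zero]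
    exact Submodule.zero_mem _
  | add y z _ _ hy hz =>
    rw [TensorProduct.tmul_add, TensorProduct.tmul_add]
    exact Submodule.add_mem _ hy hz
  | smul c y _ hy =>
    have h1 : (1 : A) ⊗ₜ[k] (c • y) = algebraMap k A c • ((1 : A) ⊗ₜ[k] y) := by
      rw [TensorProduct.tmul_smul, algebraMap_smul]
    rw [h1, one_tmul_smul]
    exact Submodule.smul_mem _ _ hy

theorem mem_span_one (m : A ⊗[k] Ω[k⁄ℤ]) :
    (1 : ResidueField A) ⊗ₜ[A] m ∈ Submodule.span (ResidueField A) (Set.range (eX k A)) := by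
  induction m using TensorProduct.induction_on with
  | zero =>
    rw [TensorProduct.tmul_zero]
    exact Submodule.zero_mem _
  | tmul a ω =>
    have h1 : a ⊗ₜ[k] ω = a • ((1 : A) ⊗ₜ[k] ω) := by
      rw [TensorProduct.smul_tmul', smul_eq_mul, mul_one]
    rw [h1, one_tmul_smul]
    exact Submodule.smul_mem _ _ (mem_span_one_one ω)
  | add x y hx hy =>
    rw [TensorProduct.tmul_add]
    exact Submodule.add_mem _ hx hy

theorem span_eX : Submodule.span (ResidueField A) (Set.range (eX k A)) = ⊤ := by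
  rw [eq_top_iff]
  intro w hw
  clear hw
  induction w using TensorProduct.induction_on with
  | zero => exact Submodule.zero_mem _
  | tmul c m =>
    have h1 : c ⊗ₜ[A] m = c • ((1 : ResidueField A) ⊗ₜ[A] m) := by
      rw [TensorProduct.smul_tmul', smul_eq_mul, mul_one]
    rw [h1]
    exact Submodule.smul_mem _ _ (mem_span_one m)
  | add x y hx hy => exact Submodule.add_mem _ hx hy

theorem exists_derivation_extension_of_injective
    (hinj : Function.Injective ((mapBaseChange ℤ k A).lTensor (ResidueField A)))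
    (V : Type u) [AddCommGroup V] [Module (ResidueField A) V] [Module A V]
    [IsScalarTower A (ResidueField A) V] [Module k V] [IsScalarTower k A V]
    (δ : Derivation ℤ k V) :
    ∃ D' : Derivation ℤ A V, ∀ x, D' (algebraMap k A x) = δ x := by
  let φK : ResidueField A ⊗[A] (A ⊗[k] Ω[k⁄ℤ]) →ₗ[ResidueField A] ResidueField A ⊗[A] Ω[A⁄ℤ] :=
    (mapBaseChange ℤ k A).baseChange (ResidueField A)
  have hφK : ∀ w, φK w = (mapBaseChange ℤ k A).lTensor (ResidueField A) w := fun w => rfl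
  have hker : LinearMap.ker φK = ⊥ := by
    rw [LinearMap.ker_eq_bot]
    exact hinj
  obtain ⟨r, hr⟩ := LinearMap.exists_leftInverse_of_injective φK hker
  let ℓ₁ : Ω[k⁄ℤ] →ₗ[k] V := δ.liftKaehlerDifferential
  let ℓ₂ : A ⊗[k] Ω[k⁄ℤ] →ₗ[A] V := ℓ₁.liftBaseChange A
  let ℓ₃ : ResidueField A ⊗[A] (A ⊗[k] Ω[k⁄ℤ]) →ₗ[ResidueField A] V :=
    ℓ₂.liftBaseChange (ResidueField A)
  let ℓ' : Ω[A⁄ℤ] →ₗ[A] V :=
    ((ℓ₃ ∘ₗ r).restrictScalars A) ∘ₗ (TensorProduct.mk A (ResidueField A) (Ω[A⁄ℤ]) 1)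
  refine ⟨ℓ'.compDer (D ℤ A), fun x => ?_⟩
  change ℓ₃ (r ((1 : ResidueField A) ⊗ₜ[A] D ℤ A (algebraMap k A x))) = δ x
  rw [← map_eX, ← hφK]
  have h1 : r (φK (eX k A x)) = eX k A x := DFunLike.congr_fun hr (eX k A x)
  rw [h1]
  change ℓ₃ ((1 : ResidueField A) ⊗ₜ[A] ((1 : A) ⊗ₜ[k] D ℤ k x)) = δ x
  rw [LinearMap.liftBaseChange_tmul, one_smul, LinearMap.liftBaseChange_tmul, one_smul,
    Derivation.liftKaehlerDifferential_comp_D]

theorem injective_of_forall_exists_derivation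
    (h : ∀ δ : Derivation ℤ k (ResidueField A), ∃ D' : Derivation ℤ A (ResidueField A),
      ∀ x, D' (algebraMap k A x) = δ x) :
    Function.Injective ((mapBaseChange ℤ k A).lTensor (ResidueField A)) := by
  rw [injective_iff_map_eq_zero]
  intro w hw
  rw [← Module.forall_dual_apply_eq_zero_iff (ResidueField A) w]
  intro ℓ
  let φK : ResidueField A ⊗[A] (A ⊗[k] Ω[k⁄ℤ]) →ₗ[ResidueField A] ResidueField A ⊗[A] Ω[A⁄ℤ] :=
    (mapBaseChange ℤ k A).baseChange (ResidueField A)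
  have hφK : ∀ w, φK w = (mapBaseChange ℤ k A).lTensor (ResidueField A) w := fun w => rfl
  let ι : Ω[k⁄ℤ] →ₗ[k] ResidueField A ⊗[A] (A ⊗[k] Ω[k⁄ℤ]) :=
    { toFun := fun ω => (1 : ResidueField A) ⊗ₜ[A] ((1 : A) ⊗ₜ[k] ω)
      map_add' := fun x y => by rw [TensorProduct.tmul_add, TensorProduct.tmul_add]
      map_smul' := fun c y => by
        have h1 : (1 : A) ⊗ₜ[k] (c • y) = algebraMap k A c • ((1 : A) ⊗ₜ[k] y) := by
          rw [TensorProduct.tmul_smul, algebraMap_smul]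
        rw [h1, one_tmul_smul, RingHom.id_apply]
        rw [← algebraMap_smul (ResidueField A) c]
        rfl }
  let δ : Derivation ℤ k (ResidueField A) := ((ℓ.restrictScalars k) ∘ₗ ι).compDer (D ℤ k)
  obtain ⟨D', hD'⟩ := h δ
  let ℓ'' : ResidueField A ⊗[A] Ω[A⁄ℤ] →ₗ[ResidueField A] ResidueField A :=
    (D'.liftKaehlerDifferential).liftBaseChange (ResidueField A)
  have hcomp : ℓ'' ∘ₗ φK = ℓ := by
    apply LinearMap.ext_on (span_eX (k := k) (A := A))
    rintro _ ⟨x, rfl⟩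
    rw [LinearMap.comp_apply, hφK, map_eX]
    change ℓ'' ((1 : ResidueField A) ⊗ₜ[A] D ℤ A (algebraMap k A x)) = ℓ (eX k A x)
    rw [LinearMap.liftBaseChange_tmul, one_smul, Derivation.liftKaehlerDifferential_comp_D, hD']
    rfl
  rw [← hcomp, LinearMap.comp_apply, hφK, hw, map_zero]

end Groth.Agent.Lib.Helper49.KaehlerResidue
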