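import Mathlib
import Groth.Agent.Lib.Helper49.GeomRegFS2
import Groth.Agent.Lib.Helper49.KaehlerResidue

set_option autoImplicit false
set_option linter.style.haveILetI false
set_option linter.unusedSectionVars false
universe u

namespace Groth.Agent.Lib.Helper49.GeomRegFS

open TensorProduct IsLocalRing Polynomial KaehlerDifferential
  Groth.Agent.Lib.Helper49.KaehlerResidue

section R1

variable (p : ℕ) [Fact p.Prime] {k A : Type u} [Field k] [CharP k p] [CommRing A] [Algebra k A]

theorem not_isRegularRing_of_dKills [IsRegularLocalRing A] (a : k)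
    [Fact (Irreducible (X ^ p - C a : k[X]))] (hD : DKills (algebraMap k A a)) :
    ¬ IsRegularRing (AdjoinRoot (X ^ p - C a : k[X]) ⊗[k] A) := by
  haveI : CharP (ResidueField A) p :=
    charP_of_injective_algebraMap (algebraMap k (ResidueField A)).injective p
  haveI : CharP A p := charP_of_injective_algebraMap (algebraMap k A).injective p
  have hpA : ((p : ℕ) : A) = 0 := CharP.cast_eq_zero A p
  have hbar : residue A (algebraMap k A a) ∈ Set.range fun z : ResidueField A => z ^ p := by
    by_contra hcon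
    obtain ⟨δ, hδ⟩ := exists_derivation_ne_zero p _ hcon
    have hkill : ∀ m ∈ maximalIdeal A, ∀ v : ResidueField A, m • v = 0 := by
      intro m hm v
      rw [Algebra.smul_def, ResidueField.algebraMap_eq, (residue_eq_zero_iff m).mpr hm, zero_mul]
    have h0 := hD (ResidueField A) hkill (δ.compAlgebraMap A)
    apply hδ
    rw [← h0]
    rfl
  obtain ⟨γ, hγ⟩ := hbar
  obtain ⟨g, rfl⟩ := residue_surjective γ
  have hγ' : residue A g ^ p = residue A (algebraMap k A a) := hγ
  have hm : algebraMap k A a - g ^ p ∈ maximalIdeal A := by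
    rw [← residue_eq_zero_iff, map_sub, map_pow, hγ', sub_self]
  have hDh : DKills (algebraMap k A a - g ^ p) := by
    intro V _ _ hV D
    rw [map_sub, hD V hV D, Derivation.leibniz_pow, ← Nat.cast_smul_eq_nsmul A, hpA, zero_smul,
      sub_zero]
  have hsq := mem_sq_of_dKills p hpA _ hm hDh
  exact not_isRegularRing_adjoinRoot p a g hsq

end R1

section Rel

variable {k A : Type u} [Field k] [CommRing A] [IsLocalRing A] [Algebra k A]

theorem relation_of_ker {J : Type*} (F : Finset J) (x : J → k) (c : J → A)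
    (hw : (mapBaseChange ℤ k A).lTensor (ResidueField A)
      (∑ j ∈ F, residue A (c j) • eX k A (x j)) = 0)
    {R' : Type u} [CommRing R'] (ι : A →+* R') (V : Type u) [AddCommGroup V] [Module R' V]
    (hV : ∀ m ∈ maximalIdeal A, ∀ v : V, ι m • v = 0) (D' : Derivation ℤ R' V) :
    ∑ j ∈ F, ι (c j) • D' (ι (algebraMap k A (x j))) = 0 := by
  letI modA : Module A V := Module.compHom V ι
  have hsmulA : ∀ (a : A) (v : V), a • v = ι a • v := fun a v => rfl
  have htors : Module.IsTorsionBySet A V (maximalIdeal A : Set A) := by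
    intro v a
    rw [hsmulA]
    exact hV a a.2 v
  letI modK : Module (ResidueField A) V :=
    (htors.module : Module (A ⧸ maximalIdeal A) V)
  have hresK : ∀ (a : A) (v : V), (residue A a • v : V) = a • v := fun a v => rfl
  haveI : IsScalarTower A (ResidueField A) V := by
    refine ⟨fun a c v => ?_⟩
    obtain ⟨b, rfl⟩ := residue_surjective c
    have e1 : a • residue A b = residue A (a * b) := by
      rw [Algebra.smul_def, map_mul]
      rfl
    rw [e1, hresK, hresK, mul_smul]
  let lin : A →ₗ[ℤ] V :=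
    ({ toFun := fun a => D' (ι a)
       map_zero' := by rw [map_zero, map_zero]
       map_add' := fun a b => by rw [map_add, map_add] } : A →+ V).toIntLinearMap
  let D : Derivation ℤ A V := Derivation.mk' lin (fun a b => by
    change D' (ι (a * b)) = a • D' (ι b) + b • D' (ι a)
    rw [map_mul, Derivation.leibniz, hsmulA, hsmulA])
  have hD : ∀ a, D a = D' (ι a) := fun a => rfl
  let ℓ : ResidueField A ⊗[A] Ω[A⁄ℤ] →ₗ[ResidueField A] V :=
    D.liftKaehlerDifferential.liftBaseChange (ResidueField A)
  let φK : ResidueField A ⊗[A] (A ⊗[k] Ω[k⁄ℤ]) →ₗ[ResidueField A] ResidueField A ⊗[A] Ω[A⁄ℤ] :=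
    (mapBaseChange ℤ k A).baseChange (ResidueField A)
  have hφK : ∀ w, φK w = (mapBaseChange ℤ k A).lTensor (ResidueField A) w := fun w => rfl
  have hw' : φK (∑ j ∈ F, residue A (c j) • eX k A (x j)) = 0 := hw
  have h := congrArg ℓ hw'
  rw [map_zero, map_sum, map_sum] at h
  rw [← h]
  refine Finset.sum_congr rfl fun j _ => ?_
  rw [map_smul, map_smul, hφK, map_eX, LinearMap.liftBaseChange_tmul, one_smul,
    Derivation.liftKaehlerDifferential_comp_D, hresK, hsmulA, hD]

end Rel

section FieldD

variable (p : ℕ) [Fact p.Prime] {k : Type u} [Field k] [CharP k p]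

theorem exists_height_one_ext (B : Set k) (hB : PInd p k B) (j0 : k) (hj0 : j0 ∈ B)
    (F : Finset k) (hF : ∀ j ∈ F, j ∈ B ∧ j ≠ j0) :
    ∃ (k'' : Type u) (_ : Field k'') (_ : Algebra k k''), Module.Finite k k'' ∧
      (∀ x : k'', x ^ p ∈ (algebraMap k k'').range) ∧
      (∀ j ∈ F, ∃ β : k'', β ^ p = algebraMap k k'' j) ∧
      (algebraMap k k'' j0 ∉ Set.range fun z : k'' => z ^ p) := by
  classical
  have hp : p.Prime := Fact.out
  let Ω := AlgebraicClosure k
  haveI : CharP Ω p := charP_of_injective_algebraMap (algebraMap k Ω).injective p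
  have hex : ∀ j : k, ∃ z : Ω, z ^ p = algebraMap k Ω j := fun j =>
    IsAlgClosed.exists_pow_nat_eq _ hp.pos
  choose β hβ using hex
  let S : Set Ω := β '' (F : Set k)
  haveI : Finite S := (F.finite_toSet.image β).to_subtype
  have hSint : ∀ x ∈ S, IsIntegral k x := fun x _ => Algebra.IsIntegral.isIntegral x
  let k'' : IntermediateField k Ω := IntermediateField.adjoin k S
  have hfin : Module.Finite k k'' := IntermediateField.finiteDimensional_adjoin hSint
  let E : Subfield k := Subfield.closure ((Set.range fun y : k => y ^ p) ∪ (B \ {j0}))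
  have key : ∀ y ∈ Algebra.adjoin k S, ∃ c ∈ E, y ^ p = algebraMap k Ω c := by
    intro y hy
    induction hy using Algebra.adjoin_induction with
    | mem y hy =>
      obtain ⟨j, hj, rfl⟩ := hy
      exact ⟨j, Subfield.subset_closure (Or.inr ⟨(hF j hj).1, (hF j hj).2⟩), hβ j⟩
    | algebraMap c =>
      exact ⟨c ^ p, Subfield.subset_closure (Or.inl ⟨c, rfl⟩), by rw [map_pow]⟩
    | add y z _ _ hy hz =>
      obtain ⟨c, hc, hyc⟩ := hy
      obtain ⟨d, hd, hzd⟩ := hz
      exact ⟨c + d, E.add_mem hc hd, by rw [add_pow_char, hyc, hzd, map_add]⟩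
    | mul y z _ _ hy hz =>
      obtain ⟨c, hc, hyc⟩ := hy
      obtain ⟨d, hd, hzd⟩ := hz
      exact ⟨c * d, E.mul_mem hc hd, by rw [mul_pow, hyc, hzd, map_mul]⟩
  have hmem : ∀ x : k'', (x : Ω) ∈ Algebra.adjoin k S := by
    intro x
    have h1 : (x : Ω) ∈ (IntermediateField.adjoin k S).toSubalgebra := x.2
    rwa [IntermediateField.adjoin_toSubalgebra] at h1
  refine ⟨k'', inferInstance, inferInstance, hfin, ?_, ?_, ?_⟩
  · intro x
    obtain ⟨c, -, hc⟩ := key _ (hmem x)
    exact ⟨c, Subtype.ext hc.symm⟩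
  · intro j hj
    refine ⟨⟨β j, IntermediateField.subset_adjoin k S ⟨j, hj, rfl⟩⟩, Subtype.ext ?_⟩
    exact hβ j
  · rintro ⟨z, hz⟩
    obtain ⟨c, hc, hzc⟩ := key _ (hmem z)
    have h1 : algebraMap k Ω j0 = algebraMap k Ω c := by
      rw [← hzc]
      exact (congrArg Subtype.val hz).symm
    have h2 : j0 = c := (algebraMap k Ω).injective h1
    rw [← h2] at hc
    exact hB j0 hj0 hc

end FieldD

end Groth.Agent.Lib.Helper49.GeomRegFS
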