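import Mathlib
import Groth.Agent.Lib.Helper49.GeomRegFS3
import Groth.Agent.Lib.Helper49.FSJacobi2

set_option autoImplicit false
set_option linter.style.haveILetI false
set_option linter.unusedSectionVars false
universe u

namespace Groth.Agent.Lib.Helper49.GeomRegFS

open TensorProduct IsLocalRing Polynomial KaehlerDifferential
  Groth.Agent.Lib.Helper49.KaehlerResidue Groth.Agent.Lib.Helper49.FSJacobi

section Tower

variable (p : ℕ) [Fact p.Prime]

theorem pow_mem_range_adjoinRoot_tower {k₀ k : Type u} [Field k₀] [Field k] [Algebra k₀ k]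
    [CharP k p] (hk : ∀ x : k, x ^ p ∈ (algebraMap k₀ k).range) (a₀ : k₀)
    [Fact (Irreducible (X ^ p - C (algebraMap k₀ k a₀) : k[X]))]
    (x : AdjoinRoot (X ^ p - C (algebraMap k₀ k a₀) : k[X])) :
    x ^ p ∈ (algebraMap k₀ (AdjoinRoot (X ^ p - C (algebraMap k₀ k a₀) : k[X]))).range := by
  haveI : CharP (AdjoinRoot (X ^ p - C (algebraMap k₀ k a₀) : k[X])) p :=
    charP_of_injective_algebraMap
      (algebraMap k (AdjoinRoot (X ^ p - C (algebraMap k₀ k a₀) : k[X]))).injective p
  have hroot : (AdjoinRoot.root (X ^ p - C (algebraMap k₀ k a₀) : k[X])) ^ p =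
      algebraMap k (AdjoinRoot (X ^ p - C (algebraMap k₀ k a₀) : k[X])) (algebraMap k₀ k a₀) := by
    have := AdjoinRoot.eval₂_root (X ^ p - C (algebraMap k₀ k a₀) : k[X])
    rw [eval₂_sub, eval₂_pow, eval₂_X, eval₂_C, sub_eq_zero] at this
    exact this
  have hx : x ∈ Algebra.adjoin k
      ({AdjoinRoot.root (X ^ p - C (algebraMap k₀ k a₀) : k[X])} : Set _) := by
    rw [AdjoinRoot.adjoinRoot_eq_top]; trivial
  induction hx using Algebra.adjoin_induction with
  | mem y hy =>
    rw [Set.mem_singleton_iff] at hy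
    rw [hy, hroot]
    exact ⟨a₀, IsScalarTower.algebraMap_apply _ _ _ _⟩
  | algebraMap c =>
    obtain ⟨d, hd⟩ := hk c
    refine ⟨d, ?_⟩
    rw [← map_pow, ← hd]
    exact IsScalarTower.algebraMap_apply _ _ _ _
  | add y z _ _ hy hz =>
    rw [add_pow_char]
    exact Subring.add_mem _ hy hz
  | mul y z _ _ hy hz =>
    rw [mul_pow]
    exact Subring.mul_mem _ hy hz

end Tower

section Incl

variable {k k' A : Type u} [Field k] [Field k'] [Algebra k k'] [CommRing A] [Algebra k A]
  [IsLocalRing A]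

theorem includeRight_mem_maximalIdeal [IsLocalRing (k' ⊗[k] A)] (m : A)
    (hm : m ∈ maximalIdeal A) : (1 : k') ⊗ₜ[k] m ∈ maximalIdeal (k' ⊗[k] A) := by
  rw [mem_maximalIdeal, mem_nonunits_iff]
  intro hu
  haveI := nontrivial_tensor (k := k) (k' := k') (A := ResidueField A)
  have h1 := hu.map (Algebra.TensorProduct.map (AlgHom.id k k')
    (IsScalarTower.toAlgHom k A (ResidueField A)))
  rw [Algebra.TensorProduct.map_tmul] at h1
  have h2 : (IsScalarTower.toAlgHom k A (ResidueField A)) m = 0 :=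
    (residue_eq_zero_iff m).mpr hm
  rw [h2, TensorProduct.tmul_zero] at h1
  exact not_isUnit_zero h1

end Incl

section Main

variable (p : ℕ) [Fact p.Prime] {k A : Type u} [Field k] [CharP k p] [CommRing A] [IsLocalRing A]
  [IsNoetherianRing A] [Algebra k A]

theorem isAdicFormallySmooth_of_regular_baseChange
    (H : ∀ (k' : Type u) [Field k'] [Algebra k k'], Module.Finite k k' →
      (∀ x : k', x ^ p ∈ (algebraMap k k').range) → IsRegularRing (k' ⊗[k] A)) :
    CAlgX.IsAdicFormallySmooth k A (maximalIdeal A) := by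
  classical
  have hp : p.Prime := Fact.out
  have hregA : IsRegularLocalRing A := by
    have h1 := H k (Module.Finite.self k) (fun x => ⟨x ^ p, rfl⟩)
    haveI : IsRegularRing A := IsRegularRing.of_ringEquiv (Algebra.TensorProduct.lid k A).toRingEquiv
    exact IsRegularLocalRing.of_isRegularRing_of_isLocalRing A
  rw [isAdicFormallySmooth_iff_regular_and_injective]
  refine ⟨hregA, ?_⟩
  rw [injective_iff_map_eq_zero]
  intro w hw
  by_contra hne
  obtain ⟨B, b, -, hb, hB⟩ := exists_kaehler_basis p (∅ : Set k)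
    (fun t ht => absurd ht (Set.notMem_empty t))
  let bK : Module.Basis B (ResidueField A) (ResidueField A ⊗[A] (A ⊗[k] Ω[k⁄ℤ])) :=
    (b.baseChange A).baseChange (ResidueField A)
  have hbK : ∀ i, bK i = eX k A (i : k) := by
    intro i
    change ((b.baseChange A).baseChange (ResidueField A)) i = _
    rw [Module.Basis.baseChange_apply, Module.Basis.baseChange_apply, hb]
    rfl
  let F : Finset B := (bK.repr w).support
  have hFne : F.Nonempty := by
    rw [Finsupp.support_nonempty_iff]
    intro h0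
    exact hne (bK.repr.map_eq_zero_iff.mp h0)
  obtain ⟨j0, hj0⟩ := hFne
  let ĉ : B → A := fun j => Function.surjInv residue_surjective (bK.repr w j)
  have hĉ : ∀ j, residue A (ĉ j) = bK.repr w j := fun j => Function.surjInv_eq _ _
  have hwsum : w = ∑ j ∈ F, residue A (ĉ j) • eX k A (j : k) := by
    conv_lhs => rw [← bK.linearCombination_repr w, Finsupp.linearCombination_apply, Finsupp.sum]
    refine Finset.sum_congr rfl fun j _ => ?_
    rw [hĉ, hbK]
  rw [hwsum] at hw
  have hunit : IsUnit (ĉ j0) := by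
    have h1 : residue A (ĉ j0) ≠ 0 := by
      rw [hĉ]
      exact Finsupp.mem_support_iff.mp hj0
    by_contra hnu
    exact h1 ((residue_eq_zero_iff _).mpr ((mem_maximalIdeal _).mpr hnu))
  obtain ⟨k'', _, _, hfin, hpow, hroots, hnot⟩ := exists_height_one_ext p B hB (j0 : k) j0.2
    ((F.erase j0).image Subtype.val) (by
      intro j hj
      obtain ⟨i, hi, rfl⟩ := Finset.mem_image.mp hj
      exact ⟨i.2, fun h => (Finset.mem_erase.mp hi).1 (Subtype.ext h)⟩)
  haveI : IsLocalRing (k'' ⊗[k] A) := isLocalRing_tensor p hpow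
  haveI : IsRegularRing (k'' ⊗[k] A) := H k'' hfin hpow
  haveI : IsRegularLocalRing (k'' ⊗[k] A) := IsRegularLocalRing.of_isRegularRing_of_isLocalRing _
  haveI : CharP k'' p := charP_of_injective_algebraMap (algebraMap k k'').injective p
  haveI : CharP (k'' ⊗[k] A) p := charP_tensor p
  haveI hirr : Fact (Irreducible (X ^ p - C (algebraMap k k'' (j0 : k)) : k''[X])) :=
    ⟨X_pow_sub_C_irreducible_of_prime hp (fun z hz => hnot ⟨z, hz⟩)⟩
  have hDK : DKills (algebraMap k'' (k'' ⊗[k] A) (algebraMap k k'' (j0 : k))) := by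
    intro V _ _ hV D''
    have hV' : ∀ m ∈ maximalIdeal A, ∀ v : V,
        (Algebra.TensorProduct.includeRight : A →ₐ[k] k'' ⊗[k] A).toRingHom m • v = 0 :=
      fun m hm v => hV _ (includeRight_mem_maximalIdeal m hm) v
    have hrel := relation_of_ker F (fun j : B => (j : k)) ĉ hw
      (Algebra.TensorProduct.includeRight : A →ₐ[k] k'' ⊗[k] A).toRingHom V hV' D''
    have hinc : ∀ x : k, (Algebra.TensorProduct.includeRight : A →ₐ[k] k'' ⊗[k] A).toRingHom
        (algebraMap k A x) = algebraMap k'' (k'' ⊗[k] A) (algebraMap k k'' x) := by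
      intro x
      change (Algebra.TensorProduct.includeRight : A →ₐ[k] k'' ⊗[k] A) (algebraMap k A x) = _
      rw [AlgHom.commutes, IsScalarTower.algebraMap_apply k k'' (k'' ⊗[k] A)]
    have hzero : ∀ j ∈ F.erase j0,
        (Algebra.TensorProduct.includeRight : A →ₐ[k] k'' ⊗[k] A).toRingHom (ĉ j) •
          D'' ((Algebra.TensorProduct.includeRight : A →ₐ[k] k'' ⊗[k] A).toRingHom
            (algebraMap k A (j : k))) = 0 := by
      intro j hj
      obtain ⟨β, hβ⟩ := hroots (j : k) (Finset.mem_image_of_mem _ hj)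
      rw [hinc, ← hβ, map_pow, Derivation.leibniz_pow, ← Nat.cast_smul_eq_nsmul (k'' ⊗[k] A),
        CharP.cast_eq_zero, zero_smul, smul_zero]
    rw [← Finset.add_sum_erase F _ hj0, Finset.sum_eq_zero hzero, add_zero, hinc] at hrel
    have hu2 : IsUnit ((Algebra.TensorProduct.includeRight : A →ₐ[k] k'' ⊗[k] A).toRingHom (ĉ j0)) :=
      hunit.map _
    exact (hu2.smul_eq_zero).mp hrel
  have hnr := not_isRegularRing_of_dKills p (algebraMap k k'' (j0 : k)) hDK
  apply hnr
  have hpow' := pow_mem_range_adjoinRoot_tower p hpow (j0 : k)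
  haveI : Module.Finite k'' (AdjoinRoot (X ^ p - C (algebraMap k k'' (j0 : k)) : k''[X])) :=
    (monic_X_pow_sub_C _ hp.ne_zero).finite_adjoinRoot
  have hfin' : Module.Finite k (AdjoinRoot (X ^ p - C (algebraMap k k'' (j0 : k)) : k''[X])) :=
    Module.Finite.trans k'' _
  haveI := H (AdjoinRoot (X ^ p - C (algebraMap k k'' (j0 : k)) : k''[X])) hfin' hpow'
  exact IsRegularRing.of_ringEquiv (Algebra.TensorProduct.cancelBaseChange k k''
    (AdjoinRoot (X ^ p - C (algebraMap k k'' (j0 : k)) : k''[X]))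
    (AdjoinRoot (X ^ p - C (algebraMap k k'' (j0 : k)) : k''[X])) A).symm.toRingEquiv

end Main


end Groth.Agent.Lib.Helper49.GeomRegFS
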