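import Mathlib
import Groth.Agent.Lib.Helper49.GeomRegFS4

set_option autoImplicit false
set_option linter.style.haveILetI false
set_option linter.unusedSectionVars false
universe u

namespace Groth.Agent.Lib.Helper49.GeomRegFS

open TensorProduct IsLocalRing

theorem isRegularRing_of_isLocalization {R : Type u} [CommRing R] (M : Submonoid R)
    (S : Type u) [CommRing S] [Algebra R S] [IsLocalization M S] [IsRegularRing R] :
    IsRegularRing S := by
  haveI : IsNoetherianRing S := IsLocalization.isNoetherianRing M S inferInstance
  rw [isRegularRing_iff]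
  intro P hP
  haveI : IsLocalization.AtPrime (Localization.AtPrime P) (P.comap (algebraMap R S)) :=
    IsLocalization.isLocalization_isLocalization_atPrime_isLocalization M _ P
  exact IsRegularLocalRing.of_ringEquiv (IsLocalization.algEquiv (P.comap (algebraMap R S)).primeCompl
    (Localization.AtPrime (P.comap (algebraMap R S))) (Localization.AtPrime P)).toRingEquiv

theorem isRegularRing_tensor_localization {k k' A : Type u} [Field k] [Field k'] [Algebra k k']
    [CommRing A] [Algebra k A] (q : Ideal A) [q.IsPrime] (h : IsRegularRing (k' ⊗[k] A)) :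
    IsRegularRing (k' ⊗[k] Localization.AtPrime q) := by
  haveI : IsRegularRing (A ⊗[k] k') :=
    IsRegularRing.of_ringEquiv (Algebra.TensorProduct.comm k k' A).toRingEquiv
  letI : Algebra (A ⊗[k] k') (Localization.AtPrime q ⊗[k] k') :=
    (Algebra.TensorProduct.map (IsScalarTower.toAlgHom k A (Localization.AtPrime q))
      (AlgHom.id k k')).toRingHom.toAlgebra
  have hmap : ∀ x : A ⊗[k] k', algebraMap (A ⊗[k] k') (Localization.AtPrime q ⊗[k] k') x =
      Algebra.TensorProduct.map (IsScalarTower.toAlgHom k A (Localization.AtPrime q))
      (AlgHom.id k k') x := fun x => rfl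
  haveI : IsScalarTower A (A ⊗[k] k') (Localization.AtPrime q ⊗[k] k') := by
    refine IsScalarTower.of_algebraMap_eq fun a => ?_
    rw [hmap, Algebra.TensorProduct.algebraMap_apply, Algebra.TensorProduct.algebraMap_apply,
      Algebra.TensorProduct.map_tmul]
    rfl
  haveI := IsLocalization.tensorProduct_tensorProduct k k' q.primeCompl (Localization.AtPrime q)
    (by
      ext x
      change algebraMap (A ⊗[k] k') (Localization.AtPrime q ⊗[k] k') ((1 : A) ⊗ₜ[k] x) = _
      rw [hmap, Algebra.TensorProduct.map_tmul, map_one]
      rfl)
  haveI : IsRegularRing (Localization.AtPrime q ⊗[k] k') :=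
    isRegularRing_of_isLocalization (Algebra.algebraMapSubmonoid (A ⊗[k] k') q.primeCompl) _
  exact IsRegularRing.of_ringEquiv
    (Algebra.TensorProduct.comm k (Localization.AtPrime q) k').toRingEquiv


end Groth.Agent.Lib.Helper49.GeomRegFS
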