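import Mathlib
import Groth.Agent.Lib.Helper49.GeomRegFS5
import Groth.Agent.Lib.Helper49.FSRegular2
import Groth.Agent.Lib.Helper49.FSRegular3

set_option autoImplicit false
set_option linter.style.haveILetI false
set_option linter.unusedSectionVars false
universe u

namespace Groth.Agent.Lib.Helper49.GeomRegFS

open TensorProduct IsLocalRing Groth.Agent.Lib.Helper49.FSRegular

theorem isGeometricallyRegular_iff_isAdicFormallySmooth {k A : Type u} [Field k] [CommRing A]
    [IsLocalRing A] [IsNoetherianRing A] [Algebra k A] :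
    CAlg.IsGeometricallyRegular k A ↔ CAlgX.IsAdicFormallySmooth k A (maximalIdeal A) := by
  constructor
  · intro h
    obtain ⟨q, hq⟩ := CharP.exists k
    rcases CharP.char_is_prime_or_zero k q with hqq | rfl
    · haveI : Fact q.Prime := ⟨hqq⟩
      exact isAdicFormallySmooth_of_regular_baseChange q (fun k' _ _ hfin _ => h k' hfin)
    · haveI : CharZero k := CharP.charP_to_charZero k
      have h1 := h k (Module.Finite.self k)
      haveI : IsRegularRing A :=
        IsRegularRing.of_ringEquiv (Algebra.TensorProduct.lid k A).toRingEquiv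
      haveI : Algebra.FormallySmooth k (ResidueField A) := formallySmooth_of_charZero
      exact isAdicFormallySmooth_iff_isRegularLocalRing_of_sep.mpr
        (IsRegularLocalRing.of_isRegularRing_of_isLocalRing A)
  · exact isGeometricallyRegular_of_isAdicFormallySmooth

theorem isGeometricallyRegular_localization {k A : Type u} [Field k] [CommRing A] [Algebra k A]
    (h : CAlg.IsGeometricallyRegular k A) (q : Ideal A) [q.IsPrime] :
    CAlg.IsGeometricallyRegular k (Localization.AtPrime q) :=
  fun k' _ _ hfin => isRegularRing_tensor_localization q (h k' hfin)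

theorem isRegularRing_tensor_of_localization {k k' A : Type u} [Field k] [Field k'] [Algebra k k']
    [Module.Finite k k'] [CommRing A] [IsNoetherianRing A] [Algebra k A]
    (h : ∀ (q : Ideal A) [q.IsPrime], IsRegularRing (Localization.AtPrime q ⊗[k] k')) :
    IsRegularRing (A ⊗[k] k') := by
  haveI : IsNoetherianRing (A ⊗[k] k') := IsNoetherianRing.of_finite A (A ⊗[k] k')
  rw [isRegularRing_iff]
  intro Q hQ
  let q : Ideal A := Q.comap (algebraMap A (A ⊗[k] k'))
  haveI : q.IsPrime := Ideal.comap_isPrime _ Q
  haveI := h q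
  letI : Algebra (A ⊗[k] k') (Localization.AtPrime q ⊗[k] k') :=
    (Algebra.TensorProduct.map (IsScalarTower.toAlgHom k A (Localization.AtPrime q))
      (AlgHom.id k k')).toRingHom.toAlgebra
  have hmap : ∀ x : A ⊗[k] k', algebraMap (A ⊗[k] k') (Localization.AtPrime q ⊗[k] k') x =
      Algebra.TensorProduct.map (IsScalarTower.toAlgHom k A (Localization.AtPrime q))
      (AlgHom.id k k') x := fun x => rfl
  haveI : IsScalarTower A (A ⊗[k] k') (Localization.AtPrime q ⊗[k] k') := by
    refine IsScalarTower.of_algebraMap_eq fun a => ?_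
    rw [hmap, Algebra.TensorProduct.algebraMap_apply, Algebra.TensorProduct.algebraMap_apply,
      Algebra.TensorProduct.map_tmul]
    rfl
  haveI := IsLocalization.tensorProduct_tensorProduct k k' q.primeCompl (Localization.AtPrime q)
    (by
      ext x
      change algebraMap (A ⊗[k] k') (Localization.AtPrime q ⊗[k] k') ((1 : A) ⊗ₜ[k] x) = _
      rw [hmap, Algebra.TensorProduct.map_tmul, map_one]
      rfl)
  have hdisj : Disjoint ((Algebra.algebraMapSubmonoid (A ⊗[k] k') q.primeCompl : Submonoid _) :
      Set (A ⊗[k] k')) (Q : Set (A ⊗[k] k')) := by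
    rw [Set.disjoint_left]
    rintro _ ⟨a, ha, rfl⟩ haQ
    exact ha haQ
  let P' : Ideal (Localization.AtPrime q ⊗[k] k') :=
    Q.map (algebraMap (A ⊗[k] k') (Localization.AtPrime q ⊗[k] k'))
  haveI hP' : P'.IsPrime := IsLocalization.isPrime_of_isPrime_disjoint
    (Algebra.algebraMapSubmonoid (A ⊗[k] k') q.primeCompl) _ Q hQ hdisj
  have hcomap : P'.comap (algebraMap (A ⊗[k] k') (Localization.AtPrime q ⊗[k] k')) = Q :=
    IsLocalization.under_map_of_isPrime_disjoint
      (Algebra.algebraMapSubmonoid (A ⊗[k] k') q.primeCompl) _ hQ hdisj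
  haveI : IsLocalization.AtPrime (Localization.AtPrime P')
      (P'.comap (algebraMap (A ⊗[k] k') (Localization.AtPrime q ⊗[k] k'))) :=
    IsLocalization.isLocalization_isLocalization_atPrime_isLocalization
      (Algebra.algebraMapSubmonoid (A ⊗[k] k') q.primeCompl) _ P'
  have hpc : (P'.comap (algebraMap (A ⊗[k] k') (Localization.AtPrime q ⊗[k] k'))).primeCompl =
      Q.primeCompl := by
    ext x
    change x ∉ _ ↔ x ∉ _
    rw [hcomap]
  haveI : IsLocalization Q.primeCompl (Localization.AtPrime P') := by
    rw [← hpc]; infer_instance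
  haveI : IsRegularLocalRing (Localization.AtPrime P') :=
    IsRegularRing.isRegularLocalRing_localization P'
  exact IsRegularLocalRing.of_ringEquiv (R := Localization.AtPrime P')
    (IsLocalization.algEquiv Q.primeCompl
      (Localization.AtPrime P') (Localization.AtPrime Q)).toRingEquiv

theorem isGeometricallyRegular_of_localization {k A : Type u} [Field k] [CommRing A]
    [IsNoetherianRing A] [Algebra k A]
    (h : ∀ (q : Ideal A) [q.IsPrime], CAlg.IsGeometricallyRegular k (Localization.AtPrime q)) :
    CAlg.IsGeometricallyRegular k A := by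
  intro k' _ _ hfin
  haveI : IsRegularRing (A ⊗[k] k') := isRegularRing_tensor_of_localization (fun q _ =>
    haveI := h q k' hfin
    IsRegularRing.of_ringEquiv (Algebra.TensorProduct.comm k k' (Localization.AtPrime q)).toRingEquiv)
  exact IsRegularRing.of_ringEquiv (Algebra.TensorProduct.comm k A k').toRingEquiv

theorem isAdicFormallySmooth_of_formallyUnramified_tower {k k' A : Type u} [Field k] [Field k']
    [Algebra k k'] [CommRing A] [Algebra k' A] [Algebra k A] [IsScalarTower k k' A]
    [Algebra.FormallyUnramified k k'] (𝔫 : Ideal A)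
    (h : CAlgX.IsAdicFormallySmooth k A 𝔫) : CAlgX.IsAdicFormallySmooth k' A 𝔫 := by
  intro C _ _ J hJ ψ hψ
  letI : Algebra k C := ((algebraMap k' C).comp (algebraMap k k')).toAlgebra
  haveI : IsScalarTower k k' C := IsScalarTower.of_algebraMap_eq (fun x => rfl)
  obtain ⟨χ, hχ⟩ := h C J hJ (ψ.restrictScalars k) hψ
  have hχ' : ∀ a, Ideal.Quotient.mk J (χ a) = ψ a := fun a => DFunLike.congr_fun hχ a
  have heq : (IsScalarTower.toAlgHom k k' C) = χ.comp (IsScalarTower.toAlgHom k k' A) := by
    apply Algebra.FormallyUnramified.ext (I := J) ⟨2, hJ⟩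
    intro x
    rw [AlgHom.comp_apply, hχ', IsScalarTower.coe_toAlgHom', IsScalarTower.coe_toAlgHom',
      AlgHom.commutes]
    rfl
  refine ⟨{ χ with commutes' := fun x => ?_ }, AlgHom.ext fun a => hχ' a⟩
  have := DFunLike.congr_fun heq x
  rw [AlgHom.comp_apply, IsScalarTower.coe_toAlgHom', IsScalarTower.coe_toAlgHom'] at this
  exact this.symm



end Groth.Agent.Lib.Helper49.GeomRegFS
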