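import Mathlib
import Groth.Agent.Lib.Helper61.FSAdic

set_option autoImplicit false
set_option linter.style.haveILetI false
universe u
namespace Groth.Agent.Lib.Helper49.FSQuot
open TensorProduct IsLocalRing

theorem flat_quotient {A B : Type*} [CommRing A] [CommRing B] [Algebra A B] [Module.Flat A B]
    (I : Ideal A) : Module.Flat (A ⧸ I) (B ⧸ I.map (algebraMap A B)) :=
  Module.Flat.of_linearEquiv
    (Algebra.TensorProduct.quotIdealMapEquivQuotTensor B I).toLinearEquiv

theorem formallySmooth_quotient_succ {A B : Type*} [CommRing A] [CommRing B] [Algebra A B]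
    [Module.Flat A B] (I : Ideal A) (n : ℕ) (hn : 1 ≤ n)
    (h : Algebra.FormallySmooth (A ⧸ I ^ n) (B ⧸ (I ^ n).map (algebraMap A B))) :
    Algebra.FormallySmooth (A ⧸ I ^ (n + 1)) (B ⧸ (I ^ (n + 1)).map (algebraMap A B)) := by
  have hle : I ^ (n + 1) ≤ I ^ n := Ideal.pow_le_pow_right (Nat.le_succ n)
  have hle' : (I ^ (n + 1)).map (algebraMap A B) ≤ (I ^ n).map (algebraMap A B) :=
    Ideal.map_mono hle
  rw [← RingHom.formallySmooth_algebraMap]
  refine RingHom.FormallySmooth.of_flat_of_ker_eq_map_of_square_zero _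
    (RingHom.flat_algebraMap_iff.mpr (flat_quotient (I ^ (n + 1))))
    (Ideal.Quotient.factor hle) (Ideal.Quotient.factor hle')
    (algebraMap (A ⧸ I ^ n) (B ⧸ (I ^ n).map (algebraMap A B)))
    (Ideal.Quotient.factor_surjective hle) (Ideal.Quotient.factor_surjective hle') ?_ ?_ ?_
    (RingHom.formallySmooth_algebraMap.mpr h)
  · apply Ideal.Quotient.ringHom_ext
    ext x
    rfl
  · rw [Ideal.Quotient.factor_ker, ← Ideal.map_pow, ← pow_mul]
    apply Ideal.map_mk_eq_bot_of_le
    apply Ideal.pow_le_pow_right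
    nlinarith
  · rw [Ideal.Quotient.factor_ker, Ideal.Quotient.factor_ker, Ideal.map_map, Ideal.map_map]
    rfl

theorem formallySmooth_quotient_pow {A B : Type*} [CommRing A] [CommRing B] [Algebra A B]
    [Module.Flat A B] (I : Ideal A)
    (h : Algebra.FormallySmooth (A ⧸ I) (B ⧸ I.map (algebraMap A B))) (n : ℕ) (hn : 1 ≤ n) :
    Algebra.FormallySmooth (A ⧸ I ^ n) (B ⧸ (I ^ n).map (algebraMap A B)) := by
  induction n, hn using Nat.le_induction with
  | base =>
    have key : ∀ I' : Ideal A, I' = I →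
        Algebra.FormallySmooth (A ⧸ I') (B ⧸ I'.map (algebraMap A B)) := by
      intro I' hI'
      subst hI'
      exact h
    exact key _ (pow_one I)
  | succ m hm ih => exact formallySmooth_quotient_succ I m hm ih

open Groth.Agent.Lib.Helper61.FSAdic in
theorem lifts_of_formallySmooth_quotient_pow {A B : Type u} [CommRing A] [CommRing B]
    [Algebra A B] (I : Ideal A)
    (h : ∀ n : ℕ, 1 ≤ n →
      Algebra.FormallySmooth (A ⧸ I ^ n) (B ⧸ (I ^ n).map (algebraMap A B))) :
    Lifts I (algebraMap A B) (I.map (algebraMap A B)) := by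
  intro C _ J hJ φ hφ u₁ hu₁ hcont
  obtain ⟨k, hk⟩ := hφ
  obtain ⟨k', hk'⟩ := hcont
  let n := k + k' + 1
  have hn : 1 ≤ n := Nat.le_add_left 1 _
  haveI := h n hn
  have hφn : ∀ a ∈ I ^ n, φ a = 0 := by
    intro a ha
    have h1 : a ∈ I ^ k := Ideal.pow_le_pow_right (by omega) ha
    have h2 : φ a ∈ (I ^ k).map φ := Ideal.mem_map_of_mem φ h1
    rw [hk] at h2
    exact h2
  let φ' : A ⧸ I ^ n →+* C := Ideal.Quotient.lift (I ^ n) φ hφn
  letI : Algebra (A ⧸ I ^ n) C := φ'.toAlgebra
  have hun : ∀ b ∈ (I ^ n).map (algebraMap A B), u₁ b = 0 := by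
    intro b hb
    apply hk'
    rw [← Ideal.map_pow]
    exact Ideal.map_mono (Ideal.pow_le_pow_right (by omega)) hb
  let u₂ : B ⧸ (I ^ n).map (algebraMap A B) →+* C ⧸ J :=
    Ideal.Quotient.lift ((I ^ n).map (algebraMap A B)) u₁ hun
  let g : B ⧸ (I ^ n).map (algebraMap A B) →ₐ[A ⧸ I ^ n] C ⧸ J :=
    { u₂ with
      commutes' := by
        intro x
        obtain ⟨a, rfl⟩ := Ideal.Quotient.mk_surjective x
        change u₁ (algebraMap A B a) = Ideal.Quotient.mk J (φ a)
        exact DFunLike.congr_fun hu₁ a }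
  obtain ⟨l, hl⟩ := Algebra.FormallySmooth.exists_lift J hJ g
  refine ⟨l.toRingHom.comp (Ideal.Quotient.mk ((I ^ n).map (algebraMap A B))), ?_, ?_⟩
  · ext a
    exact l.commutes (Ideal.Quotient.mk (I ^ n) a)
  · ext b
    exact DFunLike.congr_fun hl (Ideal.Quotient.mk ((I ^ n).map (algebraMap A B)) b)

theorem formallySmooth_fibre_of_residueField {A B : Type*} [CommRing A] [CommRing B]
    [IsLocalRing A] [IsLocalRing B] [Algebra A B] [IsLocalHom (algebraMap A B)]
    (hmap : (maximalIdeal A).map (algebraMap A B) = maximalIdeal B)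
    (h : Algebra.FormallySmooth (ResidueField A) (ResidueField B)) :
    Algebra.FormallySmooth (A ⧸ maximalIdeal A)
      (B ⧸ (maximalIdeal A).map (algebraMap A B)) := by
  let e : (B ⧸ (maximalIdeal A).map (algebraMap A B)) ≃+* (B ⧸ maximalIdeal B) :=
    Ideal.quotEquivOfEq hmap
  have h1 : (algebraMap (ResidueField A) (ResidueField B)).FormallySmooth :=
    RingHom.formallySmooth_algebraMap.mpr h
  have h2 : (e.symm.toRingHom).FormallySmooth :=
    RingHom.FormallySmooth.of_bijective (f := e.symm.toRingHom) e.symm.bijective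
  have h3 := h1.comp h2
  have heq : algebraMap (A ⧸ maximalIdeal A) (B ⧸ (maximalIdeal A).map (algebraMap A B)) =
      e.symm.toRingHom.comp (algebraMap (ResidueField A) (ResidueField B)) := by
    apply Ideal.Quotient.ringHom_ext
    ext a
    rfl
  rw [← RingHom.formallySmooth_algebraMap, heq]
  exact h3

open Groth.Agent.Lib.Helper61.FSAdic in
theorem lifts_of_flat_of_residueField {A B : Type u} [CommRing A] [CommRing B]
    [IsLocalRing A] [IsLocalRing B] [Algebra A B] [IsLocalHom (algebraMap A B)]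
    [Module.Flat A B]
    (hmap : (maximalIdeal A).map (algebraMap A B) = maximalIdeal B)
    (h : Algebra.FormallySmooth (ResidueField A) (ResidueField B)) :
    Lifts (maximalIdeal A) (algebraMap A B) (maximalIdeal B) := by
  have h1 := lifts_of_formallySmooth_quotient_pow (maximalIdeal A)
    (formallySmooth_quotient_pow (maximalIdeal A) (formallySmooth_fibre_of_residueField hmap h))
  rw [hmap] at h1
  exact h1

theorem isFormallySmoothAdic_of_flat_of_residueField {A B : Type u} [CommRing A] [CommRing B]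
    [IsLocalRing A] [IsLocalRing B] [Algebra A B] [IsLocalHom (algebraMap A B)]
    [Module.Flat A B]
    (hmap : (maximalIdeal A).map (algebraMap A B) = maximalIdeal B)
    (h : Algebra.FormallySmooth (ResidueField A) (ResidueField B)) :
    EGA41.IsFormallySmoothAdic A (maximalIdeal A) B (maximalIdeal B) :=
  (Groth.Agent.Lib.Helper61.FSAdic.ega_iff _ _).mpr (lifts_of_flat_of_residueField hmap h)

end Groth.Agent.Lib.Helper49.FSQuot
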