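import Groth.Agent.Lib.Helper61.PBasisLift
import Groth.Agent.Lib.Helper97.KaehlerColim
import Groth.Agent.S2467
import Groth.Agent.S4524
import Mathlib.FieldTheory.Perfect
import Mathlib.Algebra.CharP.Algebra
import Mathlib.Algebra.Field.ULift
import Mathlib.Algebra.Algebra.ZMod

set_option autoImplicit false
universe u
namespace Groth.Agent.Lib.Helper49.MacLane
open EGA41 Groth.Agent.Lib.Helper49.PBasis

theorem formallySmooth_of_perfect (p : ℕ) [Fact p.Prime] {P K : Type u} [Field P] [CharP P p]
    [PerfectRing P p] [Field K] [Algebra P K] [CharP K p] : Algebra.FormallySmooth P K := by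
  have hgen : IsPGenerating p P (Subtype.val : ↥(Set.univ : Set K) → K) := by
    rw [gen_set_iff]
    rw [eq_top_iff]
    intro y _
    exact IntermediateField.subset_adjoin _ _ (Or.inr (Set.mem_univ y))
  have hind : IsPIndependent p P (Subtype.val : ↥(∅ : Set K) → K) := by
    rw [indep_set_iff]
    intro t ht
    exact absurd ht (Set.notMem_empty t)
  obtain ⟨B, -, -, hB⟩ := Groth.Agent.S2467.result p (Set.univ : Set K) ∅ (Set.empty_subset _) hgen hind
  exact Groth.Agent.Lib.Helper61.PBasis.formallySmooth p _ hB

theorem formallySmooth_of_injective {P k K : Type u} [Field P] [Field k] [Field K] [Algebra P k]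
    [Algebra k K] [Algebra P K] [IsScalarTower P k K] [Algebra.FormallySmooth P K]
    (h : Function.Injective (KaehlerDifferential.mapBaseChange P k K)) :
    Algebra.FormallySmooth k K := by
  refine ⟨inferInstance, ⟨fun x y => ?_⟩⟩
  have h1 := Algebra.H1Cotangent.exact_map_δ P k K
  have h2 := Algebra.H1Cotangent.exact_δ_mapBaseChange P k K
  have key : ∀ z : Algebra.H1Cotangent k K, z = 0 := by
    intro z
    have hz : Algebra.H1Cotangent.δ P k K z = 0 := by
      apply h
      rw [map_zero]
      exact h2.apply_apply_eq_zero z
    obtain ⟨w, rfl⟩ := (h1 z).mp hz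
    rw [Subsingleton.elim w 0, map_zero]
  rw [key x, key y]

theorem exists_primeField (p : ℕ) [Fact p.Prime] (k K : Type u) [Field k] [Field K] [Algebra k K]
    [CharP k p] :
    ∃ (P : Type u) (_ : Field P) (_ : CharP P p) (_ : PerfectRing P p) (_ : Algebra P k)
      (_ : Algebra P K), IsScalarTower P k K := by
  let _ : Algebra (ZMod p) k := ZMod.algebra k p
  let _ : Algebra (ULift.{u} (ZMod p)) k := ULift.algebra' (ZMod p) k
  let _ : Algebra (ULift.{u} (ZMod p)) K :=
    ((algebraMap k K).comp (algebraMap (ULift.{u} (ZMod p)) k)).toAlgebra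
  refine ⟨ULift.{u} (ZMod p), inferInstance, inferInstance, inferInstance, inferInstance,
    inferInstance, ?_⟩
  exact IsScalarTower.of_algebraMap_eq (fun x => rfl)


theorem formallySmooth_of_geomReduced_charP (p : ℕ) [Fact p.Prime] {k K : Type u} [Field k]
    [Field K] [Algebra k K] [CharP k p] [Algebra.IsGeometricallyReduced k K] :
    Algebra.FormallySmooth k K := by
  obtain ⟨P, _, _, _, _, _, _⟩ := exists_primeField p k K
  have : CharP K p := charP_of_injective_algebraMap (algebraMap k K).injective p
  have := formallySmooth_of_perfect p (P := P) (K := K)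
  exact formallySmooth_of_injective (P := P)
    Groth.Agent.Lib.Helper97.KaehlerColim.mapBaseChange_injective_of_isGeometricallyReduced

theorem formallySmooth_of_geomReduced {k K : Type u} [Field k]
    [Field K] [Algebra k K] [Algebra.IsGeometricallyReduced k K] :
    Algebra.FormallySmooth k K := by
  obtain ⟨p, hp⟩ := CharP.exists k
  rcases CharP.char_is_prime_or_zero k p with hpp | rfl
  · haveI : Fact p.Prime := ⟨hpp⟩
    exact formallySmooth_of_geomReduced_charP p
  · haveI : CharZero k := CharP.charP_to_charZero k
    exact Groth.Agent.S4524.formallySmooth_of_charZero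

end Groth.Agent.Lib.Helper49.MacLane
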