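import Mathlib
import Groth.Prelude.Def_CAlgX
set_option autoImplicit false
set_option linter.style.haveILetI false
set_option linter.unusedSectionVars false
universe u
namespace Groth.Agent.Lib.Helper49.JacAdic
open TensorProduct IsLocalRing KaehlerDifferential

section J1

variable {R P S : Type u} [CommRing R] [CommRing P] [CommRing S] [Algebra R P] [Algebra P S]
  [Algebra R S] [IsScalarTower R P S] [IsLocalRing S]

theorem injective_cotangentComplexBaseChange_of_forall_exists_derivation
    (h : ∀ lam : RingHom.ker (algebraMap P S) →ₗ[P] ResidueField S,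
      ∃ D : Derivation R P (ResidueField S), ∀ x : RingHom.ker (algebraMap P S), D x = lam x) :
    Function.Injective (cotangentComplexBaseChange R S P (ResidueField S)) := by
  rw [injective_iff_map_eq_zero]
  intro w hw
  rw [← Module.forall_dual_apply_eq_zero_iff (ResidueField S) w]
  intro ℓ
  let lam : RingHom.ker (algebraMap P S) →ₗ[P] ResidueField S :=
    (ℓ.restrictScalars P) ∘ₗ (TensorProduct.mk P (ResidueField S) (RingHom.ker (algebraMap P S)) 1)
  obtain ⟨D, hD⟩ := h lam
  let ℓ'' : ResidueField S ⊗[P] Ω[P⁄R] →ₗ[ResidueField S] ResidueField S :=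
    D.liftKaehlerDifferential.liftBaseChange (ResidueField S)
  have hcomp : ∀ t, ℓ'' (cotangentComplexBaseChange R S P (ResidueField S) t) = ℓ t := by
    intro t
    induction t using TensorProduct.induction_on with
    | zero => rw [map_zero, map_zero, map_zero]
    | tmul a b =>
      rw [cotangentComplexBaseChange_tmul, map_smul, kerToTensor_apply,
        LinearMap.liftBaseChange_tmul, one_smul, Derivation.liftKaehlerDifferential_comp_D]
      have h1 : D (b : P) = lam b := hD b
      have h2 : a ⊗ₜ[P] b = a • ((1 : ResidueField S) ⊗ₜ[P] b) := by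
        rw [TensorProduct.smul_tmul', smul_eq_mul, mul_one]
      rw [h1, h2, map_smul]
      rfl
    | add s t hs ht => rw [map_add, map_add, map_add, hs, ht]
  rw [← hcomp, hw, map_zero]

end J1

section J2

variable {R P S : Type u} [CommRing R] [CommRing P] [CommRing S] [Algebra R P] [Algebra P S]
  [Algebra R S] [IsScalarTower R P S] [IsLocalRing S] [IsLocalRing P] [IsNoetherianRing P]

theorem exists_derivation_of_isAdicFormallySmooth
    (hsurj : Function.Surjective (algebraMap P S))
    (hfs : CAlgX.IsAdicFormallySmooth R S (maximalIdeal S))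
    (lam : RingHom.ker (algebraMap P S) →ₗ[P] ResidueField S) :
    ∃ D : Derivation R P (ResidueField S),
      ∀ x : RingHom.ker (algebraMap P S), D x = lam x := by
  classical
  let I : Ideal P := RingHom.ker (algebraMap P S)
  have hI : I = RingHom.ker (algebraMap P S) := rfl
  have hIn : I ≤ maximalIdeal P := by
    intro x hx
    rw [mem_maximalIdeal, mem_nonunits_iff]
    intro hu
    have h1 := hu.map (algebraMap P S)
    rw [(RingHom.mem_ker).mp hx] at h1
    exact not_isUnit_zero h1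
  have hnS : ∀ a ∈ maximalIdeal P, algebraMap P S a ∈ maximalIdeal S := by
    intro a ha
    rw [mem_maximalIdeal, mem_nonunits_iff]
    intro hu
    obtain ⟨c, hc⟩ := hu.exists_right_inv
    obtain ⟨b, rfl⟩ := hsurj c
    have h1 : a * b - 1 ∈ I := by
      rw [hI, RingHom.mem_ker, map_sub, map_mul, hc, map_one, sub_self]
    have h2 : a * b - 1 ∈ maximalIdeal P := hIn h1
    have h3 : a * b ∈ maximalIdeal P := Ideal.mul_mem_right _ _ ha
    have h4 : (1 : P) ∈ maximalIdeal P := by
      have := (maximalIdeal P).sub_mem h3 h2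
      rwa [sub_sub_cancel] at this
    exact (maximalIdeal.isMaximal P).ne_top ((Ideal.eq_top_iff_one _).mpr h4)
  have hres : ∀ a ∈ maximalIdeal P, algebraMap P (ResidueField S) a = 0 := by
    intro a ha
    rw [IsScalarTower.algebraMap_apply P S (ResidueField S), ResidueField.algebraMap_eq,
      residue_eq_zero_iff]
    exact hnS a ha
  have hlam_n : ∀ a ∈ maximalIdeal P, ∀ x : I, lam (a • x) = 0 := by
    intro a ha x
    rw [map_smul, Algebra.smul_def, hres a ha, zero_mul]
  obtain ⟨k, hk⟩ := Ideal.exists_pow_inf_eq_pow_smul (maximalIdeal P) (I : Submodule P P)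
  have hAR : ∀ z ∈ maximalIdeal P ^ (k + 1), ∀ hz : z ∈ I, lam ⟨z, hz⟩ = 0 := by
    intro z hz1 hz
    have h1 : z ∈ (maximalIdeal P ^ (k + 1) • ⊤ ⊓ I : Submodule P P) := by
      refine ⟨?_, hz⟩
      rw [smul_eq_mul, Ideal.mul_top]
      exact hz1
    rw [hk (k + 1) (Nat.le_succ k), Nat.add_sub_cancel_left, pow_one] at h1
    have key : ∀ y ∈ (maximalIdeal P • (maximalIdeal P ^ k • ⊤ ⊓ I : Submodule P P) :
        Submodule P P), ∃ hy : y ∈ I, lam ⟨y, hy⟩ = 0 := by
      intro y hy
      refine Submodule.smul_induction_on hy ?_ ?_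
      · intro a ha y hy
        refine ⟨I.mul_mem_left a hy.2, ?_⟩
        exact hlam_n a ha ⟨y, hy.2⟩
      · intro y₁ y₂ h1 h2
        obtain ⟨hy₁, e1⟩ := h1
        obtain ⟨hy₂, e2⟩ := h2
        refine ⟨I.add_mem hy₁ hy₂, ?_⟩
        have : (⟨y₁ + y₂, I.add_mem hy₁ hy₂⟩ : I) = ⟨y₁, hy₁⟩ + ⟨y₂, hy₂⟩ := rfl
        rw [this, map_add, e1, e2, add_zero]
    obtain ⟨_, e⟩ := key z h1
    exact e
  set N := k + 1 with hN
  let 𝔠 : Ideal P := (LinearMap.ker lam).map I.subtype ⊔ maximalIdeal P ^ N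
  have hc : ∀ x (hx : x ∈ I), x ∈ 𝔠 → lam ⟨x, hx⟩ = 0 := by
    intro x hx hxc
    obtain ⟨y, hy, z, hz, rfl⟩ := Submodule.mem_sup.mp hxc
    obtain ⟨y', hy', rfl⟩ := hy
    have hzI : z ∈ I := by
      have := I.sub_mem hx y'.2
      rwa [Submodule.subtype_apply, add_sub_cancel_left] at this
    have h1 : (⟨I.subtype y' + z, hx⟩ : I) = y' + ⟨z, hzI⟩ := rfl
    rw [h1, map_add, LinearMap.mem_ker.mp hy', hAR z hz hzI, add_zero]
  have hI2 : I ^ 2 ≤ 𝔠 := by
    rw [pow_two, Ideal.mul_le]
    intro x hx y hy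
    refine Submodule.mem_sup_left ⟨x • ⟨y, hy⟩, ?_, rfl⟩
    exact LinearMap.mem_ker.mpr (hlam_n x (hIn hx) ⟨y, hy⟩)
  have hNc : maximalIdeal P ^ N ≤ 𝔠 := le_sup_right
  let J' : Ideal (P ⧸ 𝔠) := I.map (Ideal.Quotient.mk 𝔠)
  have hJ' : J' ^ 2 = ⊥ := by
    rw [← Ideal.map_pow]
    exact Ideal.map_mk_eq_bot_of_le hI2
  let g : P →+* (P ⧸ 𝔠) ⧸ J' := (Ideal.Quotient.mk J').comp (Ideal.Quotient.mk 𝔠)
  have hgker : RingHom.ker (algebraMap P S) ≤ RingHom.ker g := by
    intro x hx
    rw [RingHom.mem_ker, RingHom.comp_apply, Ideal.Quotient.eq_zero_iff_mem]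
    exact Ideal.mem_map_of_mem _ hx
  let u₀ : S →+* (P ⧸ 𝔠) ⧸ J' := RingHom.liftOfSurjective (algebraMap P S) hsurj ⟨g, hgker⟩
  have hu₀ : ∀ x, u₀ (algebraMap P S x) = g x := fun x =>
    RingHom.liftOfRightInverse_comp_apply _ _ _ ⟨g, hgker⟩ x
  let u : S →ₐ[R] (P ⧸ 𝔠) ⧸ J' :=
    { u₀ with
      commutes' := fun r => by
        change u₀ (algebraMap R S r) = _
        rw [IsScalarTower.algebraMap_apply R P S, hu₀]
        rfl }
  have hu : ∃ m : ℕ, ∀ y ∈ maximalIdeal S ^ m, u y = 0 := by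
    refine ⟨N, fun y hy => ?_⟩
    have hle : maximalIdeal S ≤ (maximalIdeal P).map (algebraMap P S) := by
      intro s hs
      obtain ⟨z, rfl⟩ := hsurj s
      refine Ideal.mem_map_of_mem _ ?_
      rw [mem_maximalIdeal, mem_nonunits_iff]
      intro hz
      exact hs (hz.map _)
    have h1 : y ∈ (maximalIdeal P ^ N).map (algebraMap P S) := by
      rw [Ideal.map_pow]
      exact Ideal.pow_right_mono hle N hy
    obtain ⟨z, hz, rfl⟩ := (Ideal.mem_map_iff_of_surjective _ hsurj).mp h1
    change u₀ (algebraMap P S z) = 0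
    rw [hu₀, RingHom.comp_apply, Ideal.Quotient.eq_zero_iff_mem.mpr (hNc hz), map_zero]
  obtain ⟨v, hv⟩ := hfs (P ⧸ 𝔠) J' hJ' u hu
  have hv' : ∀ s, Ideal.Quotient.mk J' (v s) = u s := fun s => DFunLike.congr_fun hv s
  let δ : P → P ⧸ 𝔠 := fun x => Ideal.Quotient.mk 𝔠 x - v (algebraMap P S x)
  have hδJ : ∀ x, δ x ∈ J' := by
    intro x
    rw [← Ideal.Quotient.eq_zero_iff_mem, map_sub, hv']
    change g x - u₀ (algebraMap P S x) = 0
    rw [hu₀, sub_self]
  have hδ' : ∀ x, ∃ y : I, δ x = Ideal.Quotient.mk 𝔠 y := by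
    intro x
    obtain ⟨y, hy, e⟩ := (Ideal.mem_map_iff_of_surjective _ Ideal.Quotient.mk_surjective).mp (hδJ x)
    exact ⟨⟨y, hy⟩, e.symm⟩
  choose Y hY using hδ'
  have hwd : ∀ y y' : I, Ideal.Quotient.mk 𝔠 (y : P) = Ideal.Quotient.mk 𝔠 (y' : P) →
      lam y = lam y' := by
    intro y y' e
    have h1 : ((y - y' : I) : P) ∈ 𝔠 := by
      rw [Submodule.coe_sub]
      exact Ideal.Quotient.eq.mp e
    have h2 := hc _ (y - y').2 h1
    rw [Subtype.coe_eta, map_sub, sub_eq_zero] at h2
    exact h2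
  have hD₀ : ∀ x (y : I), δ x = Ideal.Quotient.mk 𝔠 (y : P) → lam (Y x) = lam y := by
    intro x y e
    exact hwd _ _ ((hY x).symm.trans e)
  have hJJ : ∀ a ∈ J', ∀ b ∈ J', a * b = 0 := by
    intro a ha b hb
    have := Ideal.mul_mem_mul ha hb
    rwa [← pow_two, hJ', Ideal.mem_bot] at this
  have hadd : ∀ x x', lam (Y (x + x')) = lam (Y x) + lam (Y x') := by
    intro x x'
    rw [← map_add]
    apply hD₀
    change Ideal.Quotient.mk 𝔠 (x + x') - v (algebraMap P S (x + x')) = _
    rw [Submodule.coe_add, map_add, map_add, map_add, map_add, ← hY, ← hY]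
    change _ = (Ideal.Quotient.mk 𝔠 x - v (algebraMap P S x)) +
      (Ideal.Quotient.mk 𝔠 x' - v (algebraMap P S x'))
    ring
  have hleib : ∀ x x', lam (Y (x * x')) = x • lam (Y x') + x' • lam (Y x) := by
    intro x x'
    rw [← map_smul, ← map_smul, ← map_add]
    apply hD₀
    change Ideal.Quotient.mk 𝔠 (x * x') - v (algebraMap P S (x * x')) = _
    rw [Submodule.coe_add, Submodule.coe_smul, Submodule.coe_smul, smul_eq_mul, smul_eq_mul,
      map_add, map_mul, map_mul, map_mul, map_mul, map_mul, ← hY, ← hY]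
    have h0 := hJJ _ (hδJ x) _ (hδJ x')
    change (Ideal.Quotient.mk 𝔠 x - v (algebraMap P S x)) *
      (Ideal.Quotient.mk 𝔠 x' - v (algebraMap P S x')) = 0 at h0
    change _ = Ideal.Quotient.mk 𝔠 x * (Ideal.Quotient.mk 𝔠 x' - v (algebraMap P S x')) +
      Ideal.Quotient.mk 𝔠 x' * (Ideal.Quotient.mk 𝔠 x - v (algebraMap P S x))
    linear_combination (-1 : P ⧸ 𝔠) * h0
  have hzero : ∀ r : R, lam (Y (algebraMap R P r)) = 0 := by
    intro r
    rw [← map_zero lam]
    apply hD₀
    change Ideal.Quotient.mk 𝔠 (algebraMap R P r) - v (algebraMap P S (algebraMap R P r)) = _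
    rw [← IsScalarTower.algebraMap_apply R P S, AlgHom.commutes, Submodule.coe_zero, map_zero]
    exact sub_self _
  let lin : P →ₗ[R] ResidueField S :=
    { toFun := fun x => lam (Y x)
      map_add' := hadd
      map_smul' := fun r x => by
        rw [Algebra.smul_def, hleib, hzero, smul_zero, add_zero, algebraMap_smul,
          RingHom.id_apply] }
  refine ⟨Derivation.mk' lin hleib, fun x => ?_⟩
  change lam (Y (x : P)) = lam x
  apply hD₀
  change Ideal.Quotient.mk 𝔠 (x : P) - v (algebraMap P S (x : P)) = _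
  rw [(RingHom.mem_ker).mp x.2, map_zero, sub_zero]

end J2

section LS

variable {S : Type u} [CommRing S] [IsLocalRing S] {M N : Type u} [AddCommGroup M] [Module S M]
  [AddCommGroup N] [Module S N]

theorem exists_finset_supported (F : Submodule S (N →₀ S)) (hF : F.FG) :
    ∃ T : Finset N, F ≤ Finsupp.supported S S (T : Set N) := by
  classical
  obtain ⟨G, rfl⟩ := hF
  refine ⟨G.biUnion (fun g => g.support), ?_⟩
  rw [Submodule.span_le]
  intro g hg
  rw [SetLike.mem_coe, Finsupp.mem_supported]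
  intro x hx
  rw [Finset.mem_coe, Finset.mem_biUnion]
  exact ⟨g, hg, hx⟩

theorem exists_retraction_of_injective_lTensor [Module.Finite S M] [Module.Projective S N]
    (f : M →ₗ[S] N) (h : Function.Injective (f.lTensor (ResidueField S))) :
    ∃ l : N →ₗ[S] M, l ∘ₗ f = LinearMap.id := by
  classical
  obtain ⟨i, hi⟩ := Module.projective_def'.mp (inferInstance : Module.Projective S N)
  have hrange : (LinearMap.range (i ∘ₗ f)).FG := by
    rw [LinearMap.range_eq_map]
    exact (Module.Finite.fg_top).map _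
  obtain ⟨T, hT⟩ := exists_finset_supported _ hrange
  let e : Finsupp.supported S S (T : Set N) ≃ₗ[S] ((T : Set N) →₀ S) :=
    Finsupp.supportedEquivFinsupp (M := S) (R := S) (T : Set N)
  let f'' : M →ₗ[S] ((T : Set N) →₀ S) :=
    e.toLinearMap ∘ₗ (i ∘ₗ f).codRestrict (Finsupp.supported S S (T : Set N))
      (fun x => hT (LinearMap.mem_range_self _ x))
  let j : ((T : Set N) →₀ S) →ₗ[S] (N →₀ S) :=
    (Finsupp.supported S S (T : Set N)).subtype ∘ₗ e.symm.toLinearMap
  have hcomp : j ∘ₗ f'' = i ∘ₗ f := by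
    refine LinearMap.ext fun x => ?_
    change ((e.symm (e _) : Finsupp.supported S S (T : Set N)) : N →₀ S) = _
    rw [LinearEquiv.symm_apply_apply]
    rfl
  have hinj : Function.Injective (f''.lTensor (ResidueField S)) := by
    have h1 : Function.Injective ((i ∘ₗ f).lTensor (ResidueField S)) := by
      rw [LinearMap.lTensor_comp, LinearMap.coe_comp]
      have : (Finsupp.linearCombination S id).lTensor (ResidueField S) ∘ₗ
          i.lTensor (ResidueField S) = LinearMap.id := by
        rw [← LinearMap.lTensor_comp, hi, LinearMap.lTensor_id]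
      have h3 : Function.Injective (i.lTensor (ResidueField S)) :=
        Function.HasLeftInverse.injective ⟨_, LinearMap.congr_fun this⟩
      exact h3.comp h
    rw [← hcomp, LinearMap.lTensor_comp, LinearMap.coe_comp] at h1
    exact Function.Injective.of_comp h1
  obtain ⟨l₀, hl₀⟩ :=
    (IsLocalRing.split_injective_iff_lTensor_residueField_injective f'').mpr hinj
  let ρ : (N →₀ S) →ₗ[S] ((T : Set N) →₀ S) :=
    e.toLinearMap ∘ₗ Finsupp.restrictDom S S (T : Set N)
  refine ⟨l₀ ∘ₗ ρ ∘ₗ i, ?_⟩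
  have h2 : ρ ∘ₗ i ∘ₗ f = f'' := by
    rw [← hcomp, ← LinearMap.comp_assoc]
    have : ρ ∘ₗ j = LinearMap.id := by
      change (e.toLinearMap ∘ₗ Finsupp.restrictDom S S (T : Set N)) ∘ₗ
        ((Finsupp.supported S S (T : Set N)).subtype ∘ₗ e.symm.toLinearMap) = _
      refine LinearMap.ext fun x => ?_
      have h5 := LinearMap.congr_fun (Finsupp.restrictDom_comp_subtype (M := S) (R := S)
        (T : Set N)) (e.symm x)
      rw [LinearMap.comp_apply, LinearMap.id_apply] at h5
      rw [LinearMap.comp_apply, LinearMap.comp_apply, LinearMap.comp_apply, LinearMap.id_apply,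
        LinearEquiv.coe_coe, LinearEquiv.coe_coe, h5, e.apply_symm_apply]
    rw [this, LinearMap.id_comp]
  rw [LinearMap.comp_assoc, LinearMap.comp_assoc, h2, hl₀]

end LS

end Groth.Agent.Lib.Helper49.JacAdic
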