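import Mathlib
import Groth.Prelude.Def_CAlgX
import Groth.Agent.Lib.Helper49.JacAdic1
set_option autoImplicit false
set_option linter.style.haveILetI false
set_option linter.unusedSectionVars false
universe u
namespace Groth.Agent.Lib.Helper49.JacAdic
open TensorProduct IsLocalRing KaehlerDifferential

section J3

variable {R P S : Type u} [CommRing R] [CommRing P] [CommRing S] [Algebra R P] [Algebra P S]
  [Algebra R S] [IsScalarTower R P S] [IsLocalRing S]

theorem formallySmooth_of_injective_cotangentComplexBaseChange [IsNoetherianRing P]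
    [Algebra.FormallySmooth R P]
    (hsurj : Function.Surjective (algebraMap P S))
    (hinj : Function.Injective (cotangentComplexBaseChange R S P (ResidueField S))) :
    Algebra.FormallySmooth R S := by
  let P' : Algebra.Extension R S :=
    { Ring := P, σ := _, algebraMap_σ := Function.surjInv_eq hsurj }
  have hfsP : Algebra.FormallySmooth R P'.Ring := ‹_›
  rw [P'.formallySmooth_iff_split_injection]
  have hfin : Module.Finite S P'.Cotangent := by
    have h1 : Module.Finite P'.Ring P'.ker := by
      have : IsNoetherianRing P'.Ring := ‹IsNoetherianRing P›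
      exact Module.Finite.of_fg (IsNoetherian.noetherian _)
    have h2 : Module.Finite P'.Ring P'.Cotangent :=
      .of_surjective _ Algebra.Extension.Cotangent.mk_surjective
    exact Module.Finite.of_restrictScalars_finite P'.Ring _ _
  have hproj : Module.Projective S (S ⊗[P'.Ring] Ω[P'.Ring⁄R]) := inferInstance
  refine exists_retraction_of_injective_lTensor P'.cotangentComplex ?_
  rw [P'.cotangentComplexBaseChange_eq_lTensor_cotangentComplex (ResidueField S)] at hinj
  have h3 := ((AlgebraTensorModule.cancelBaseChange P'.Ring S _ _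
    Ω[P'.Ring⁄R]).comp_injective _).mp hinj
  exact (((AlgebraTensorModule.cancelBaseChange P'.Ring S _ _ P'.ker).symm ≪≫ₗ
    P'.cotangentEquiv.baseChange (A := _)).injective_comp _).mp h3

theorem formallySmooth_of_isAdicFormallySmooth [IsLocalRing P] [IsNoetherianRing P]
    [Algebra.FormallySmooth R P]
    (hsurj : Function.Surjective (algebraMap P S))
    (hfs : CAlgX.IsAdicFormallySmooth R S (maximalIdeal S)) :
    Algebra.FormallySmooth R S :=
  formallySmooth_of_injective_cotangentComplexBaseChange hsurj
    (injective_cotangentComplexBaseChange_of_forall_exists_derivation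
      (exists_derivation_of_isAdicFormallySmooth hsurj hfs))

end J3

section J4

variable {R P₀ S : Type u} [CommRing R] [CommRing P₀] [CommRing S] [Algebra R P₀]
  [Algebra R S] [IsLocalRing S]

theorem formallySmooth_of_isAdicFormallySmooth_of_algHom [IsNoetherianRing P₀]
    [Algebra.FormallySmooth R P₀] (φ₀ : P₀ →ₐ[R] S)
    (hφ : ∀ s : S, ∃ a m : P₀, IsUnit (φ₀ m) ∧ s * φ₀ m = φ₀ a)
    (hfs : CAlgX.IsAdicFormallySmooth R S (maximalIdeal S)) :
    Algebra.FormallySmooth R S := by
  let q₀ : Ideal P₀ := (maximalIdeal S).comap φ₀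
  have hq₀ : q₀.IsPrime := Ideal.comap_isPrime φ₀ (maximalIdeal S)
  let P := Localization.AtPrime q₀
  have hunit : ∀ y : q₀.primeCompl, IsUnit (φ₀ y) := by
    intro y
    have h1 : (y : P₀) ∉ q₀ := y.2
    rw [Ideal.mem_comap, mem_maximalIdeal, mem_nonunits_iff, not_not] at h1
    exact h1
  let φ : P →ₐ[R] S := IsLocalization.liftAlgHom (M := q₀.primeCompl) (f := φ₀) hunit
  have hφalg : ∀ x : P₀, φ (algebraMap P₀ P x) = φ₀ x := fun x =>
    IsLocalization.lift_eq (M := q₀.primeCompl) (S := P) hunit x
  have hsurj : Function.Surjective φ := by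
    intro s
    obtain ⟨a, m, hm, e⟩ := hφ s
    have hmq : m ∈ q₀.primeCompl := by
      change m ∉ q₀
      rw [Ideal.mem_comap, mem_maximalIdeal, mem_nonunits_iff, not_not]
      exact hm
    refine ⟨IsLocalization.mk' P a ⟨m, hmq⟩, ?_⟩
    have h1 : IsLocalization.mk' P a ⟨m, hmq⟩ * algebraMap P₀ P m = algebraMap P₀ P a :=
      IsLocalization.mk'_spec P a ⟨m, hmq⟩
    have h2 := congrArg φ h1
    rw [map_mul, hφalg, hφalg, ← e] at h2
    exact hm.mul_left_injective h2
  algebraize [φ.toRingHom]
  have : IsScalarTower R P S := IsScalarTower.of_algebraMap_eq' φ.comp_algebraMap.symm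
  have : Algebra.FormallyEtale P₀ P := .of_isLocalization q₀.primeCompl
  have : Algebra.FormallySmooth R P := .comp _ P₀ _
  have : IsNoetherianRing P := IsLocalization.isNoetherianRing q₀.primeCompl P inferInstance
  exact formallySmooth_of_isAdicFormallySmooth (P := P) hsurj hfs

theorem formallySmooth_of_isAdicFormallySmooth_of_essFiniteType [IsNoetherianRing R]
    [Algebra.EssFiniteType R S]
    (hfs : CAlgX.IsAdicFormallySmooth R S (maximalIdeal S)) :
    Algebra.FormallySmooth R S := by
  obtain ⟨σ, hσ⟩ := (Algebra.essFiniteType_iff R S).mp inferInstance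
  let φ₀ : MvPolynomial σ R →ₐ[R] S := MvPolynomial.aeval (fun i : σ => (i : S))
  have hrange : Algebra.adjoin R (σ : Set S) = φ₀.range := by
    rw [← Algebra.adjoin_range_eq_range_aeval R (fun i : σ => (i : S))]
    congr 1
    exact Subtype.range_coe.symm
  refine formallySmooth_of_isAdicFormallySmooth_of_algHom φ₀ ?_ hfs
  intro s
  obtain ⟨t, ht, htu, hst⟩ := hσ s
  rw [hrange] at ht hst
  obtain ⟨m, rfl⟩ := ht
  obtain ⟨a, ha⟩ := hst
  exact ⟨a, m, htu, ha.symm⟩

end J4

end Groth.Agent.Lib.Helper49.JacAdic
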