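import Mathlib
import Groth.Agent.Lib.Helper49.FlatFS2
import Groth.Agent.Lib.Helper49.GeomRegFS7
import Groth.Agent.S7134
set_option autoImplicit false
set_option linter.style.haveILetI false
set_option linter.unusedSectionVars false
universe u
namespace Groth.Agent.Lib.Helper49.FlatFS
open IsLocalRing TensorProduct

theorem geomReg_of_algEquiv {k S S' : Type u} [Field k] [CommRing S] [CommRing S'] [Algebra k S]
    [Algebra k S'] (e : S ≃ₐ[k] S') (h : CAlg.IsGeometricallyRegular k S) :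
    CAlg.IsGeometricallyRegular k S' := by
  intro k' _ _ hfin
  haveI := h k' hfin
  exact IsRegularRing.of_ringEquiv
    (Algebra.TensorProduct.congr (AlgEquiv.refl (R := k) (A₁ := k')) e).toRingEquiv

theorem isAdicFormallySmooth_of_bijective {R R' S : Type u} [CommRing R] [CommRing R']
    [CommRing S] [Algebra R R'] [Algebra R' S] [Algebra R S] [IsScalarTower R R' S]
    (hbij : Function.Bijective (algebraMap R R')) (𝔫 : Ideal S)
    (h : CAlgX.IsAdicFormallySmooth R' S 𝔫) : CAlgX.IsAdicFormallySmooth R S 𝔫 := by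
  intro D _ _ J hJ ψ hψ
  let e : R ≃+* R' := RingEquiv.ofBijective (algebraMap R R') hbij
  letI : Algebra R' D := ((algebraMap R D).comp e.symm.toRingHom).toAlgebra
  have halg : ∀ x : R, algebraMap R' D (algebraMap R R' x) = algebraMap R D x := by
    intro x
    show algebraMap R D (e.symm (e x)) = _
    rw [RingEquiv.symm_apply_apply]
  haveI : IsScalarTower R R' D := IsScalarTower.of_algebraMap_eq (fun x => (halg x).symm)
  let ψ' : S →ₐ[R'] D ⧸ J :=
    { ψ.toRingHom with
      commutes' := fun x' => by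
        obtain ⟨x, rfl⟩ := hbij.2 x'
        show ψ (algebraMap R' S (algebraMap R R' x)) = _
        rw [← IsScalarTower.algebraMap_apply, ψ.commutes, IsScalarTower.algebraMap_apply R R' (D ⧸ J)] }
  obtain ⟨χ', hχ'⟩ := h D J hJ ψ' hψ
  refine ⟨χ'.restrictScalars R, AlgHom.ext fun s => ?_⟩
  exact DFunLike.congr_fun hχ' s

theorem isAdicFormallySmooth_of_surjective {R R' S : Type u} [CommRing R] [CommRing R']
    [CommRing S] [Algebra R R'] [Algebra R' S] [Algebra R S] [IsScalarTower R R' S]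
    (hsurj : Function.Surjective (algebraMap R R')) (𝔫 : Ideal S)
    (h : CAlgX.IsAdicFormallySmooth R S 𝔫) : CAlgX.IsAdicFormallySmooth R' S 𝔫 := by
  intro D _ _ J hJ ψ hψ
  letI : Algebra R D := ((algebraMap R' D).comp (algebraMap R R')).toAlgebra
  haveI : IsScalarTower R R' D := IsScalarTower.of_algebraMap_eq (fun x => rfl)
  obtain ⟨χ, hχ⟩ := h D J hJ (ψ.restrictScalars R) hψ
  refine ⟨{ χ.toRingHom with
    commutes' := fun x' => by
      obtain ⟨x, rfl⟩ := hsurj x'
      show χ (algebraMap R' S (algebraMap R R' x)) = _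
      rw [← IsScalarTower.algebraMap_apply, χ.commutes]
      rfl }, AlgHom.ext fun s => ?_⟩
  exact DFunLike.congr_fun hχ s

section fibreEquiv

variable {A κ C B₀ : Type*} [CommRing A] [CommRing κ] [CommRing C] [CommRing B₀]
  [Algebra A κ] [Algebra A C] [Algebra κ B₀]

theorem one_tmul_eq_zero_of_mem (I : Ideal A) (hI : RingHom.ker (algebraMap A κ) = I) (c : C)
    (hc : c ∈ I.map (algebraMap A C)) : (1 : κ) ⊗ₜ[A] c = 0 := by
  refine Submodule.span_induction ?_ ?_ ?_ ?_ hc
  · rintro _ ⟨a, ha, rfl⟩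
    have h1 : algebraMap A κ a = 0 := by
      rw [← RingHom.mem_ker, hI]
      exact ha
    rw [Algebra.algebraMap_eq_smul_one, ← TensorProduct.smul_tmul, ← Algebra.algebraMap_eq_smul_one,
      h1, TensorProduct.zero_tmul]
  · exact TensorProduct.tmul_zero _ _
  · intro x y _ _ hx hy
    rw [TensorProduct.tmul_add, hx, hy, add_zero]
  · intro d x _ hx
    have : (1 : κ) ⊗ₜ[A] (d • x) = ((1 : κ) ⊗ₜ[A] d) * ((1 : κ) ⊗ₜ[A] x) := by
      rw [Algebra.TensorProduct.tmul_mul_tmul, mul_one, smul_eq_mul]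
    rw [this, hx, mul_zero]

theorem exists_one_tmul (hsurj : Function.Surjective (algebraMap A κ)) (z : κ ⊗[A] C) :
    ∃ c : C, z = (1 : κ) ⊗ₜ[A] c := by
  induction z using TensorProduct.induction_on with
  | zero => exact ⟨0, (TensorProduct.tmul_zero _ _).symm⟩
  | tmul x c =>
    obtain ⟨a, rfl⟩ := hsurj x
    refine ⟨a • c, ?_⟩
    rw [Algebra.algebraMap_eq_smul_one, TensorProduct.smul_tmul]
  | add x y hx hy =>
    obtain ⟨c, rfl⟩ := hx
    obtain ⟨d, rfl⟩ := hy
    exact ⟨c + d, (TensorProduct.tmul_add _ _ _).symm⟩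

noncomputable def fibreEquiv (I : Ideal A) (hsurj : Function.Surjective (algebraMap A κ))
    (hI : RingHom.ker (algebraMap A κ) = I) (φ : C →+* B₀) (hφs : Function.Surjective φ)
    (hφ : ∀ a, φ (algebraMap A C a) = algebraMap κ B₀ (algebraMap A κ a))
    (hker : RingHom.ker φ = I.map (algebraMap A C)) : κ ⊗[A] C ≃ₐ[κ] B₀ :=
  letI : Algebra A B₀ := ((algebraMap κ B₀).comp (algebraMap A κ)).toAlgebra
  haveI : IsScalarTower A κ B₀ := IsScalarTower.of_algebraMap_eq (fun x => rfl)
  let φₐ : C →ₐ[A] B₀ := { φ with commutes' := hφ }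
  let Ψ : κ ⊗[A] C →ₐ[κ] B₀ :=
    Algebra.TensorProduct.lift (Algebra.ofId κ B₀) φₐ (fun _ _ => Commute.all _ _)
  AlgEquiv.ofBijective Ψ (by
    have hΨ : ∀ c : C, Ψ ((1 : κ) ⊗ₜ[A] c) = φ c := by
      intro c
      show Algebra.TensorProduct.lift (Algebra.ofId κ B₀) φₐ _ ((1 : κ) ⊗ₜ[A] c) = _
      rw [Algebra.TensorProduct.lift_tmul, map_one, one_mul]
      rfl
    constructor
    · rw [injective_iff_map_eq_zero]
      intro z hz
      obtain ⟨c, rfl⟩ := exists_one_tmul hsurj z
      rw [hΨ] at hz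
      apply one_tmul_eq_zero_of_mem I hI
      rw [← hker]
      exact hz
    · intro b
      obtain ⟨c, rfl⟩ := hφs b
      exact ⟨(1 : κ) ⊗ₜ[A] c, hΨ c⟩)

end fibreEquiv

end Groth.Agent.Lib.Helper49.FlatFS
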