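import Mathlib
import Groth.Agent.Lib.Helper67.QuotData2
import Groth.Agent.Lib.Helper77.RegularPowerSeries

set_option autoImplicit false
universe u
namespace Groth.Agent.Lib.Helper49.FlatPS

open IsLocalRing

theorem isLocalHom_mvMap {σ : Type*} {R S : Type*} [CommRing R] [CommRing S] (θ : R →+* S)
    [IsLocalHom θ] : IsLocalHom (MvPowerSeries.map (σ := σ) θ) := by
  refine ⟨fun a ha => ?_⟩
  rw [MvPowerSeries.isUnit_iff_constantCoeff] at ha ⊢
  rw [MvPowerSeries.constantCoeff_map] at ha
  exact IsLocalHom.map_nonunit _ ha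

noncomputable def quotXEquiv (R : Type u) [CommRing R] :
    (PowerSeries R ⧸ Ideal.span {(PowerSeries.X : PowerSeries R)}) ≃+* R :=
  (Ideal.quotEquivOfEq
    (Groth.Agent.Lib.Helper77.RegularPowerSeries.ker_constantCoeff R).symm).trans
    (RingHom.quotientKerEquivOfSurjective
      (f := (PowerSeries.constantCoeff (R := R)))
      (fun r => ⟨PowerSeries.C r, PowerSeries.constantCoeff_C r⟩))

theorem quotXEquiv_mk (R : Type u) [CommRing R] (f : PowerSeries R) :
    quotXEquiv R (Ideal.Quotient.mk _ f) = PowerSeries.constantCoeff f := by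
  unfold quotXEquiv
  rw [RingEquiv.trans_apply, Ideal.quotEquivOfEq_mk]
  exact RingHom.quotientKerEquivOfSurjective_apply_mk _ f

theorem flat_quotX (R S : Type u) [CommRing R] [CommRing S] [Algebra R S] [Module.Flat R S] :
    Module.Flat (PowerSeries R ⧸ Ideal.span {(PowerSeries.X : PowerSeries R)})
      (PowerSeries S ⧸ (Ideal.span {(PowerSeries.X : PowerSeries R)}).map
        (algebraMap (PowerSeries R) (PowerSeries S))) := by
  have hmap : (Ideal.span {(PowerSeries.X : PowerSeries R)}).map
      (algebraMap (PowerSeries R) (PowerSeries S)) = Ideal.span {(PowerSeries.X : PowerSeries S)} := by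
    rw [Ideal.map_span, Set.image_singleton, PowerSeries.algebraMap_apply'', PowerSeries.map_X]
  let eS : (PowerSeries S ⧸ (Ideal.span {(PowerSeries.X : PowerSeries R)}).map
      (algebraMap (PowerSeries R) (PowerSeries S))) ≃+* S :=
    (Ideal.quotEquivOfEq hmap).trans (quotXEquiv S)
  have heS : ∀ f : PowerSeries S, eS (Ideal.Quotient.mk _ f) = PowerSeries.constantCoeff f := by
    intro f
    show (quotXEquiv S) ((Ideal.quotEquivOfEq hmap) (Ideal.Quotient.mk _ f)) = _
    rw [Ideal.quotEquivOfEq_mk, quotXEquiv_mk]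
  have h1 : (algebraMap (PowerSeries R ⧸ Ideal.span {(PowerSeries.X : PowerSeries R)})
      (PowerSeries S ⧸ (Ideal.span {(PowerSeries.X : PowerSeries R)}).map
        (algebraMap (PowerSeries R) (PowerSeries S)))) =
      eS.symm.toRingHom.comp ((algebraMap R S).comp (quotXEquiv R).toRingHom) := by
    apply Ideal.Quotient.ringHom_ext
    ext f
    simp only [RingHom.comp_apply, RingEquiv.toRingHom_eq_coe, RingEquiv.coe_toRingHom]
    rw [quotXEquiv_mk, RingEquiv.eq_symm_apply]
    have : (algebraMap (PowerSeries R ⧸ Ideal.span {(PowerSeries.X : PowerSeries R)})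
      (PowerSeries S ⧸ (Ideal.span {(PowerSeries.X : PowerSeries R)}).map
        (algebraMap (PowerSeries R) (PowerSeries S)))) (Ideal.Quotient.mk _ f) =
        Ideal.Quotient.mk _ (algebraMap (PowerSeries R) (PowerSeries S) f) := rfl
    rw [this, heS, PowerSeries.algebraMap_apply'']
    exact MvPowerSeries.constantCoeff_map (algebraMap R S) f
  rw [← RingHom.flat_algebraMap_iff, h1]
  refine RingHom.Flat.comp (RingHom.Flat.comp ?_ ?_) ?_
  · exact RingHom.Flat.of_bijective (quotXEquiv R).bijective
  · exact RingHom.flat_algebraMap_iff.mpr inferInstance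
  · exact RingHom.Flat.of_bijective eS.symm.bijective

theorem flat_powerSeries_aux (R S : Type u) [CommRing R] [CommRing S] [Algebra R S]
    [IsLocalRing R] [IsLocalRing S] [IsNoetherianRing R] [IsNoetherianRing S]
    [IsLocalHom (algebraMap R S)] [Module.Flat R S] :
    Module.Flat (PowerSeries R) (PowerSeries S) := by
  haveI : IsLocalHom (algebraMap (PowerSeries R) (PowerSeries S)) :=
    isLocalHom_mvMap (σ := Unit) (algebraMap R S)
  have hX : (PowerSeries.X : PowerSeries R) ∈ maximalIdeal (PowerSeries R) := by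
    rw [IsLocalRing.mem_maximalIdeal, mem_nonunits_iff]
    intro h
    have := (PowerSeries.isUnit_iff_constantCoeff).mp h
    rw [PowerSeries.constantCoeff_X] at this
    exact not_isUnit_zero this
  have hofList : Ideal.ofList [(PowerSeries.X : PowerSeries R)] = Ideal.span {PowerSeries.X} := by
    rw [Ideal.ofList_singleton]
  have hflat := flat_quotX R S
  have hsm : ∀ h : PowerSeries S, (PowerSeries.X : PowerSeries R) • h = PowerSeries.X * h := by
    intro h
    rw [Algebra.smul_def, PowerSeries.algebraMap_apply'', PowerSeries.map_X]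
  refine Groth.Agent.Lib.Helper67.flat_of_isWeaklyRegular_of_flat_quot_aux 1
    (PowerSeries R) (PowerSeries S) (PowerSeries S) [PowerSeries.X] rfl ?_ ?_
    (PowerSeries R ⧸ Ideal.span {(PowerSeries.X : PowerSeries R)})
    (PowerSeries S ⧸ (Ideal.span {(PowerSeries.X : PowerSeries R)}).map
        (algebraMap (PowerSeries R) (PowerSeries S)))
    (Ideal.Quotient.mkₐ (PowerSeries R) _).toLinearMap ?_ ?_ ?_ ?_ hflat
  · intro f hf
    rw [List.mem_singleton] at hf
    rw [hf]
    exact hX
  · rw [RingTheory.Sequence.isWeaklyRegular_cons_iff]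
    refine ⟨?_, RingTheory.Sequence.IsWeaklyRegular.nil _ _⟩
    intro f g hfg
    have h1 : (PowerSeries.X : PowerSeries S) * f = PowerSeries.X * g := by
      have := hfg
      simp only [hsm] at this
      exact this
    exact PowerSeries.X_mul_cancel h1
  · exact Ideal.Quotient.mk_surjective
  · rw [hofList, Ideal.Quotient.algebraMap_eq, Ideal.mk_ker]
  · exact Ideal.Quotient.mk_surjective
  · rw [hofList, Ideal.smul_top_eq_map]
    ext f
    rw [LinearMap.mem_ker, Submodule.restrictScalars_mem]
    show Ideal.Quotient.mk _ f = 0 ↔ _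
    rw [Ideal.Quotient.eq_zero_iff_mem]

theorem flat_powerSeries {R S : Type u} [CommRing R] [CommRing S]
    [IsLocalRing R] [IsLocalRing S] [IsNoetherianRing R] [IsNoetherianRing S]
    (θ : R →+* S) [hl : IsLocalHom θ] (hθ : θ.Flat) : (PowerSeries.map θ).Flat := by
  letI := θ.toAlgebra
  haveI : IsLocalHom (algebraMap R S) := hl
  haveI : Module.Flat R S := hθ
  exact RingHom.flat_algebraMap_iff.mpr (flat_powerSeries_aux R S)

theorem finSuccEquiv_map {R S : Type*} [CommRing R] [CommRing S] (θ : R →+* S) (n : ℕ)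
    (p : MvPowerSeries (Fin (n + 1)) R) :
    MvPowerSeries.finSuccEquiv S n (MvPowerSeries.map θ p) =
      PowerSeries.map (MvPowerSeries.map θ) (MvPowerSeries.finSuccEquiv R n p) := by
  ext k x
  rw [MvPowerSeries.coeff_coeff_finSuccEquiv, MvPowerSeries.coeff_map, PowerSeries.coeff_map,
    MvPowerSeries.coeff_map, MvPowerSeries.coeff_coeff_finSuccEquiv]

theorem flat_mvPowerSeries (n : ℕ) : ∀ {R S : Type u} [CommRing R] [CommRing S]
    [IsLocalRing R] [IsLocalRing S] [IsNoetherianRing R] [IsNoetherianRing S]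
    (θ : R →+* S) [IsLocalHom θ], θ.Flat → (MvPowerSeries.map (σ := Fin n) θ).Flat := by
  induction n with
  | zero =>
    intro R S _ _ _ _ _ _ θ _ hθ
    have h1 : MvPowerSeries.map (σ := Fin 0) θ =
        ((MvPowerSeries.isEmptyEquiv (Fin 0) S).symm : S →+* MvPowerSeries (Fin 0) S).comp
          (θ.comp ((MvPowerSeries.isEmptyEquiv (Fin 0) R) : MvPowerSeries (Fin 0) R →+* R)) := by
      ext f : 1
      simp only [RingHom.comp_apply]
      rw [RingHom.coe_coe, RingHom.coe_coe, AlgEquiv.eq_symm_apply]
      show MvPowerSeries.constantCoeff (MvPowerSeries.map θ f) = θ (MvPowerSeries.constantCoeff f)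
      rw [MvPowerSeries.constantCoeff_map]
    rw [h1]
    refine RingHom.Flat.comp (RingHom.Flat.comp ?_ hθ) ?_
    · exact RingHom.Flat.of_bijective (MvPowerSeries.isEmptyEquiv (Fin 0) R).bijective
    · exact RingHom.Flat.of_bijective (MvPowerSeries.isEmptyEquiv (Fin 0) S).symm.bijective
  | succ n ih =>
    intro R S _ _ _ _ _ _ θ _ hθ
    haveI : IsLocalHom (MvPowerSeries.map (σ := Fin n) θ) := isLocalHom_mvMap θ
    have h0 := flat_powerSeries (MvPowerSeries.map (σ := Fin n) θ) (ih θ hθ)
    have h1 : MvPowerSeries.map (σ := Fin (n + 1)) θ =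
        ((MvPowerSeries.finSuccEquiv S n).symm :
          PowerSeries (MvPowerSeries (Fin n) S) →+* MvPowerSeries (Fin (n + 1)) S).comp
          ((PowerSeries.map (MvPowerSeries.map (σ := Fin n) θ)).comp
            ((MvPowerSeries.finSuccEquiv R n) :
              MvPowerSeries (Fin (n + 1)) R →+* PowerSeries (MvPowerSeries (Fin n) R))) := by
      ext f : 1
      simp only [RingHom.comp_apply]
      rw [RingHom.coe_coe, RingHom.coe_coe, AlgEquiv.eq_symm_apply]
      exact finSuccEquiv_map θ n f
    rw [h1]
    refine RingHom.Flat.comp (RingHom.Flat.comp ?_ h0) ?_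
    · exact RingHom.Flat.of_bijective (MvPowerSeries.finSuccEquiv R n).bijective
    · exact RingHom.Flat.of_bijective (MvPowerSeries.finSuccEquiv S n).symm.bijective

end Groth.Agent.Lib.Helper49.FlatPS
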