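import Groth.Agent.Lib.Helper49.CoeffField
import Groth.Agent.Lib.Helper61.PSEval
import Groth.Agent.S11740
import Groth.Agent.S11741

set_option autoImplicit false
universe u
namespace Groth.Agent.Lib.Helper49.CoeffField

open IsLocalRing

theorem exists_presentation {K A : Type u} [Field K] [CommRing A] [IsLocalRing A]
    [IsNoetherianRing A] [IsAdicComplete (maximalIdeal A) A] [Algebra K A]
    (hR : Function.Surjective ((residue A).comp (algebraMap K A))) :
    ∃ (d : ℕ) (ψ : MvPowerSeries (Fin d) K →ₐ[K] A),
      d = Module.finrank (ResidueField A) (CotangentSpace A) ∧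
      Function.Surjective ψ ∧
      RingHom.ker ψ.toRingHom ≤ maximalIdeal (MvPowerSeries (Fin d) K) ^ 2 ∧
      (IsRegularLocalRing A ↔ Function.Bijective ψ) := by
  classical
  let d := Module.finrank (ResidueField A) (CotangentSpace A)
  let B : Module.Basis (Fin d) (ResidueField A) (CotangentSpace A) :=
    Module.finBasis (ResidueField A) (CotangentSpace A)
  have hsurj : Function.Surjective (maximalIdeal A).toCotangent := Ideal.toCotangent_surjective _
  choose c hc using fun i => hsurj (B i)
  let b : Fin d → A := fun i => (c i : A)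
  have hcB : (fun i => (maximalIdeal A).toCotangent (c i)) = B := funext hc
  have hspan : Ideal.span (Set.range b) = maximalIdeal A := by
    have h1 : Submodule.span (ResidueField A) ((maximalIdeal A).toCotangent '' Set.range c) = ⊤ := by
      rw [← Set.range_comp]
      change Submodule.span (ResidueField A)
        (Set.range (fun i => (maximalIdeal A).toCotangent (c i))) = ⊤
      rw [hcB]
      exact B.span_eq
    have h2 := CotangentSpace.span_image_eq_top_iff.mp h1
    have h3 := congrArg (Submodule.map (maximalIdeal A).subtype) h2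
    rw [Submodule.map_span, Submodule.map_top, Submodule.range_subtype, ← Set.range_comp] at h3
    exact h3
  haveI : IsAdicComplete (Ideal.span (Set.range b)) A := by
    rw [hspan]
    infer_instance
  obtain ⟨ψ, hψ⟩ := Groth.Agent.Lib.Helper61.PSEval.exists_eval K A b
  have hψm : ∀ i, ψ (MvPowerSeries.X i) ∈ maximalIdeal A := fun i => by
    rw [hψ]
    exact (c i).2
  have hcot : (fun i : Fin d => (maximalIdeal A).toCotangent ⟨ψ (MvPowerSeries.X i), hψm i⟩) =
      B := by
    funext i
    rw [← hc i]
    congr 1
    exact Subtype.ext (hψ i)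
  have hb : LinearIndependent (ResidueField A)
      (fun i : Fin d => (maximalIdeal A).toCotangent ⟨ψ (MvPowerSeries.X i), hψm i⟩) := by
    rw [hcot]
    exact B.linearIndependent
  have hsp : Submodule.span (ResidueField A) (Set.range
      (fun i : Fin d => (maximalIdeal A).toCotangent ⟨ψ (MvPowerSeries.X i), hψm i⟩)) = ⊤ := by
    rw [hcot]
    exact B.span_eq
  have h1 := Groth.Agent.S11740.result K A hR d ψ hψm hb hsp
  exact ⟨d, ψ, rfl, h1.1, h1.2, Groth.Agent.S11741.result K A hR d ψ hψm hb hsp⟩

theorem exists_section (p : ℕ) {A : Type u} [CommRing A] [IsLocalRing A]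
    [IsAdicComplete (maximalIdeal A) A] [CharP (ResidueField A) p] (hp : (p : A) = 0) :
    ∃ σ : ResidueField A →+* A, ∀ x, residue A (σ x) = x := by
  let f : ResidueField A →+* A ⧸ maximalIdeal A :=
    { toFun := fun x => x
      map_one' := rfl
      map_mul' := fun _ _ => rfl
      map_zero' := rfl
      map_add' := fun _ _ => rfl }
  obtain ⟨g, hg⟩ := exists_lift p hp (maximalIdeal A) f
  exact ⟨g, fun x => DFunLike.congr_fun hg x⟩

end Groth.Agent.Lib.Helper49.CoeffField
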