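import Mathlib
import Groth.Agent.Lib.Helper49.CoeffFieldPS
import Groth.Agent.Lib.Helper38.CohenStructure
import Groth.Agent.Lib.Helper76.PowSeries
import Groth.Agent.Lib.Helper61.CompleteLE
import Groth.Agent.Lib.Helper61.MvPSComplete

set_option autoImplicit false
universe u
namespace Groth.Agent.Lib.Helper49.TwLift

open IsLocalRing Groth.Agent.Lib.Helper76

theorem maximalIdeal_eq_coeffIdeal {R : Type*} [CommRing R] [IsLocalRing R] {σ : Type*} :
    maximalIdeal (MvPowerSeries σ R) = coeffIdeal (maximalIdeal R) 1 := by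
  ext f
  rw [IsLocalRing.mem_maximalIdeal, mem_nonunits_iff, MvPowerSeries.isUnit_iff_constantCoeff,
    mem_coeffIdeal]
  constructor
  · intro hf α
    by_cases hα : α = 0
    · subst hα
      simpa using (IsLocalRing.mem_maximalIdeal _).2 hf
    · have : 1 - α.degree = 0 := by
        have : α.degree ≠ 0 := fun h => hα ((Finsupp.degree_eq_zero_iff α).1 h)
        omega
      rw [this, pow_zero, Ideal.one_eq_top]
      exact Submodule.mem_top
  · intro hf
    have := hf 0
    simpa using this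

theorem maximalIdeal_eq_bigIdeal {R : Type*} [CommRing R] [IsLocalRing R] {σ : Type*} [Finite σ] :
    maximalIdeal (MvPowerSeries σ R) = bigIdeal (maximalIdeal R) := by
  rw [maximalIdeal_eq_coeffIdeal, ← pow_bigIdeal_eq, pow_one]

theorem isAdicComplete_mvPowerSeries {R : Type*} [CommRing R] [IsLocalRing R]
    [IsAdicComplete (maximalIdeal R) R] {σ : Type*} [Finite σ] :
    IsAdicComplete (maximalIdeal (MvPowerSeries σ R)) (MvPowerSeries σ R) := by
  rw [maximalIdeal_eq_bigIdeal]
  exact isAdicComplete_bigIdeal _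

theorem comap_constantCoeff {R : Type*} [CommRing R] {σ : Type*} [Finite σ] (J : Ideal R) :
    J.comap (MvPowerSeries.constantCoeff (σ := σ) (R := R)) = bigIdeal J := by
  apply le_antisymm
  · intro f hf
    rw [Ideal.mem_comap] at hf
    have h1 : f = MvPowerSeries.C (MvPowerSeries.constantCoeff f) +
        (f - MvPowerSeries.C (MvPowerSeries.constantCoeff f)) := by ring
    rw [h1]
    refine Ideal.add_mem _ (Ideal.mem_sup_left (Ideal.mem_map_of_mem _ hf)) (Ideal.mem_sup_right ?_)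
    have h2 := Groth.Agent.Lib.Helper61.MvPSComplete.mem_pow_iff (σ := σ) (R := R) (M := 1)
      (f := f - MvPowerSeries.C (MvPowerSeries.constantCoeff f))
    rw [pow_one] at h2
    rw [h2, Nat.cast_one, MvPowerSeries.one_le_order_iff_constCoeff_eq_zero, map_sub,
      MvPowerSeries.constantCoeff_C, sub_self]
  · unfold bigIdeal
    rw [sup_le_iff]
    constructor
    · rw [Ideal.map_le_iff_le_comap]
      intro r hr
      rw [Ideal.mem_comap, Ideal.mem_comap, MvPowerSeries.constantCoeff_C]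
      exact hr
    · rw [Ideal.span_le]
      rintro _ ⟨i, rfl⟩
      show MvPowerSeries.constantCoeff (MvPowerSeries.X i) ∈ J
      rw [MvPowerSeries.constantCoeff_X]
      exact Ideal.zero_mem _

theorem isLocalHom_of_isField {Λ S : Type*} [CommRing Λ] [CommRing S] [Nontrivial S]
    (hΛ : IsField Λ) (ρ : Λ →+* S) : IsLocalHom ρ := by
  refine ⟨fun a ha => ?_⟩
  rcases eq_or_ne a 0 with rfl | h
  · rw [map_zero] at ha
    exact absurd ha not_isUnit_zero
  · obtain ⟨b, hb⟩ := hΛ.mul_inv_cancel h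
    exact IsUnit.of_mul_eq_one b hb

theorem exists_wdata_field {Λ B₀ : Type u} [CommRing Λ] [IsLocalRing Λ] [CommRing B₀]
    [IsLocalRing B₀] [IsNoetherianRing B₀] [IsAdicComplete (maximalIdeal B₀) B₀]
    (hΛ : IsField Λ) (ρ : Λ →+* B₀) :
    ∃ (W : Type u) (_ : CommRing W) (_ : IsLocalRing W) (_ : IsNoetherianRing W)
      (θ : Λ →+* W) (σ : W →+* B₀),
      IsAdicComplete (maximalIdeal W) W ∧ IsLocalHom θ ∧ θ.Flat ∧ Function.Surjective σ ∧
        σ.comp θ = ρ ∧ RingHom.ker σ = (maximalIdeal Λ).map θ := by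
  refine ⟨B₀, inferInstance, inferInstance, inferInstance, ρ, RingHom.id B₀, inferInstance,
    isLocalHom_of_isField hΛ ρ, RingHom.Flat.of_isField hΛ ρ, Function.surjective_id,
    RingHom.id_comp ρ, ?_⟩
  rw [(IsLocalRing.isField_iff_maximalIdeal_eq.mp hΛ), Ideal.map_bot]
  ext x
  rw [RingHom.mem_ker, RingHom.id_apply, Ideal.mem_bot]

theorem ker_map_le_span {Λ' K : Type*} [CommRing Λ'] [CommRing K] {σ : Type*} (red : Λ' →+* K)
    (c : Λ') (hker : RingHom.ker red ≤ Ideal.span {c}) :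
    RingHom.ker (MvPowerSeries.map (σ := σ) red) ≤
      Ideal.span {(MvPowerSeries.C c : MvPowerSeries σ Λ')} := by
  intro f hf
  rw [RingHom.mem_ker] at hf
  have h1 : ∀ d : σ →₀ ℕ, ∃ b : Λ', MvPowerSeries.coeff d f = c * b := by
    intro d
    have h2 : red (MvPowerSeries.coeff d f) = 0 := by
      rw [← MvPowerSeries.coeff_map, hf, map_zero]
    have h3 := hker ((RingHom.mem_ker).mpr h2)
    obtain ⟨b, hb⟩ := Ideal.mem_span_singleton'.mp h3
    exact ⟨b, by rw [← hb, mul_comm]⟩
  choose g hg using h1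
  rw [Ideal.mem_span_singleton]
  refine ⟨fun d => g d, ?_⟩
  ext d
  rw [MvPowerSeries.coeff_C_mul, hg d]
  rfl

theorem mvMap_surjective {Λ' K : Type*} [CommRing Λ'] [CommRing K] {σ : Type*} (red : Λ' →+* K)
    (hred : Function.Surjective red) : Function.Surjective (MvPowerSeries.map (σ := σ) red) := by
  intro g
  refine ⟨fun d => (hred (MvPowerSeries.coeff d g)).choose, ?_⟩
  ext d
  rw [MvPowerSeries.coeff_map]
  exact (hred (MvPowerSeries.coeff d g)).choose_spec

theorem exists_wdata_cohen {Λ B₀ : Type u} [CommRing Λ] [IsLocalRing Λ] [CommRing B₀]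
    [IsRegularLocalRing B₀] [IsAdicComplete (maximalIdeal B₀) B₀]
    (hΛ : CAlg.IsCohenRing Λ) (ρ : Λ →+* B₀) (hρ : maximalIdeal Λ ≤ RingHom.ker ρ) :
    ∃ (W : Type u) (_ : CommRing W) (_ : IsLocalRing W) (_ : IsNoetherianRing W)
      (θ : Λ →+* W) (σ : W →+* B₀),
      IsAdicComplete (maximalIdeal W) W ∧ IsLocalHom θ ∧ θ.Flat ∧ Function.Surjective σ ∧
        σ.comp θ = ρ ∧ RingHom.ker σ = (maximalIdeal Λ).map θ := by
  obtain ⟨hdom, hdvr, hcomp, p, hp, hmax⟩ := hΛ
  haveI : Fact p.Prime := ⟨hp⟩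
  have hp0 : (p : Λ) ≠ 0 := by
    intro h
    rw [h, Ideal.span_singleton_eq_bot.mpr rfl] at hmax
    exact IsDiscreteValuationRing.not_a_field Λ hmax
  have hpm : (p : Λ) ∈ maximalIdeal Λ := by
    rw [hmax]
    exact Ideal.mem_span_singleton_self _
  have hpB : (p : B₀) = 0 := by
    have h2 := hρ hpm
    rwa [RingHom.mem_ker, map_natCast] at h2
  haveI : CharP (ResidueField B₀) p := (CharP.charP_iff_prime_eq_zero hp).mpr (by
    rw [← map_natCast (residue B₀), hpB, map_zero])
  obtain ⟨σ₀, hσ₀⟩ := CoeffField.exists_section p hpB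
  letI : Algebra (ResidueField B₀) B₀ := σ₀.toAlgebra
  obtain ⟨d, ψ, -, hψs, -, hψb⟩ := CoeffField.exists_presentation (K := ResidueField B₀)
    (A := B₀) (fun x => ⟨x, hσ₀ x⟩)
  have hψbij : Function.Bijective ψ := hψb.mp inferInstance
  obtain ⟨Λ', _, _, _, hdvr', hcomp', hmax', hp0', ⟨e⟩⟩ :=
    Groth.Agent.Lib.Helper38.CohenCompl.exists_cohenRing' p (ResidueField B₀)
  haveI := hdvr'
  haveI := hcomp'
  let red : Λ' →+* ResidueField B₀ := e.toRingHom.comp (residue Λ')
  have hred : Function.Surjective red := e.surjective.comp residue_surjective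
  have hkerred : RingHom.ker red = Ideal.span {(p : Λ')} := by
    rw [← hmax']
    ext x
    rw [RingHom.mem_ker]
    show e (residue Λ' x) = 0 ↔ _
    rw [EmbeddingLike.map_eq_zero_iff, residue_eq_zero_iff]
  let σ : MvPowerSeries (Fin d) Λ' →+* B₀ := ψ.toRingHom.comp (MvPowerSeries.map red)
  have hσs : Function.Surjective σ := hψs.comp (mvMap_surjective red hred)
  have hpW : ((p : ℕ) : MvPowerSeries (Fin d) Λ') = MvPowerSeries.C ((p : ℕ) : Λ') :=
    (map_natCast (MvPowerSeries.C (σ := Fin d) (R := Λ')) p).symm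
  have hker : RingHom.ker σ = Ideal.span {((p : ℕ) : MvPowerSeries (Fin d) Λ')} := by
    apply le_antisymm
    · intro f hf
      rw [hpW]
      apply ker_map_le_span red (p : Λ') hkerred.le
      rw [RingHom.mem_ker] at hf ⊢
      apply hψbij.1
      rw [map_zero]
      exact hf
    · rw [Ideal.span_singleton_le_iff_mem, RingHom.mem_ker, map_natCast]
      exact hpB
  have hpmW : ((p : ℕ) : MvPowerSeries (Fin d) Λ') ∈ maximalIdeal (MvPowerSeries (Fin d) Λ') := by
    rw [IsLocalRing.mem_maximalIdeal, mem_nonunits_iff]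
    intro h
    have h1 := h.map σ
    rw [map_natCast, hpB] at h1
    exact not_isUnit_zero h1
  haveI hcW : IsAdicComplete (maximalIdeal (MvPowerSeries (Fin d) Λ')) (MvPowerSeries (Fin d) Λ') :=
    isAdicComplete_mvPowerSeries
  haveI : IsAdicComplete (Ideal.span {((p : ℕ) : MvPowerSeries (Fin d) Λ')})
      (MvPowerSeries (Fin d) Λ') :=
    Groth.Agent.Lib.Helper61.CompleteLE.isAdicComplete_of_le _ (maximalIdeal _)
      ((Ideal.span_singleton_le_iff_mem _).mpr hpmW) (Submodule.fg_span_singleton _)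
  let iso : (MvPowerSeries (Fin d) Λ' ⧸ Ideal.span {((p : ℕ) : MvPowerSeries (Fin d) Λ')}) ≃+* B₀ :=
    (Ideal.quotEquivOfEq hker.symm).trans (RingHom.quotientKerEquivOfSurjective hσs)
  have hiso : ∀ w, iso (Ideal.Quotient.mk _ w) = σ w := by
    intro w
    show (RingHom.quotientKerEquivOfSurjective hσs) ((Ideal.quotEquivOfEq hker.symm)
      (Ideal.Quotient.mk _ w)) = _
    rw [Ideal.quotEquivOfEq_mk]
    exact RingHom.quotientKerEquivOfSurjective_apply_mk _ w
  obtain ⟨θ, hθ⟩ := Groth.Agent.Lib.Helper38.CohenStructure.exists_lift_cohenRing p hmax hp0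
    (Ideal.span {((p : ℕ) : MvPowerSeries (Fin d) Λ')}) (Ideal.mem_span_singleton_self _)
    (iso.symm.toRingHom.comp ρ)
  have hσθ : σ.comp θ = ρ := by
    ext x
    have h1 := DFunLike.congr_fun hθ x
    simp only [RingHom.comp_apply] at h1
    rw [RingHom.comp_apply, ← hiso, h1]
    exact iso.apply_symm_apply _
  have hθp : θ (p : Λ) = ((p : ℕ) : MvPowerSeries (Fin d) Λ') := map_natCast θ p
  have hloc : IsLocalHom θ := by
    refine ⟨fun a ha => ?_⟩
    by_contra hna
    have h1 : a ∈ maximalIdeal Λ := hna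
    have h2 := hρ h1
    rw [RingHom.mem_ker, ← hσθ, RingHom.comp_apply] at h2
    have h3 := ha.map σ
    rw [h2] at h3
    exact not_isUnit_zero h3
  have hpW0 : ((p : ℕ) : MvPowerSeries (Fin d) Λ') ≠ 0 := by
    rw [hpW]
    intro h
    have := MvPowerSeries.C_injective (σ := Fin d) (R := Λ') (h.trans (map_zero _).symm)
    exact hp0' this
  have hinj : ∀ a : Λ, a ≠ 0 → θ a ≠ 0 := by
    intro a ha
    have hirr : Irreducible (p : Λ) := (IsDiscreteValuationRing.irreducible_iff_uniformizer _).mpr hmax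
    obtain ⟨n, u, rfl⟩ := IsDiscreteValuationRing.eq_unit_mul_pow_irreducible ha hirr
    rw [map_mul, map_pow, hθp]
    exact mul_ne_zero ((u.isUnit.map θ).ne_zero) (pow_ne_zero n hpW0)
  have hflat : θ.Flat := by
    letI := θ.toAlgebra
    rw [← θ.algebraMap_toAlgebra, RingHom.flat_algebraMap_iff]
    haveI : Module.IsTorsionFree Λ (MvPowerSeries (Fin d) Λ') := by
      refine ⟨fun r hr w₁ w₂ h => ?_⟩
      have h1 : θ r * w₁ = θ r * w₂ := by
        have := h
        simp only [Algebra.smul_def] at this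
        exact this
      exact mul_left_cancel₀ (hinj r hr.ne_zero) h1
    infer_instance
  refine ⟨MvPowerSeries (Fin d) Λ', inferInstance, inferInstance, inferInstance, θ, σ, hcW, hloc,
    hflat, hσs, hσθ, ?_⟩
  rw [hker, hmax, Ideal.map_span, Set.image_singleton, hθp]

theorem exists_wdata {Λ B₀ : Type u} [CommRing Λ] [IsLocalRing Λ] [CommRing B₀]
    [IsRegularLocalRing B₀] [IsAdicComplete (maximalIdeal B₀) B₀]
    (hΛ : IsField Λ ∨ CAlg.IsCohenRing Λ) (ρ : Λ →+* B₀) (hρ : maximalIdeal Λ ≤ RingHom.ker ρ) :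
    ∃ (W : Type u) (_ : CommRing W) (_ : IsLocalRing W) (_ : IsNoetherianRing W)
      (θ : Λ →+* W) (σ : W →+* B₀),
      IsAdicComplete (maximalIdeal W) W ∧ IsLocalHom θ ∧ θ.Flat ∧ Function.Surjective σ ∧
        σ.comp θ = ρ ∧ RingHom.ker σ = (maximalIdeal Λ).map θ := by
  rcases hΛ with h | h
  · exact exists_wdata_field h ρ
  · exact exists_wdata_cohen h ρ hρ

end Groth.Agent.Lib.Helper49.TwLift
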