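import Mathlib
import Groth.Agent.Lib.Helper49.TwLift1
import Groth.Agent.Lib.Helper49.FlatPS
import Groth.Agent.Lib.Helper49.FSQuot
import Groth.Agent.Lib.Helper38.ComplNagata

set_option autoImplicit false
universe u
namespace Groth.Agent.Lib.Helper49.TwLift

open IsLocalRing Groth.Agent.Lib.Helper76

theorem map_bigIdeal {Λ W : Type*} [CommRing Λ] [CommRing W] {σ : Type*} (θ : Λ →+* W)
    (J : Ideal Λ) :
    (bigIdeal (σ := σ) J).map (MvPowerSeries.map θ) = bigIdeal (J.map θ) := by
  unfold bigIdeal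
  rw [Ideal.map_sup, Ideal.map_map, Ideal.map_map, Ideal.map_span]
  congr 1
  · congr 1
    ext x : 1
    simp only [RingHom.comp_apply, MvPowerSeries.map_C]
  · congr 1
    ext y
    constructor
    · rintro ⟨_, ⟨i, rfl⟩, rfl⟩
      exact ⟨i, (MvPowerSeries.map_X θ i).symm⟩
    · rintro ⟨i, rfl⟩
      exact ⟨_, ⟨i, rfl⟩, MvPowerSeries.map_X θ i⟩

theorem exists_flat_lift_complete {A : Type u} [CommRing A] [IsLocalRing A] [IsNoetherianRing A]
    [IsAdicComplete (maximalIdeal A) A]
    (B₀ : Type u) [CommRing B₀] [IsRegularLocalRing B₀] [IsAdicComplete (maximalIdeal B₀) B₀]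
    (r : A →+* B₀) (hr : maximalIdeal A ≤ RingHom.ker r) :
    ∃ (B : Type u) (_ : CommRing B) (_ : IsLocalRing B) (_ : IsNoetherianRing B)
      (f : A →+* B) (φ : B →+* B₀),
      IsAdicComplete (maximalIdeal B) B ∧ IsLocalHom f ∧ f.Flat ∧ Function.Surjective φ ∧
        φ.comp f = r ∧ RingHom.ker φ = (maximalIdeal A).map f := by
  obtain ⟨Λ, _, g, hΛ, hg⟩ := Groth.Agent.Lib.Helper38.CohenStructure.exists_coeffRing A
  haveI hΛloc : IsLocalRing Λ := by
    rcases hΛ with h | h
    · letI := h.toField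
      infer_instance
    · obtain ⟨_, hdvr, _⟩ := h
      infer_instance
  haveI hΛnoeth : IsNoetherianRing Λ := by
    rcases hΛ with h | h
    · letI := h.toField
      infer_instance
    · obtain ⟨_, hdvr, _⟩ := h
      infer_instance
  obtain ⟨m, π, hπs, hπC, -⟩ :=
    Groth.Agent.Lib.Helper38.CohenStructure.exists_surjective_of_coeff
      (IsNoetherian.noetherian (maximalIdeal A)) g hg
  have hkerg : RingHom.ker ((residue A).comp g) = maximalIdeal Λ := by
    haveI := RingHom.ker_isMaximal_of_surjective _ hg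
    exact IsLocalRing.eq_maximalIdeal inferInstance
  have hgm : ∀ x ∈ maximalIdeal Λ, g x ∈ maximalIdeal A := by
    intro x hx
    rw [← hkerg, RingHom.mem_ker, RingHom.comp_apply, residue_eq_zero_iff] at hx
    exact hx
  have hρ : maximalIdeal Λ ≤ RingHom.ker (r.comp g) := by
    intro x hx
    rw [RingHom.mem_ker, RingHom.comp_apply]
    exact hr (hgm x hx)
  obtain ⟨W, _, _, _, θ, σ, hWc, hθloc, hθflat, hσs, hσθ, hkerσ⟩ := exists_wdata hΛ (r.comp g) hρ
  letI algΛW : Algebra Λ W := θ.toAlgebra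
  have hΘflat : Module.Flat (MvPowerSeries (Fin m) Λ) (MvPowerSeries (Fin m) W) :=
    RingHom.flat_algebraMap_iff.mp (FlatPS.flat_mvPowerSeries m θ hθflat)
  haveI hπloc : IsLocalHom π := IsLocalHom.of_surjective π hπs
  let φ' : MvPowerSeries (Fin m) W →+* B₀ := σ.comp MvPowerSeries.constantCoeff
  have hφ's : Function.Surjective φ' := by
    intro b
    obtain ⟨w, rfl⟩ := hσs b
    exact ⟨MvPowerSeries.C w, by
      show σ (MvPowerSeries.constantCoeff (MvPowerSeries.C w)) = σ w
      rw [MvPowerSeries.constantCoeff_C]⟩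
  have key : ∀ x : MvPowerSeries (Fin m) Λ,
      φ' (algebraMap (MvPowerSeries (Fin m) Λ) (MvPowerSeries (Fin m) W) x) = r (π x) := by
    intro x
    have h1 : φ' (algebraMap (MvPowerSeries (Fin m) Λ) (MvPowerSeries (Fin m) W) x) =
        r (π (MvPowerSeries.C (MvPowerSeries.constantCoeff x))) := by
      show σ (MvPowerSeries.constantCoeff (MvPowerSeries.map θ x)) = _
      rw [MvPowerSeries.constantCoeff_map, hπC, ← RingHom.comp_apply, hσθ]
      rfl
    have h2 : x - MvPowerSeries.C (MvPowerSeries.constantCoeff x) ∈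
        maximalIdeal (MvPowerSeries (Fin m) Λ) := by
      rw [IsLocalRing.mem_maximalIdeal, mem_nonunits_iff, MvPowerSeries.isUnit_iff_constantCoeff,
        map_sub, MvPowerSeries.constantCoeff_C, sub_self]
      exact not_isUnit_zero
    have h3 : π (x - MvPowerSeries.C (MvPowerSeries.constantCoeff x)) ∈ maximalIdeal A := by
      rw [IsLocalRing.mem_maximalIdeal, mem_nonunits_iff]
      intro hu
      exact h2 (IsLocalHom.map_nonunit _ hu)
    have h4 := hr h3
    rw [RingHom.mem_ker, map_sub, map_sub, sub_eq_zero] at h4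
    rw [h1, h4]
  have hI : (RingHom.ker π).map (algebraMap (MvPowerSeries (Fin m) Λ) (MvPowerSeries (Fin m) W)) ≤
      RingHom.ker φ' := by
    rw [Ideal.map_le_iff_le_comap]
    intro x hx
    rw [Ideal.mem_comap, RingHom.mem_ker, key, (RingHom.mem_ker).mp hx, map_zero]
  have hkerφ'ne : RingHom.ker φ' ≠ ⊤ := RingHom.ker_ne_top φ'
  haveI hnt : Nontrivial (MvPowerSeries (Fin m) W ⧸
      (RingHom.ker π).map (algebraMap (MvPowerSeries (Fin m) Λ) (MvPowerSeries (Fin m) W))) :=
    Ideal.Quotient.nontrivial_iff.mpr (fun h => hkerφ'ne (top_le_iff.mp (h ▸ hI)))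
  haveI hBloc : IsLocalRing (MvPowerSeries (Fin m) W ⧸
      (RingHom.ker π).map (algebraMap (MvPowerSeries (Fin m) Λ) (MvPowerSeries (Fin m) W))) :=
    IsLocalRing.of_surjective' (Ideal.Quotient.mk _) Ideal.Quotient.mk_surjective
  haveI hP'c : IsAdicComplete (maximalIdeal (MvPowerSeries (Fin m) W)) (MvPowerSeries (Fin m) W) :=
    isAdicComplete_mvPowerSeries
  have hBc := Groth.Agent.Lib.Helper38.ComplNagata.isAdicComplete_quotient
    (MvPowerSeries (Fin m) W)
    ((RingHom.ker π).map (algebraMap (MvPowerSeries (Fin m) Λ) (MvPowerSeries (Fin m) W)))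
  let f : A →+* (MvPowerSeries (Fin m) W ⧸
      (RingHom.ker π).map (algebraMap (MvPowerSeries (Fin m) Λ) (MvPowerSeries (Fin m) W))) :=
    (algebraMap (MvPowerSeries (Fin m) Λ ⧸ RingHom.ker π) (MvPowerSeries (Fin m) W ⧸
      (RingHom.ker π).map (algebraMap (MvPowerSeries (Fin m) Λ) (MvPowerSeries (Fin m) W)))).comp
      ((RingHom.quotientKerEquivOfSurjective hπs).symm :
        A →+* MvPowerSeries (Fin m) Λ ⧸ RingHom.ker π)
  have hf : ∀ x, f (π x) = Ideal.Quotient.mk _
      (algebraMap (MvPowerSeries (Fin m) Λ) (MvPowerSeries (Fin m) W) x) := by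
    intro x
    have h1 : (RingHom.quotientKerEquivOfSurjective hπs).symm (π x) = Ideal.Quotient.mk _ x := by
      rw [RingEquiv.symm_apply_eq]
      exact (RingHom.quotientKerEquivOfSurjective_apply_mk _ x).symm
    show (algebraMap (MvPowerSeries (Fin m) Λ ⧸ RingHom.ker π) (MvPowerSeries (Fin m) W ⧸
      (RingHom.ker π).map (algebraMap (MvPowerSeries (Fin m) Λ) (MvPowerSeries (Fin m) W))))
      ((RingHom.quotientKerEquivOfSurjective hπs).symm (π x)) = _
    rw [h1]
    rfl
  have hfflat : f.Flat := by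
    refine RingHom.Flat.comp (RingHom.Flat.of_bijective (RingEquiv.bijective _)) ?_
    exact RingHom.flat_algebraMap_iff.mpr (FSQuot.flat_quotient (RingHom.ker π))
  let φ : (MvPowerSeries (Fin m) W ⧸
      (RingHom.ker π).map (algebraMap (MvPowerSeries (Fin m) Λ) (MvPowerSeries (Fin m) W))) →+* B₀ :=
    Ideal.Quotient.lift _ φ' (fun x hx => hI hx)
  have hφs : Function.Surjective φ := by
    intro b
    obtain ⟨y, rfl⟩ := hφ's b
    exact ⟨Ideal.Quotient.mk _ y, Ideal.Quotient.lift_mk _ _ _⟩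
  have hφf : φ.comp f = r := by
    ext a
    obtain ⟨x, rfl⟩ := hπs a
    rw [RingHom.comp_apply, hf]
    show φ' _ = _
    exact key x
  have hkerφ' : RingHom.ker φ' = (maximalIdeal (MvPowerSeries (Fin m) Λ)).map
      (algebraMap (MvPowerSeries (Fin m) Λ) (MvPowerSeries (Fin m) W)) := by
    have h1 : RingHom.ker φ' = (RingHom.ker σ).comap MvPowerSeries.constantCoeff := by
      ext x
      rw [RingHom.mem_ker, Ideal.mem_comap, RingHom.mem_ker]
      rfl
    rw [h1, hkerσ, comap_constantCoeff, maximalIdeal_eq_bigIdeal]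
    exact (map_bigIdeal θ (maximalIdeal Λ)).symm
  have hkerφ : RingHom.ker φ = (maximalIdeal A).map f := by
    show RingHom.ker (Ideal.Quotient.lift _ φ' _) = _
    rw [Ideal.ker_quotient_lift, hkerφ', Ideal.map_map,
      ← IsLocalRing.map_maximalIdeal_of_surjective π hπs, Ideal.map_map]
    congr 1
    ext x : 1
    rw [RingHom.comp_apply, RingHom.comp_apply, hf]
  have hfloc : IsLocalHom f := by
    refine ⟨fun a ha => ?_⟩
    by_contra hna
    have h1 : a ∈ maximalIdeal A := hna
    have h2 := hr h1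
    rw [RingHom.mem_ker, ← hφf, RingHom.comp_apply] at h2
    have h3 := ha.map φ
    rw [h2] at h3
    exact not_isUnit_zero h3
  exact ⟨_, inferInstance, hBloc, inferInstance, f, φ, hBc, hfloc, hfflat, hφs, hφf, hkerφ⟩

end Groth.Agent.Lib.Helper49.TwLift
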