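import Mathlib
import Groth.Agent.Lib.Helper49.TwLift2
import Groth.Agent.S0543

set_option autoImplicit false
universe u
namespace Groth.Agent.Lib.Helper49.TwLift

open IsLocalRing

theorem exists_flat_lift {A : Type u} [CommRing A] [IsLocalRing A] [IsNoetherianRing A]
    (B₀ : Type u) [CommRing B₀] [IsRegularLocalRing B₀] [IsAdicComplete (maximalIdeal B₀) B₀]
    (r : A →+* B₀) (hr : maximalIdeal A ≤ RingHom.ker r) :
    ∃ (B : Type u) (_ : CommRing B) (_ : IsLocalRing B) (_ : IsNoetherianRing B)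
      (f : A →+* B) (φ : B →+* B₀),
      IsAdicComplete (maximalIdeal B) B ∧ IsLocalHom f ∧ f.Flat ∧ Function.Surjective φ ∧
        φ.comp f = r ∧ RingHom.ker φ = (maximalIdeal A).map f := by
  haveI : IsNoetherianRing (AdicCompletion (maximalIdeal A) A) :=
    Groth.Agent.S0543.result A (maximalIdeal A)
  let r' : AdicCompletion (maximalIdeal A) A →+* B₀ :=
    (Ideal.Quotient.lift (maximalIdeal A) r (fun a ha => hr ha)).comp
      (AdicCompletion.evalOneₐ (maximalIdeal A)).toRingHom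
  have hr'alg : r'.comp (algebraMap A (AdicCompletion (maximalIdeal A) A)) = r := by
    show ((Ideal.Quotient.lift (maximalIdeal A) r (fun a ha => hr ha)).comp
      (AdicCompletion.evalOneₐ (maximalIdeal A)).toRingHom).comp _ = r
    rw [RingHom.comp_assoc, AdicCompletion.evalOneₐ_comp_algebraMap_eq_mk]
    ext a
    rfl
  have hr' : maximalIdeal (AdicCompletion (maximalIdeal A) A) ≤ RingHom.ker r' := by
    rw [AdicCompletion.maximalIdeal_eq_map, Ideal.map_le_iff_le_comap]
    intro a ha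
    rw [Ideal.mem_comap, RingHom.mem_ker, ← RingHom.comp_apply, hr'alg]
    exact hr ha
  obtain ⟨B, _, _, _, f, φ, hBc, hfloc, hfflat, hφs, hφf, hker⟩ :=
    exists_flat_lift_complete B₀ r' hr'
  refine ⟨B, inferInstance, inferInstance, inferInstance,
    f.comp (algebraMap A (AdicCompletion (maximalIdeal A) A)), φ, hBc, ?_, ?_, hφs, ?_, ?_⟩
  · exact RingHom.isLocalHom_comp _ _
  · exact RingHom.Flat.comp (RingHom.flat_algebraMap_iff.mpr inferInstance) hfflat
  · rw [← RingHom.comp_assoc, hφf, hr'alg]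
  · rw [hker, AdicCompletion.maximalIdeal_eq_map, Ideal.map_map]

theorem exists_flat_lift_alg {A : Type u} [CommRing A] [IsLocalRing A] [IsNoetherianRing A]
    (B₀ : Type u) [CommRing B₀] [IsRegularLocalRing B₀] [IsAdicComplete (maximalIdeal B₀) B₀]
    (r : A →+* B₀) (hr : maximalIdeal A ≤ RingHom.ker r) :
    ∃ (B : Type u) (_ : CommRing B) (_ : IsLocalRing B) (_ : IsNoetherianRing B)
      (_ : Algebra A B) (φ : B →+* B₀),
      IsAdicComplete (maximalIdeal B) B ∧ IsLocalHom (algebraMap A B) ∧ Module.Flat A B ∧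
        Function.Surjective φ ∧ φ.comp (algebraMap A B) = r ∧
        RingHom.ker φ = (maximalIdeal A).map (algebraMap A B) := by
  obtain ⟨B, _, _, _, f, φ, hBc, hfloc, hfflat, hφs, hφf, hker⟩ := exists_flat_lift B₀ r hr
  exact ⟨B, inferInstance, inferInstance, inferInstance, f.toAlgebra, φ, hBc, hfloc, hfflat, hφs,
    hφf, hker⟩

open TensorProduct in
noncomputable def quotEquivOfKer {A B B₀ : Type*} [CommRing A] [CommRing B] [CommRing B₀]
    [Algebra A B] (I : Ideal A) [Algebra (A ⧸ I) B₀] (φ : B →+* B₀)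
    (hφs : Function.Surjective φ)
    (hφ : ∀ a, φ (algebraMap A B a) = algebraMap (A ⧸ I) B₀ (Ideal.Quotient.mk I a))
    (hker : RingHom.ker φ = I.map (algebraMap A B)) :
    (B ⧸ I.map (algebraMap A B)) ≃ₐ[A ⧸ I] B₀ :=
  AlgEquiv.ofRingEquiv
    (f := (Ideal.quotEquivOfEq hker.symm).trans (RingHom.quotientKerEquivOfSurjective hφs))
    (by
      intro x
      obtain ⟨a, rfl⟩ := Ideal.Quotient.mk_surjective x
      rw [← hφ a]
      show (RingHom.quotientKerEquivOfSurjective hφs) ((Ideal.quotEquivOfEq hker.symm)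
        (Ideal.Quotient.mk _ (algebraMap A B a))) = _
      rw [Ideal.quotEquivOfEq_mk]
      exact RingHom.quotientKerEquivOfSurjective_apply_mk _ _)

theorem quotEquivOfKer_mk {A B B₀ : Type*} [CommRing A] [CommRing B] [CommRing B₀]
    [Algebra A B] (I : Ideal A) [Algebra (A ⧸ I) B₀] (φ : B →+* B₀)
    (hφs : Function.Surjective φ)
    (hφ : ∀ a, φ (algebraMap A B a) = algebraMap (A ⧸ I) B₀ (Ideal.Quotient.mk I a))
    (hker : RingHom.ker φ = I.map (algebraMap A B)) (b : B) :
    quotEquivOfKer I φ hφs hφ hker (Ideal.Quotient.mk _ b) = φ b := by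
  show (RingHom.quotientKerEquivOfSurjective hφs) ((Ideal.quotEquivOfEq hker.symm)
    (Ideal.Quotient.mk _ b)) = _
  rw [Ideal.quotEquivOfEq_mk]
  exact RingHom.quotientKerEquivOfSurjective_apply_mk _ _

open TensorProduct in
noncomputable def tensorEquivOfKer {A B B₀ : Type*} [CommRing A] [CommRing B] [CommRing B₀]
    [Algebra A B] (I : Ideal A) [Algebra (A ⧸ I) B₀] (φ : B →+* B₀)
    (hφs : Function.Surjective φ)
    (hφ : ∀ a, φ (algebraMap A B a) = algebraMap (A ⧸ I) B₀ (Ideal.Quotient.mk I a))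
    (hker : RingHom.ker φ = I.map (algebraMap A B)) :
    (A ⧸ I) ⊗[A] B ≃ₐ[A ⧸ I] B₀ :=
  (Algebra.TensorProduct.quotIdealMapEquivQuotTensor B I).symm.trans
    (quotEquivOfKer I φ hφs hφ hker)

open TensorProduct in
theorem tensorEquivOfKer_tmul {A B B₀ : Type*} [CommRing A] [CommRing B] [CommRing B₀]
    [Algebra A B] (I : Ideal A) [Algebra (A ⧸ I) B₀] (φ : B →+* B₀)
    (hφs : Function.Surjective φ)
    (hφ : ∀ a, φ (algebraMap A B a) = algebraMap (A ⧸ I) B₀ (Ideal.Quotient.mk I a))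
    (hker : RingHom.ker φ = I.map (algebraMap A B)) (b : B) :
    tensorEquivOfKer I φ hφs hφ hker (1 ⊗ₜ[A] b) = φ b := by
  unfold tensorEquivOfKer
  rw [AlgEquiv.trans_apply, ← Algebra.TensorProduct.quotIdealMapEquivQuotTensor_mk,
    AlgEquiv.symm_apply_apply]
  exact quotEquivOfKer_mk I φ hφs hφ hker b

end Groth.Agent.Lib.Helper49.TwLift
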