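import Mathlib
import Groth.Agent.Lib.Helper49.FlatFS3
import Groth.Agent.Lib.Helper49.TwLift3
import Groth.Agent.Lib.Helper6.LocalFlat3
import Groth.Agent.Lib.Helper6.FlatRegular
import Groth.Agent.Lib.Helper61.FSAdicComplete
import Groth.Agent.S0548
set_option autoImplicit false
set_option linter.style.haveILetI false
set_option linter.unusedSectionVars false
universe u
namespace Groth.Agent.Lib.Helper49.FlatFS
open IsLocalRing TensorProduct Groth.Agent.S7134 Groth.Agent.Lib.Helper61.FSAdic

variable {A B : Type u} [CommRing A] [CommRing B] [IsLocalRing A] [IsLocalRing B]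
  [IsNoetherianRing B] [Algebra A B] [IsLocalHom (algebraMap A B)]

theorem fibre_iff :
    CAlg.IsGeometricallyRegular (maximalIdeal A).ResidueField ((maximalIdeal A).Fiber B) ↔
      CAlgX.IsAdicFormallySmooth (A ⧸ maximalIdeal A) (B ⧸ (maximalIdeal A).map (algebraMap A B))
        ((maximalIdeal B).map (Ideal.Quotient.mk ((maximalIdeal A).map (algebraMap A B)))) := by
  have hle : (maximalIdeal A).map (algebraMap A B) ≤ maximalIdeal B :=
    IsLocalRing.map_maximalIdeal_le (algebraMap A B)
  have hnt : Nontrivial (Fib A B) := Ideal.Quotient.nontrivial_iff.mpr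
    (fun h => (maximalIdeal.isMaximal B).ne_top (top_le_iff.mp (h ▸ hle)))
  have hloc : IsLocalRing (Fib A B) :=
    IsLocalRing.of_surjective' (Ideal.Quotient.mk ((maximalIdeal A).map (algebraMap A B)))
      Ideal.Quotient.mk_surjective
  have hmax : (maximalIdeal B).map (Ideal.Quotient.mk ((maximalIdeal A).map (algebraMap A B))) =
      maximalIdeal (Fib A B) :=
    map_maximalIdeal_of_surjective _ Ideal.Quotient.mk_surjective
  have hbij : Function.Bijective (algebraMap (A ⧸ maximalIdeal A) (maximalIdeal A).ResidueField) :=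
    Ideal.bijective_algebraMap_quotient_residueField _
  let e0 : (A ⧸ maximalIdeal A) ≃+* (maximalIdeal A).ResidueField := RingEquiv.ofBijective _ hbij
  letI algκF : Algebra (maximalIdeal A).ResidueField (Fib A B) :=
    ((algebraMap (A ⧸ maximalIdeal A) (Fib A B)).comp e0.symm.toRingHom).toAlgebra
  haveI tower : IsScalarTower (A ⧸ maximalIdeal A) (maximalIdeal A).ResidueField (Fib A B) :=
    IsScalarTower.of_algebraMap_eq (fun x => by
      show _ = algebraMap (A ⧸ maximalIdeal A) (Fib A B) (e0.symm (e0 x))
      rw [RingEquiv.symm_apply_apply])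
  have hφ : ∀ a : A, Ideal.Quotient.mk ((maximalIdeal A).map (algebraMap A B)) (algebraMap A B a) =
      algebraMap (maximalIdeal A).ResidueField (Fib A B)
        (algebraMap A (maximalIdeal A).ResidueField a) := by
    intro a
    show _ = algebraMap (A ⧸ maximalIdeal A) (Fib A B)
      (e0.symm (algebraMap A (maximalIdeal A).ResidueField a))
    have h1 : e0.symm (algebraMap A (maximalIdeal A).ResidueField a) = Ideal.Quotient.mk _ a := by
      rw [RingEquiv.symm_apply_eq]
      rfl
    rw [h1]
    rfl
  let E : (maximalIdeal A).ResidueField ⊗[A] B ≃ₐ[(maximalIdeal A).ResidueField] Fib A B :=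
    fibreEquiv (maximalIdeal A) (Ideal.algebraMap_residueField_surjective _)
      (Ideal.ker_algebraMap_residueField _) (Ideal.Quotient.mk _) Ideal.Quotient.mk_surjective hφ
      Ideal.mk_ker
  constructor
  · intro hg
    have h1 : CAlg.IsGeometricallyRegular (maximalIdeal A).ResidueField (Fib A B) :=
      geomReg_of_algEquiv E hg
    have h2 := Groth.Agent.Lib.Helper49.GeomRegFS.isGeometricallyRegular_iff_isAdicFormallySmooth.mp h1
    have h3 := isAdicFormallySmooth_of_bijective hbij _ h2
    rw [hmax]
    exact h3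
  · intro h
    rw [hmax] at h
    have h2 := isAdicFormallySmooth_of_surjective
      (R' := (maximalIdeal A).ResidueField) hbij.2 _ h
    have h1 := Groth.Agent.Lib.Helper49.GeomRegFS.isGeometricallyRegular_iff_isAdicFormallySmooth.mpr h2
    exact geomReg_of_algEquiv E.symm h1

theorem flat_of_isAdicFormallySmooth [IsNoetherianRing A]
    (h : CAlgX.IsAdicFormallySmooth A B (maximalIdeal B)) : Module.Flat A B := by
  have hle : (maximalIdeal A).map (algebraMap A B) ≤ maximalIdeal B :=
    IsLocalRing.map_maximalIdeal_le (algebraMap A B)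
  have h0 := isAdicFormallySmooth_quotient (maximalIdeal A) (maximalIdeal B) h
  have hnt : Nontrivial (Fib A B) := Ideal.Quotient.nontrivial_iff.mpr
    (fun h => (maximalIdeal.isMaximal B).ne_top (top_le_iff.mp (h ▸ hle)))
  have hloc : IsLocalRing (Fib A B) :=
    IsLocalRing.of_surjective' (Ideal.Quotient.mk ((maximalIdeal A).map (algebraMap A B)))
      Ideal.Quotient.mk_surjective
  have hmax : (maximalIdeal B).map (Ideal.Quotient.mk ((maximalIdeal A).map (algebraMap A B))) =
      maximalIdeal (Fib A B) :=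
    map_maximalIdeal_of_surjective _ Ideal.Quotient.mk_surjective
  let : Algebra (ResidueField A) (Fib A B) := fibAlgebra A B
  have h1 : CAlgX.IsAdicFormallySmooth (ResidueField A) (Fib A B) (maximalIdeal (Fib A B)) := by
    rw [← hmax]
    exact h0
  have hreg : IsRegularLocalRing (Fib A B) :=
    (Groth.Agent.Lib.Helper49.FSRegular.isRegularLocalRing_of_isAdicFormallySmooth_field h1).1
  haveI hFhN : IsNoetherianRing (AdicCompletion (maximalIdeal (Fib A B)) (Fib A B)) :=
    Groth.Agent.S0543.result _ _
  haveI hFhreg : IsRegularLocalRing (AdicCompletion (maximalIdeal (Fib A B)) (Fib A B)) :=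
    (Groth.Agent.S0548.result (Fib A B)).mp hreg
  let ι : Fib A B →+* AdicCompletion (maximalIdeal (Fib A B)) (Fib A B) := algebraMap _ _
  have hιinj : Function.Injective ι := by
    have hH : IsHausdorff (maximalIdeal (Fib A B)) (Fib A B) := inferInstance
    exact AdicCompletion.of_injective (maximalIdeal (Fib A B)) (Fib A B)
  let r1 : B →+* Fib A B := Ideal.Quotient.mk _
  let r : A →+* AdicCompletion (maximalIdeal (Fib A B)) (Fib A B) :=
    ι.comp (r1.comp (algebraMap A B))
  have hr : maximalIdeal A ≤ RingHom.ker r := by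
    intro a ha
    rw [RingHom.mem_ker]
    show ι (r1 (algebraMap A B a)) = 0
    have : r1 (algebraMap A B a) = 0 :=
      Ideal.Quotient.eq_zero_iff_mem.mpr (Ideal.mem_map_of_mem _ ha)
    rw [this, map_zero]
  obtain ⟨C, _, _, _, _, φ, hCc, hCloc, hCflat, hφs, hφf, hkerφ⟩ :=
    Groth.Agent.Lib.Helper49.TwLift.exists_flat_lift_alg _ r hr
  have hJle : (maximalIdeal A).map (algebraMap A C) ≤ maximalIdeal C :=
    IsLocalRing.map_maximalIdeal_le (algebraMap A C)
  let e : (C ⧸ (maximalIdeal A).map (algebraMap A C)) ≃+*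
      AdicCompletion (maximalIdeal (Fib A B)) (Fib A B) :=
    (Ideal.quotEquivOfEq hkerφ.symm).trans (RingHom.quotientKerEquivOfSurjective hφs)
  have he : ∀ c, e (Ideal.Quotient.mk _ c) = φ c := by
    intro c
    show (RingHom.quotientKerEquivOfSurjective hφs) ((Ideal.quotEquivOfEq hkerφ.symm)
      (Ideal.Quotient.mk _ c)) = _
    rw [Ideal.quotEquivOfEq_mk]
    exact RingHom.quotientKerEquivOfSurjective_apply_mk _ c
  let u₀ : B →+* C ⧸ (maximalIdeal A).map (algebraMap A C) :=
    e.symm.toRingHom.comp (ι.comp r1)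
  have hu₀ : u₀.comp (algebraMap A B) =
      (Ideal.Quotient.mk ((maximalIdeal A).map (algebraMap A C))).comp (algebraMap A C) := by
    ext a
    show e.symm (ι (r1 (algebraMap A B a))) = Ideal.Quotient.mk _ (algebraMap A C a)
    rw [RingEquiv.symm_apply_eq, he, ← RingHom.comp_apply φ, hφf]
    rfl
  have hL : Lifts (⊥ : Ideal A) (algebraMap A B) (maximalIdeal B) :=
    lifts_of_liftsSq ((calgx_iff _).mp h)
  have hntC : Nontrivial (C ⧸ (maximalIdeal A).map (algebraMap A C)) :=
    Ideal.Quotient.nontrivial_iff.mpr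
      (fun h => (maximalIdeal.isMaximal C).ne_top (top_le_iff.mp (h ▸ hJle)))
  have hlocC : IsLocalRing (C ⧸ (maximalIdeal A).map (algebraMap A C)) :=
    IsLocalRing.of_surjective' (Ideal.Quotient.mk _) Ideal.Quotient.mk_surjective
  have hmaxC : (maximalIdeal C).map (Ideal.Quotient.mk ((maximalIdeal A).map (algebraMap A C))) =
      maximalIdeal (C ⧸ (maximalIdeal A).map (algebraMap A C)) :=
    map_maximalIdeal_of_surjective _ Ideal.Quotient.mk_surjective
  haveI hHaus : IsHausdorff
      ((maximalIdeal C).map (Ideal.Quotient.mk ((maximalIdeal A).map (algebraMap A C))))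
      (C ⧸ (maximalIdeal A).map (algebraMap A C)) := by
    rw [hmaxC]
    infer_instance
  have hcont : ∃ k : ℕ, ((maximalIdeal B) ^ k).map u₀ ≤
      (maximalIdeal C).map (Ideal.Quotient.mk ((maximalIdeal A).map (algebraMap A C))) := by
    refine ⟨1, ?_⟩
    rw [pow_one, hmaxC, Ideal.map_le_iff_le_comap]
    intro b hb
    rw [Ideal.mem_comap, IsLocalRing.mem_maximalIdeal, mem_nonunits_iff]
    intro hu
    have h2 : IsUnit (ι (r1 b)) := by
      have := hu.map e
      rwa [show e (u₀ b) = ι (r1 b) from e.apply_symm_apply _] at this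
    have h3 : IsUnit (r1 b) := IsLocalHom.map_nonunit (f := ι) _ h2
    haveI : IsLocalHom r1 := IsLocalHom.of_surjective r1 Ideal.Quotient.mk_surjective
    exact hb (IsLocalHom.map_nonunit (f := r1) _ h3)
  obtain ⟨v, hv1, hv2, -⟩ := lift_to_complete hL (maximalIdeal C) (algebraMap A C)
    ⟨1, by rw [pow_one, Ideal.map_bot]; exact bot_le⟩ ((maximalIdeal A).map (algebraMap A C))
    ⟨1, by rw [pow_one]; exact hJle⟩ u₀ hu₀ hcont
  let g : B →ₐ[A] C := { v with commutes' := fun a => DFunLike.congr_fun hv1 a }
  let u : B →ₗ[A] C := g.toLinearMap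
  have hu : Function.Injective (LinearMap.lTensor (A ⧸ maximalIdeal A) u) := by
    rw [injective_iff_map_eq_zero]
    intro z hz
    obtain ⟨x, rfl⟩ := TensorProduct.mk_surjective A B (A ⧸ maximalIdeal A)
      Ideal.Quotient.mk_surjective z
    have h1 : TensorProduct.mk A (A ⧸ maximalIdeal A) C 1 (u x) = 0 := hz
    rw [← LinearMap.mem_ker, LinearMap.ker_tensorProductMk, Ideal.smul_top_eq_map] at h1
    have h2 : v x ∈ (maximalIdeal A).map (algebraMap A C) := h1
    have h3 : u₀ x = 0 := by
      rw [← hv2, RingHom.comp_apply, Ideal.Quotient.eq_zero_iff_mem]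
      exact h2
    have h4 : r1 x = 0 := by
      have h5 : ι (r1 x) = 0 := by
        have := congrArg e h3
        rwa [show e (u₀ x) = ι (r1 x) from e.apply_symm_apply _, map_zero] at this
      exact hιinj (h5.trans (map_zero ι).symm)
    have h6 : x ∈ (maximalIdeal A • ⊤ : Submodule A B) := by
      have h7 : x ∈ (maximalIdeal A).map (algebraMap A B) := Ideal.Quotient.eq_zero_iff_mem.mp h4
      rw [Ideal.smul_top_eq_map]
      exact h7
    rw [← LinearMap.ker_tensorProductMk, LinearMap.mem_ker] at h6
    exact h6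
  have hinj : Function.Injective u := Groth.Agent.Lib.Helper6.LocalFlat.injective_of_residue B u hu
  have hcok : Module.Flat A (C ⧸ LinearMap.range u) :=
    Groth.Agent.Lib.Helper6.LocalFlat.flat_coker_of_residue B u hu
  exact Groth.Agent.Lib.Helper6.FlatRegular.flat_of_exact_of_flat u (LinearMap.range u).mkQ hinj
    (LinearMap.exact_map_mkQ_range u) (Submodule.mkQ_surjective _)

end Groth.Agent.Lib.Helper49.FlatFS
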