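import Mathlib
import Groth.Agent.Lib.Helper49.GeomRegFS7
import Groth.Agent.Lib.Helper56.FibreCM

set_option autoImplicit false
set_option linter.style.haveILetI false
set_option linter.unusedSectionVars false
universe u

namespace Groth.Agent.Lib.Helper49.FSTransfer

open TensorProduct IsLocalRing

theorem fs_transfer {A B Ah E KB : Type u} [CommRing A] [IsDomain A] [CommRing B] [IsDomain B]
    [Algebra A B] (hinj : Function.Injective (algebraMap A B)) [CommRing Ah] [Algebra A Ah]
    [IsNoetherianRing Ah]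
    [Field KB] [Algebra B KB] [IsFractionRing B KB]
    [CommRing E] [IsLocalRing E] [Algebra KB E]
    [Algebra (Ah ⊗[A] B) E] (N : Submonoid (Ah ⊗[A] B)) [IsLocalization N E]
    (hcompat : ∀ b : B, algebraMap (Ah ⊗[A] B) E ((1 : Ah) ⊗ₜ[A] b) =
      algebraMap KB E (algebraMap B KB b))
    (hAC : CAlg.IsGeometricallyRegular (⊥ : Ideal A).ResidueField ((⊥ : Ideal A).Fiber Ah)) :
    CAlgX.IsAdicFormallySmooth KB E (maximalIdeal E) := by
  classical
  have hgi : Function.Injective ((algebraMap B KB).comp (algebraMap A B)) :=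
    (IsFractionRing.injective B KB).comp hinj
  let j₀ : (⊥ : Ideal A).ResidueField →+* KB := IsFractionRing.lift hgi
  have hj₀ : ∀ a : A, j₀ (algebraMap A _ a) = algebraMap B KB (algebraMap A B a) :=
    fun a => IsFractionRing.lift_algebraMap hgi a
  letI algAE : Algebra A E :=
    ((algebraMap KB E).comp ((algebraMap B KB).comp (algebraMap A B))).toAlgebra
  have halgAE : ∀ a : A, algebraMap A E a =
      algebraMap KB E (algebraMap B KB (algebraMap A B a)) := fun a => rfl
  let ιh : Ah →+* E := (algebraMap (Ah ⊗[A] B) E).comp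
    (Algebra.TensorProduct.includeLeftRingHom : Ah →+* Ah ⊗[A] B)
  have hιh : ∀ x : Ah, ιh x = algebraMap (Ah ⊗[A] B) E (x ⊗ₜ[A] (1 : B)) := fun x => rfl
  let f₁ : (⊥ : Ideal A).ResidueField →ₐ[A] E :=
    { (algebraMap KB E).comp j₀ with
      commutes' := fun a => by
        show algebraMap KB E (j₀ (algebraMap A _ a)) = _
        rw [hj₀, halgAE] }
  let f₂ : Ah →ₐ[A] E :=
    { ιh with
      commutes' := fun a => by
        show algebraMap (Ah ⊗[A] B) E ((algebraMap A Ah a) ⊗ₜ[A] (1 : B)) = _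
        rw [show algebraMap A Ah a = a • (1 : Ah) from Algebra.algebraMap_eq_smul_one a,
          TensorProduct.smul_tmul,
          show a • (1 : B) = algebraMap A B a from (Algebra.algebraMap_eq_smul_one a).symm,
          hcompat, halgAE] }
  let gFib : (⊥ : Ideal A).Fiber Ah →ₐ[A] E := Algebra.TensorProduct.productMap f₁ f₂
  have hgFib : ∀ (c : (⊥ : Ideal A).ResidueField) (x : Ah),
      gFib (c ⊗ₜ[A] x) = algebraMap KB E (j₀ c) * ιh x := fun c x =>
    Algebra.TensorProduct.productMap_apply_tmul f₁ f₂ c x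
  let 𝔔 : Ideal ((⊥ : Ideal A).Fiber Ah) := (maximalIdeal E).comap gFib.toRingHom
  haveI h𝔔 : 𝔔.IsPrime := Ideal.comap_isPrime _ _
  haveI hFibN : IsNoetherianRing ((⊥ : Ideal A).Fiber Ah) :=
    Groth.Agent.Lib.Helper56.isNoetherianRing_fiber A Ah ⊥
  haveI hE₀N : IsNoetherianRing (Localization.AtPrime 𝔔) :=
    IsLocalization.isNoetherianRing 𝔔.primeCompl _ inferInstance
  have hE₀ : CAlgX.IsAdicFormallySmooth (⊥ : Ideal A).ResidueField (Localization.AtPrime 𝔔)
      (maximalIdeal (Localization.AtPrime 𝔔)) :=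
    Groth.Agent.Lib.Helper49.GeomRegFS.isGeometricallyRegular_iff_isAdicFormallySmooth.mp
      (Groth.Agent.Lib.Helper49.GeomRegFS.isGeometricallyRegular_localization hAC 𝔔)
  have hunit : ∀ y : 𝔔.primeCompl, IsUnit (gFib.toRingHom y) := by
    intro y
    by_contra h
    exact y.2 ((IsLocalRing.mem_maximalIdeal _).mpr h)
  let lam : Localization.AtPrime 𝔔 →+* E := IsLocalization.lift hunit
  have hlam : ∀ y, lam (algebraMap _ (Localization.AtPrime 𝔔) y) = gFib y :=
    fun y => IsLocalization.lift_eq hunit y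
  have hlam_max : ∀ x ∈ maximalIdeal (Localization.AtPrime 𝔔), lam x ∈ maximalIdeal E := by
    intro x hx
    by_contra h
    have hu : IsUnit (lam x) := by
      by_contra h'
      exact h ((IsLocalRing.mem_maximalIdeal _).mpr h')
    obtain ⟨⟨y, s⟩, rfl⟩ := IsLocalization.mk'_surjective 𝔔.primeCompl x
    have h1 : lam (IsLocalization.mk' (Localization.AtPrime 𝔔) y s) * gFib s = gFib y := by
      rw [← hlam s, ← map_mul, IsLocalization.mk'_spec, hlam]
    have h2 : IsUnit (gFib y) := by
      rw [← h1]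
      exact hu.mul (hunit s)
    have h3 : y ∉ 𝔔 := fun hy => ((IsLocalRing.mem_maximalIdeal _).mp hy) h2
    have h4 : IsUnit (algebraMap _ (Localization.AtPrime 𝔔) y) :=
      IsLocalization.map_units (Localization.AtPrime 𝔔) (⟨y, h3⟩ : 𝔔.primeCompl)
    have h5 : IsUnit (IsLocalization.mk' (Localization.AtPrime 𝔔) y s) := by
      have := IsLocalization.mk'_spec (Localization.AtPrime 𝔔) y s
      exact isUnit_of_mul_isUnit_left (this ▸ h4)
    exact ((IsLocalRing.mem_maximalIdeal _).mp hx) h5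
  intro C _ _ J hJ ψ hψ
  obtain ⟨n, hn⟩ := hψ
  letI algκC : Algebra (⊥ : Ideal A).ResidueField C := ((algebraMap KB C).comp j₀).toAlgebra
  have halgκC : ∀ c, algebraMap (⊥ : Ideal A).ResidueField C c = algebraMap KB C (j₀ c) :=
    fun c => rfl
  let ψ₀ : Localization.AtPrime 𝔔 →ₐ[(⊥ : Ideal A).ResidueField] C ⧸ J :=
    { ψ.toRingHom.comp lam with
      commutes' := fun c => by
        show ψ (lam (algebraMap (⊥ : Ideal A).ResidueField (Localization.AtPrime 𝔔) c)) = _
        rw [IsScalarTower.algebraMap_apply (⊥ : Ideal A).ResidueField ((⊥ : Ideal A).Fiber Ah)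
          (Localization.AtPrime 𝔔), hlam, Algebra.TensorProduct.algebraMap_apply]
        show ψ (gFib (c ⊗ₜ[A] (1 : Ah))) = _
        rw [hgFib, map_one, mul_one, ψ.commutes]
        rfl }
  have hψ₀ : ∀ x ∈ maximalIdeal (Localization.AtPrime 𝔔) ^ n, ψ₀ x = 0 := by
    intro x hx
    show ψ (lam x) = 0
    apply hn
    have : (maximalIdeal (Localization.AtPrime 𝔔) ^ n).map lam ≤ maximalIdeal E ^ n := by
      rw [Ideal.map_pow]
      exact Ideal.pow_right_mono (Ideal.map_le_iff_le_comap.mpr hlam_max) n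
    exact this (Ideal.mem_map_of_mem lam hx)
  obtain ⟨χ₀, hχ₀⟩ := hE₀ C J hJ ψ₀ ⟨n, hψ₀⟩
  have hχ₀' : ∀ x, Ideal.Quotient.mk J (χ₀ x) = ψ (lam x) := fun x =>
    DFunLike.congr_fun hχ₀ x
  letI algAC : Algebra A C :=
    ((algebraMap KB C).comp ((algebraMap B KB).comp (algebraMap A B))).toAlgebra
  have halgAC : ∀ a : A, algebraMap A C a =
      algebraMap KB C (algebraMap B KB (algebraMap A B a)) := fun a => rfl
  let g_h : Ah →ₐ[A] C :=
    { χ₀.toRingHom.comp ((algebraMap ((⊥ : Ideal A).Fiber Ah) (Localization.AtPrime 𝔔)).comp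
        (Algebra.TensorProduct.includeRight : Ah →ₐ[A] (⊥ : Ideal A).Fiber Ah).toRingHom) with
      commutes' := fun a => by
        show χ₀ (algebraMap ((⊥ : Ideal A).Fiber Ah) (Localization.AtPrime 𝔔)
          ((1 : (⊥ : Ideal A).ResidueField) ⊗ₜ[A] (algebraMap A Ah a))) = _
        rw [Algebra.algebraMap_eq_smul_one (A := Ah), ← TensorProduct.smul_tmul,
          ← Algebra.algebraMap_eq_smul_one]
        have h1 : (algebraMap A (⊥ : Ideal A).ResidueField a) ⊗ₜ[A] (1 : Ah) =
            algebraMap (⊥ : Ideal A).ResidueField ((⊥ : Ideal A).Fiber Ah)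
              (algebraMap A (⊥ : Ideal A).ResidueField a) := by
          rw [Algebra.TensorProduct.algebraMap_apply]
          rfl
        rw [h1, ← IsScalarTower.algebraMap_apply (⊥ : Ideal A).ResidueField
          ((⊥ : Ideal A).Fiber Ah) (Localization.AtPrime 𝔔), χ₀.commutes, halgκC, hj₀, halgAC] }
  let g_B : B →ₐ[A] C :=
    { (algebraMap KB C).comp (algebraMap B KB) with
      commutes' := fun a => rfl }
  let g_T : Ah ⊗[A] B →ₐ[A] C := Algebra.TensorProduct.productMap g_h g_B
  have hg_T : ∀ (x : Ah) (b : B), g_T (x ⊗ₜ[A] b) = g_h x * g_B b := fun x b =>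
    Algebra.TensorProduct.productMap_apply_tmul g_h g_B x b
  have hclaim : ∀ t : Ah ⊗[A] B, Ideal.Quotient.mk J (g_T t) =
      ψ (algebraMap (Ah ⊗[A] B) E t) := by
    intro t
    induction t using TensorProduct.induction_on with
    | zero => rw [map_zero, map_zero, map_zero, map_zero]
    | tmul x b =>
      rw [hg_T, map_mul]
      have h1 : Ideal.Quotient.mk J (g_h x) = ψ (ιh x) := by
        show Ideal.Quotient.mk J (χ₀ (algebraMap ((⊥ : Ideal A).Fiber Ah)
          (Localization.AtPrime 𝔔) ((1 : (⊥ : Ideal A).ResidueField) ⊗ₜ[A] x))) = _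
        rw [hχ₀', hlam, hgFib, map_one, map_one, one_mul]
      have h2 : Ideal.Quotient.mk J (g_B b) = ψ (algebraMap (Ah ⊗[A] B) E ((1 : Ah) ⊗ₜ[A] b)) := by
        rw [hcompat, ψ.commutes]
        rfl
      rw [h1, h2, hιh, ← map_mul, ← map_mul, Algebra.TensorProduct.tmul_mul_tmul, mul_one,
        one_mul]
    | add x y hx hy => rw [map_add, map_add, map_add, map_add, hx, hy]
  have hunitT : ∀ s : N, IsUnit (g_T.toRingHom s) := by
    intro s
    have h1 : IsUnit (algebraMap (Ah ⊗[A] B) E s) := IsLocalization.map_units E s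
    have h2 : IsUnit (Ideal.Quotient.mk J (g_T s)) := by
      rw [hclaim]
      exact h1.map ψ
    exact (IsNilpotent.isUnit_quotient_mk_iff ⟨2, hJ⟩).mp h2
  let χ' : E →+* C := IsLocalization.lift hunitT
  have hχ' : ∀ t, χ' (algebraMap (Ah ⊗[A] B) E t) = g_T t := fun t =>
    IsLocalization.lift_eq hunitT t
  have hχ'KB : ∀ x : KB, χ' (algebraMap KB E x) = algebraMap KB C x := by
    have h : (χ'.comp (algebraMap KB E)) = algebraMap KB C := by
      apply IsLocalization.ringHom_ext (nonZeroDivisors B)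
      ext b
      show χ' (algebraMap KB E (algebraMap B KB b)) = algebraMap KB C (algebraMap B KB b)
      rw [← hcompat, hχ', hg_T, map_one, one_mul]
      rfl
    exact fun x => DFunLike.congr_fun h x
  refine ⟨{ χ' with commutes' := hχ'KB }, AlgHom.ext fun x => ?_⟩
  show Ideal.Quotient.mk J (χ' x) = ψ x
  have h : (Ideal.Quotient.mk J).comp χ' = ψ.toRingHom := by
    apply IsLocalization.ringHom_ext N
    refine RingHom.ext fun t => ?_
    show Ideal.Quotient.mk J (χ' (algebraMap (Ah ⊗[A] B) E t)) = ψ (algebraMap (Ah ⊗[A] B) E t)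
    rw [hχ', hclaim]
  exact DFunLike.congr_fun h x

end Groth.Agent.Lib.Helper49.FSTransfer
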