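import Mathlib
import Groth.Agent.Lib.Helper56.CplCriteria
import Groth.Agent.Lib.Helper67.GRingDed
import Groth.Agent.Lib.Helper49.GeomRegFS5

set_option autoImplicit false
set_option linter.unusedSectionVars false
set_option linter.style.haveILetI false
universe u
open TensorProduct IsLocalRing

namespace Groth.Agent.Lib.Helper49.FormalFibre

theorem isRegularRing_fiber_baseChange (B C T : Type u) [CommRing B] [CommRing C] [CommRing T]
    [Algebra B C] [Algebra B T] [Algebra.QuasiFinite B T]
    (Q : Ideal T) [Q.IsPrime]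
    (hBC : CAlg.IsGeometricallyRegular (Q.under B).ResidueField ((Q.under B).Fiber C)) :
    IsRegularRing (Q.Fiber (T ⊗[B] C)) := by
  have hlo : Q.LiesOver (Q.under B) := ⟨rfl⟩
  let _ := Localization.AtPrime.algebraOfLiesOver (Q.under B) Q
  have hfin : Module.Finite (Q.under B).ResidueField Q.ResidueField := inferInstance
  have h1 : IsRegularRing (Q.ResidueField ⊗[(Q.under B).ResidueField] ((Q.under B).Fiber C)) :=
    hBC Q.ResidueField hfin
  have e1 := Algebra.TensorProduct.cancelBaseChange B (Q.under B).ResidueField Q.ResidueField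
    Q.ResidueField C
  have e2 := Algebra.TensorProduct.cancelBaseChange B T T Q.ResidueField C
  exact IsRegularRing.of_ringEquiv
    (R := Q.ResidueField ⊗[(Q.under B).ResidueField] ((Q.under B).Fiber C))
    (e1.toRingEquiv.trans e2.symm.toRingEquiv)

theorem isGeometricallyRegular_fiber_of_eq_bot (A C : Type u) [CommRing A] [IsDomain A]
    [CharZero A] [CommRing C] [Algebra A C] (hC : IsRegularRing C) (p₀ : Ideal A) [p₀.IsPrime]
    (h : p₀ = ⊥) : CAlg.IsGeometricallyRegular p₀.ResidueField (p₀.Fiber C) := by
  subst h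
  haveI : CharZero (⊥ : Ideal A).ResidueField := by
    have hinj : Function.Injective (algebraMap A (⊥ : Ideal A).ResidueField) := by
      rw [injective_iff_map_eq_zero]
      intro a ha
      rw [Ideal.algebraMap_residueField_eq_zero] at ha
      exact ha
    exact charZero_of_injective_algebraMap hinj
  apply Groth.Agent.Lib.Helper67.RegLocus.isGeometricallyRegular_of_charZero
  letI : Algebra C ((⊥ : Ideal A).ResidueField ⊗[A] C) := Algebra.TensorProduct.rightAlgebra
  haveI := Groth.Agent.Lib.Helper67.RegLocus.isLocalization_generic_fiber A C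
  exact Groth.Agent.Lib.Helper49.GeomRegFS.isRegularRing_of_isLocalization
    (Algebra.algebraMapSubmonoid C (nonZeroDivisors A)) _

attribute [local instance] Algebra.TensorProduct.rightAlgebra in
theorem isRegularLocalRing_atPrime_of_comap_eq_bot (A C B : Type u) [CommRing A] [CommRing C]
    [Algebra A C] [CommRing B] [IsDomain B] [Algebra A B] [Module.Finite A B]
    (hAC : CAlg.IsGeometricallyRegular ((⊥ : Ideal B).under A).ResidueField
      (((⊥ : Ideal B).under A).Fiber C))
    (q : Ideal (B ⊗[A] C)) [q.IsPrime] (hq : q.comap (algebraMap B (B ⊗[A] C)) = ⊥) :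
    IsRegularLocalRing (Localization.AtPrime q) := by
  have hloc := Groth.Agent.Lib.Helper56.isLocalization_bot_fiber A C B
  have hreg : IsRegularRing ((⊥ : Ideal B).ResidueField ⊗[B] (B ⊗[A] C)) :=
    isRegularRing_fiber_baseChange A C B ⊥ hAC
  obtain ⟨Q, hQ, ⟨e⟩⟩ := Groth.Agent.Lib.Helper56.nonempty_localization_equiv_of_comap_eq_bot
    ((⊥ : Ideal B).ResidueField ⊗[B] (B ⊗[A] C)) q hq
  exact IsRegularLocalRing.of_ringEquiv (R := Localization.AtPrime Q) e.symm

end Groth.Agent.Lib.Helper49.FormalFibre
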