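import Mathlib

set_option autoImplicit false
set_option linter.style.haveILetI false
set_option linter.unusedSectionVars false
universe u

namespace Groth.Agent.Lib.Helper49.DerExt

section Twist

variable {A B : Type*} [CommRing A] [CommRing B]

noncomputable def twist (φ : A →+* B) (D : A →+ B)
    (hD : ∀ x y, D (x * y) = φ x * D y + φ y * D x) : A →+* TrivSqZeroExt B B where
  toFun x := TrivSqZeroExt.inl (φ x) + TrivSqZeroExt.inr (D x)
  map_one' := by
    have h1 : D 1 = 0 := by
      have := hD 1 1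
      rw [mul_one, φ.map_one, one_mul] at this
      exact left_eq_add.mp this
    rw [map_one, h1, TrivSqZeroExt.inr_zero, add_zero, TrivSqZeroExt.inl_one]
  map_mul' x y := by
    apply TrivSqZeroExt.ext
    · simp only [TrivSqZeroExt.fst_add, TrivSqZeroExt.fst_inl, TrivSqZeroExt.fst_inr, add_zero,
        TrivSqZeroExt.fst_mul, map_mul]
    · simp only [TrivSqZeroExt.snd_add, TrivSqZeroExt.snd_inl, TrivSqZeroExt.snd_inr,
        TrivSqZeroExt.snd_mul, TrivSqZeroExt.fst_add, TrivSqZeroExt.fst_inl,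
        TrivSqZeroExt.fst_inr, add_zero, zero_add, hD, smul_eq_mul,
        MulOpposite.smul_eq_mul_unop, MulOpposite.unop_op]
      ring
  map_zero' := by
    rw [map_zero, map_zero, TrivSqZeroExt.inr_zero, add_zero, TrivSqZeroExt.inl_zero]
  map_add' x y := by
    rw [map_add, map_add, TrivSqZeroExt.inl_add, TrivSqZeroExt.inr_add]
    abel

theorem fst_twist (φ : A →+* B) (D : A →+ B)
    (hD : ∀ x y, D (x * y) = φ x * D y + φ y * D x) (x : A) : (twist φ D hD x).fst = φ x := by
  change (TrivSqZeroExt.inl (φ x) + TrivSqZeroExt.inr (D x)).fst = _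
  rw [TrivSqZeroExt.fst_add, TrivSqZeroExt.fst_inl, TrivSqZeroExt.fst_inr, add_zero]

theorem snd_twist (φ : A →+* B) (D : A →+ B)
    (hD : ∀ x y, D (x * y) = φ x * D y + φ y * D x) (x : A) : (twist φ D hD x).snd = D x := by
  change (TrivSqZeroExt.inl (φ x) + TrivSqZeroExt.inr (D x)).snd = _
  rw [TrivSqZeroExt.snd_add, TrivSqZeroExt.snd_inl, TrivSqZeroExt.snd_inr, zero_add]

theorem snd_mul_of_hom (Θ : A →+* TrivSqZeroExt B B) (x y : A) :
    (Θ (x * y)).snd = (Θ x).fst * (Θ y).snd + (Θ y).fst * (Θ x).snd := by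
  rw [map_mul, TrivSqZeroExt.snd_mul, smul_eq_mul, MulOpposite.smul_eq_mul_unop,
    MulOpposite.unop_op, mul_comm (Θ x).snd]

noncomputable def derOfHom (Θ : B →+* TrivSqZeroExt B B) (h : ∀ x, (Θ x).fst = x) :
    Derivation ℤ B B :=
  Derivation.mk' ((TrivSqZeroExt.sndHom B B).toAddMonoidHom.comp Θ.toAddMonoidHom).toIntLinearMap
    (fun x y => by
      show (Θ (x * y)).snd = x • (Θ y).snd + y • (Θ x).snd
      rw [snd_mul_of_hom, h, h, smul_eq_mul, smul_eq_mul])

theorem derOfHom_apply (Θ : B →+* TrivSqZeroExt B B) (h : ∀ x, (Θ x).fst = x) (x : B) :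
    derOfHom Θ h x = (Θ x).snd := rfl

end Twist

section Loc

variable {A : Type*} [CommRing A] (A' : Type*) [CommRing A'] [Algebra A A']

theorem twisted_ext (M : Submonoid A) [IsLocalization M A'] {E : Type*} [CommRing E] (φ : A' →+* E) (D₁ D₂ : A' →+ E)
    (h₁ : ∀ x y, D₁ (x * y) = φ x * D₁ y + φ y * D₁ x)
    (h₂ : ∀ x y, D₂ (x * y) = φ x * D₂ y + φ y * D₂ x)
    (hag : ∀ a : A, D₁ (algebraMap A A' a) = D₂ (algebraMap A A' a)) : D₁ = D₂ := by
  have h : twist φ D₁ h₁ = twist φ D₂ h₂ := by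
    apply IsLocalization.ringHom_ext M
    ext a
    · rw [RingHom.comp_apply, RingHom.comp_apply, fst_twist, fst_twist]
    · rw [RingHom.comp_apply, RingHom.comp_apply, snd_twist, snd_twist, hag]
  ext x
  have := congrArg (fun Θ : A' →+* TrivSqZeroExt E E => (Θ x).snd) h
  simpa only [snd_twist] using this

theorem exists_derivation_localization (M : Submonoid A) [IsLocalization M A']
    (D : Derivation ℤ A A) :
    ∃ D' : Derivation ℤ A' A', ∀ a, D' (algebraMap A A' a) = algebraMap A A' (D a) := by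
  let D₀ : A →+ A' := (algebraMap A A').toAddMonoidHom.comp (D : A →ₗ[ℤ] A).toAddMonoidHom
  have hD₀ : ∀ x y, D₀ (x * y) = algebraMap A A' x * D₀ y + algebraMap A A' y * D₀ x := by
    intro x y
    show algebraMap A A' (D (x * y)) = algebraMap A A' x * algebraMap A A' (D y) +
      algebraMap A A' y * algebraMap A A' (D x)
    rw [Derivation.leibniz, map_add, smul_eq_mul, smul_eq_mul, map_mul, map_mul]
  let Θ₀ : A →+* TrivSqZeroExt A' A' := twist (algebraMap A A') D₀ hD₀
  have hunit : ∀ m : M, IsUnit (Θ₀ m) := by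
    intro m
    rw [TrivSqZeroExt.isUnit_iff_isUnit_fst, fst_twist]
    exact IsLocalization.map_units A' m
  let Θ : A' →+* TrivSqZeroExt A' A' := IsLocalization.lift hunit
  have hΘ : ∀ a, Θ (algebraMap A A' a) = Θ₀ a := fun a => IsLocalization.lift_eq hunit a
  have hfst : ∀ x, (Θ x).fst = x := by
    have h : (TrivSqZeroExt.fstHom A' A' A').toRingHom.comp Θ = RingHom.id A' := by
      apply IsLocalization.ringHom_ext M
      ext a
      show (Θ (algebraMap A A' a)).fst = algebraMap A A' a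
      rw [hΘ, fst_twist]
    intro x
    exact DFunLike.congr_fun h x
  refine ⟨derOfHom Θ hfst, fun a => ?_⟩
  rw [derOfHom_apply, hΘ, snd_twist]
  rfl

end Loc

end Groth.Agent.Lib.Helper49.DerExt
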