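import Mathlib
import Groth.Agent.Lib.Helper49.DerExt1

set_option autoImplicit false
set_option linter.style.haveILetI false
set_option linter.unusedSectionVars false
universe u

namespace Groth.Agent.Lib.Helper49.DerExt

section Cpl

variable {C : Type*} [CommRing C] (I : Ideal C) (D : Derivation ℤ C C)

theorem derivation_pow_succ_le (n : ℕ) : ∀ a ∈ I ^ (n + 1), D a ∈ I ^ n := by
  induction n with
  | zero =>
    intro a _
    rw [pow_zero, Ideal.one_eq_top]
    trivial
  | succ n ih =>
    intro a ha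
    rw [pow_succ'] at ha
    refine Submodule.mul_induction_on ha ?_ ?_
    · intro x hx y hy
      rw [Derivation.leibniz, smul_eq_mul, smul_eq_mul]
      refine Ideal.add_mem _ ?_ (Ideal.mul_mem_right _ _ hy)
      rw [pow_succ']
      exact Ideal.mul_mem_mul hx (ih y hy)
    · intro x y hx hy
      rw [map_add]
      exact Ideal.add_mem _ hx hy

noncomputable def theta (n : ℕ) : C →+* TrivSqZeroExt (C ⧸ I ^ n) (C ⧸ I ^ n) :=
  twist (Ideal.Quotient.mk (I ^ n))
    ((Ideal.Quotient.mk (I ^ n)).toAddMonoidHom.comp (D : C →ₗ[ℤ] C).toAddMonoidHom)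
    (fun x y => by
      show Ideal.Quotient.mk (I ^ n) (D (x * y)) = Ideal.Quotient.mk (I ^ n) x *
        Ideal.Quotient.mk (I ^ n) (D y) + Ideal.Quotient.mk (I ^ n) y *
        Ideal.Quotient.mk (I ^ n) (D x)
      rw [Derivation.leibniz, map_add, smul_eq_mul, smul_eq_mul, map_mul, map_mul])

theorem fst_theta (n : ℕ) (c : C) : (theta I D n c).fst = Ideal.Quotient.mk (I ^ n) c :=
  fst_twist _ _ _ c

theorem snd_theta (n : ℕ) (c : C) : (theta I D n c).snd = Ideal.Quotient.mk (I ^ n) (D c) :=
  snd_twist _ _ _ c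

theorem theta_eq_zero (n : ℕ) (c : C) (hc : c ∈ I ^ (n + 1)) : theta I D n c = 0 := by
  apply TrivSqZeroExt.ext
  · rw [fst_theta, TrivSqZeroExt.fst_zero, Ideal.Quotient.eq_zero_iff_mem]
    exact Ideal.pow_le_pow_right (Nat.le_succ n) hc
  · rw [snd_theta, TrivSqZeroExt.snd_zero, Ideal.Quotient.eq_zero_iff_mem]
    exact derivation_pow_succ_le I D n c hc

noncomputable def Theta (n : ℕ) :
    AdicCompletion I C →+* TrivSqZeroExt (C ⧸ I ^ n) (C ⧸ I ^ n) :=
  (Ideal.Quotient.lift (I ^ (n + 1)) (theta I D n) (theta_eq_zero I D n)).comp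
    (AdicCompletion.evalₐ I (n + 1) : AdicCompletion I C →+* C ⧸ I ^ (n + 1))

theorem Theta_mk (n : ℕ) (seq : AdicCompletion.AdicCauchySequence I C) :
    Theta I D n (AdicCompletion.mk I C seq) = theta I D n (seq (n + 1)) := by
  show Ideal.Quotient.lift (I ^ (n + 1)) (theta I D n) (theta_eq_zero I D n)
    (AdicCompletion.evalₐ I (n + 1) (AdicCompletion.mk I C seq)) = _
  rw [AdicCompletion.evalₐ_mk, Ideal.Quotient.lift_mk]

theorem seq_sub_mem (seq : AdicCompletion.AdicCauchySequence I C) {m n : ℕ} (h : m ≤ n) :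
    seq n - seq m ∈ I ^ m := by
  have := seq.property h
  rw [SModEq.sub_mem, smul_eq_mul, Ideal.mul_top] at this
  rw [← neg_sub]
  exact neg_mem this

theorem fst_Theta (n : ℕ) (x : AdicCompletion I C) :
    (Theta I D n x).fst = AdicCompletion.evalₐ I n x := by
  obtain ⟨seq, rfl⟩ := AdicCompletion.mk_surjective I C x
  rw [Theta_mk, fst_theta, AdicCompletion.evalₐ_mk, Ideal.Quotient.eq]
  exact seq_sub_mem I seq (Nat.le_succ n)

theorem factor_snd_Theta {m n : ℕ} (h : m ≤ n) (x : AdicCompletion I C) :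
    Ideal.Quotient.factorPow I h (Theta I D n x).snd = (Theta I D m x).snd := by
  obtain ⟨seq, rfl⟩ := AdicCompletion.mk_surjective I C x
  rw [Theta_mk, Theta_mk, snd_theta, snd_theta]
  show Ideal.Quotient.mk (I ^ m) _ = _
  rw [Ideal.Quotient.eq, ← map_sub]
  exact derivation_pow_succ_le I D m _ (seq_sub_mem I seq (Nat.succ_le_succ h))

theorem exists_hat (x : AdicCompletion I C) :
    ∃ y : AdicCompletion I C, ∀ n, AdicCompletion.evalₐ I n y = (Theta I D n x).snd := by
  choose c hc using fun n => Ideal.Quotient.mk_surjective (Theta I D n x).snd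
  have hcauchy : AdicCompletion.IsAdicCauchy I C c := by
    intro m n h
    rw [SModEq.sub_mem, smul_eq_mul, Ideal.mul_top, ← Ideal.Quotient.eq, hc m,
      ← factor_snd_Theta I D h x, ← hc n]
    rfl
  let seq : AdicCompletion.AdicCauchySequence I C := ⟨c, @hcauchy⟩
  refine ⟨AdicCompletion.mk I C seq, fun n => ?_⟩
  rw [AdicCompletion.evalₐ_mk]
  exact hc n


noncomputable def hatFun (x : AdicCompletion I C) : AdicCompletion I C :=
  (exists_hat I D x).choose

theorem evalₐ_hatFun (n : ℕ) (x : AdicCompletion I C) :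
    AdicCompletion.evalₐ I n (hatFun I D x) = (Theta I D n x).snd :=
  (exists_hat I D x).choose_spec n

noncomputable def hat : Derivation ℤ (AdicCompletion I C) (AdicCompletion I C) :=
  Derivation.mk'
    ({ toFun := hatFun I D
       map_zero' := by
        refine AdicCompletion.ext_evalₐ fun n => ?_
        rw [evalₐ_hatFun, map_zero, map_zero, TrivSqZeroExt.snd_zero]
       map_add' := fun x y => by
        refine AdicCompletion.ext_evalₐ fun n => ?_
        rw [map_add, evalₐ_hatFun, evalₐ_hatFun, evalₐ_hatFun, map_add,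
          TrivSqZeroExt.snd_add] } : AdicCompletion I C →+ AdicCompletion I C).toIntLinearMap
    (fun x y => by
      refine AdicCompletion.ext_evalₐ fun n => ?_
      show AdicCompletion.evalₐ I n (hatFun I D (x * y)) =
        AdicCompletion.evalₐ I n (x • hatFun I D y + y • hatFun I D x)
      rw [evalₐ_hatFun, snd_mul_of_hom, fst_Theta, fst_Theta, map_add, smul_eq_mul, smul_eq_mul,
        map_mul, map_mul, evalₐ_hatFun, evalₐ_hatFun])

theorem hat_apply (x : AdicCompletion I C) : hat I D x = hatFun I D x := rfl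

theorem hat_of (c : C) :
    hat I D (algebraMap C (AdicCompletion I C) c) = algebraMap C (AdicCompletion I C) (D c) := by
  refine AdicCompletion.ext_evalₐ fun n => ?_
  rw [hat_apply, evalₐ_hatFun]
  show (Ideal.Quotient.lift (I ^ (n + 1)) (theta I D n) (theta_eq_zero I D n)
    (AdicCompletion.evalₐ I (n + 1) (AdicCompletion.of I C c))).snd =
    AdicCompletion.evalₐ I n (AdicCompletion.of I C (D c))
  rw [AdicCompletion.evalₐ_of, AdicCompletion.evalₐ_of, Ideal.Quotient.lift_mk, snd_theta]

end Cpl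

end Groth.Agent.Lib.Helper49.DerExt
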