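import Groth.Agent.Lib.Helper49.PBasis
import Mathlib.LinearAlgebra.Finsupp.LinearCombination
import Mathlib.LinearAlgebra.LinearIndependent.Defs

set_option autoImplicit false
universe u

namespace Groth.Agent.Lib.Helper49.PBasis

open EGA41

section Raw

variable {T : Type u} [CommRing T]

def SetIndep {I : Type*} (S : Set T) (v : I → T) : Prop :=
  ∀ (s : Finset I) (g : I → T), (∀ i ∈ s, g i ∈ S) → ∑ i ∈ s, g i * v i = 0 → ∀ i ∈ s, g i = 0

def InSpan {I : Type*} (S : Set T) (v : I → T) (t : T) : Prop :=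
  ∃ (s : Finset I) (g : I → T), (∀ i ∈ s, g i ∈ S) ∧ t = ∑ i ∈ s, g i * v i

def SetGen {I : Type*} (S : Set T) (v : I → T) : Prop := ∀ t : T, InSpan S v t

theorem linearIndependent_iff_setIndep {R : Type*} [CommRing R] [Algebra R T] {I : Type*}
    (S : Subalgebra R T) (v : I → T) : LinearIndependent S v ↔ SetIndep (S : Set T) v := by
  classical
  rw [linearIndependent_iff']
  constructor
  · intro h s g hg hsum i hi
    let g' : I → S := fun i => if h : g i ∈ S then ⟨g i, h⟩ else 0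
    have hg' : ∀ i ∈ s, (g' i : T) = g i := by
      intro i hi
      have : g i ∈ S := hg i hi
      simp only [g', this, dite_true]
    have h1 : ∑ i ∈ s, g' i • v i = 0 := by
      rw [← hsum]
      refine Finset.sum_congr rfl fun i hi => ?_
      rw [Algebra.smul_def, ← hg' i hi]
      rfl
    have h2 := h s g' h1 i hi
    rw [← hg' i hi, h2]
    rfl
  · intro h s g hsum i hi
    have h1 : ∑ i ∈ s, (g i : T) * v i = 0 := by
      rw [← hsum]
      refine Finset.sum_congr rfl fun i _ => ?_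
      rw [Algebra.smul_def]
      rfl
    exact Subtype.ext (h s (fun i => (g i : T)) (fun i _ => (g i).2) h1 i hi)

theorem mem_span_iff_inSpan {R : Type*} [CommRing R] [Algebra R T] {I : Type*}
    (S : Subalgebra R T) (v : I → T) (t : T) :
    t ∈ Submodule.span S (Set.range v) ↔ InSpan (S : Set T) v t := by
  classical
  constructor
  · intro h
    obtain ⟨c, rfl⟩ := Finsupp.mem_span_range_iff_exists_finsupp.mp h
    refine ⟨c.support, fun i => (c i : T), fun i _ => (c i).2, ?_⟩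
    rw [Finsupp.sum]
    refine Finset.sum_congr rfl fun i _ => ?_
    rw [Algebra.smul_def]
    rfl
  · rintro ⟨s, g, hg, rfl⟩
    refine Submodule.sum_mem _ fun i hi => ?_
    have : g i * v i = (⟨g i, hg i hi⟩ : S) • v i := by
      rw [Algebra.smul_def]
      rfl
    rw [this]
    exact Submodule.smul_mem _ _ (Submodule.subset_span ⟨i, rfl⟩)

theorem span_eq_top_iff_setGen {R : Type*} [CommRing R] [Algebra R T] {I : Type*}
    (S : Subalgebra R T) (v : I → T) :
    Submodule.span S (Set.range v) = ⊤ ↔ SetGen (S : Set T) v := by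
  rw [eq_top_iff]
  constructor
  · intro h t
    exact (mem_span_iff_inSpan S v t).mp (h trivial)
  · intro h t _
    exact (mem_span_iff_inSpan S v t).mpr (h t)

theorem setIndep_of_equiv {J J' : Type*} (F : J ≃ J') (S : Set T) (w : J' → T)
    (h : SetIndep S (w ∘ F)) : SetIndep S w := by
  intro s' g' hg' hsum i' hi'
  have h1 := h (s'.map F.symm.toEmbedding) (g' ∘ F)
    (fun i hi => by
      obtain ⟨j', hj', rfl⟩ := Finset.mem_map.mp hi
      simpa using hg' j' hj')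
    (by
      rw [Finset.sum_map]
      simpa using hsum)
    (F.symm i') (Finset.mem_map_of_mem _ hi')
  simpa using h1

theorem setIndep_equiv {I I' : Type*} (E : I ≃ I') (S : Set T) (v : I' → T) :
    SetIndep S (v ∘ E) ↔ SetIndep S v := by
  constructor
  · exact setIndep_of_equiv E S v
  · intro h
    refine setIndep_of_equiv E.symm S (v ∘ ⇑E) ?_
    have : (v ∘ ⇑E) ∘ ⇑E.symm = v := by
      ext i
      simp
    rwa [this]

theorem inSpan_equiv {I I' : Type*} (E : I ≃ I') (S : Set T) (v : I' → T) (t : T) :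
    InSpan S (v ∘ E) t ↔ InSpan S v t := by
  constructor
  · rintro ⟨s, g, hg, rfl⟩
    refine ⟨s.map E.toEmbedding, g ∘ E.symm, fun i hi => ?_, ?_⟩
    · obtain ⟨j, hj, rfl⟩ := Finset.mem_map.mp hi
      simpa using hg j hj
    · rw [Finset.sum_map]
      simp
  · rintro ⟨s, g, hg, rfl⟩
    refine ⟨s.map E.symm.toEmbedding, g ∘ E, fun i hi => ?_, ?_⟩
    · obtain ⟨j, hj, rfl⟩ := Finset.mem_map.mp hi
      simpa using hg j hj
    · rw [Finset.sum_map]
      simp

theorem setGen_equiv {I I' : Type*} (E : I ≃ I') (S : Set T) (v : I' → T) :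
    SetGen S (v ∘ E) ↔ SetGen S v :=
  forall_congr' fun t => inSpan_equiv E S v t

end Raw

section Tower

variable {T : Type u} [CommRing T] {I J : Type*}

theorem tower_indep {S₀ S₁ : Set T} (h0 : (0 : T) ∈ S₀) {u : I → T} {w : J → T}
    (hu : SetIndep S₀ u) (hw : SetIndep S₁ w)
    (hcl : ∀ (s : Finset I) (g : I → T), (∀ i ∈ s, g i ∈ S₀) → ∑ i ∈ s, g i * u i ∈ S₁) :
    SetIndep S₀ (fun ij : I × J => u ij.1 * w ij.2) := by
  classical
  intro s g hg hsum ij hij
  let s₁ := s.image Prod.fst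
  let s₂ := s.image Prod.snd
  let g' : I × J → T := fun ij => if ij ∈ s then g ij else 0
  have hg' : ∀ ij, g' ij ∈ S₀ := by
    intro ij
    by_cases h : ij ∈ s
    · simp only [g', h, if_true]
      exact hg ij h
    · simp only [g', h, if_false]
      exact h0
  have h1 : ∑ ij ∈ s₁ ×ˢ s₂, g' ij * (u ij.1 * w ij.2) = 0 := by
    rw [← hsum]
    symm
    refine Finset.sum_subset_zero_on_sdiff Finset.subset_product ?_ ?_
    · intro ij hij
      have : ij ∉ s := (Finset.mem_sdiff.mp hij).2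
      simp only [g', this, if_false, zero_mul]
    · intro ij hij
      simp only [g', hij, if_true]
  rw [Finset.sum_product_right] at h1
  have h2 : ∑ j ∈ s₂, (∑ i ∈ s₁, g' (i, j) * u i) * w j = 0 := by
    rw [← h1]
    refine Finset.sum_congr rfl fun j _ => ?_
    rw [Finset.sum_mul]
    refine Finset.sum_congr rfl fun i _ => ?_
    ring
  have h3 := hw s₂ (fun j => ∑ i ∈ s₁, g' (i, j) * u i)
    (fun j _ => hcl s₁ (fun i => g' (i, j)) fun i _ => hg' (i, j)) h2
  have hj : ij.2 ∈ s₂ := Finset.mem_image_of_mem _ hij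
  have hi : ij.1 ∈ s₁ := Finset.mem_image_of_mem _ hij
  have h4 := hu s₁ (fun i => g' (i, ij.2)) (fun i _ => hg' (i, ij.2)) (h3 ij.2 hj) ij.1 hi
  simpa [g', hij] using h4

theorem exists_common_expansion {S₀ S₁ : Set T} (h0 : (0 : T) ∈ S₀) {u : I → T}
    (hu : ∀ c ∈ S₁, InSpan S₀ u c) (s₂ : Finset J) (c : J → T) (hc : ∀ j ∈ s₂, c j ∈ S₁) :
    ∃ (s₁ : Finset I) (g : I × J → T), (∀ ij, g ij ∈ S₀) ∧
      ∀ j ∈ s₂, c j = ∑ i ∈ s₁, g (i, j) * u i := by
  classical
  have hex : ∀ j, ∃ (s : Finset I) (a : I → T), j ∈ s₂ →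
      (∀ i ∈ s, a i ∈ S₀) ∧ c j = ∑ i ∈ s, a i * u i := by
    intro j
    by_cases hj : j ∈ s₂
    · obtain ⟨s, a, ha, hca⟩ := hu (c j) (hc j hj)
      exact ⟨s, a, fun _ => ⟨ha, hca⟩⟩
    · exact ⟨∅, 0, fun h => absurd h hj⟩
  choose sj a ha using hex
  refine ⟨s₂.biUnion sj, fun ij => if ij.1 ∈ sj ij.2 ∧ ij.2 ∈ s₂ then a ij.2 ij.1 else 0,
    fun ij => ?_, fun j hj => ?_⟩
  · by_cases h : ij.1 ∈ sj ij.2 ∧ ij.2 ∈ s₂
    · simp only [h, and_self, if_true]
      exact (ha ij.2 h.2).1 ij.1 h.1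
    · simp only [h, if_false]
      exact h0
  · rw [(ha j hj).2]
    refine Finset.sum_subset_zero_on_sdiff (Finset.subset_biUnion_of_mem sj hj) ?_ ?_
    · intro i hi
      have : i ∉ sj j := (Finset.mem_sdiff.mp hi).2
      simp [this]
    · intro i hi
      simp [hi, hj]

theorem tower_gen {S₀ S₁ : Set T} (h0 : (0 : T) ∈ S₀) {u : I → T} {w : J → T}
    (hu : ∀ c ∈ S₁, InSpan S₀ u c) (hw : SetGen S₁ w) :
    SetGen S₀ (fun ij : I × J => u ij.1 * w ij.2) := by
  classical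
  intro t
  obtain ⟨s₂, c, hc, rfl⟩ := hw t
  obtain ⟨s₁, g, hg, hcg⟩ := exists_common_expansion h0 hu s₂ c hc
  refine ⟨s₁ ×ˢ s₂, g, fun ij _ => hg ij, ?_⟩
  rw [Finset.sum_product_right]
  refine Finset.sum_congr rfl fun j hj => ?_
  rw [hcg j hj, Finset.sum_mul]
  refine Finset.sum_congr rfl fun i _ => ?_
  ring

theorem tower_indep_conv {S₀ S₁ : Set T} (h0 : (0 : T) ∈ S₀) {u : I → T} {w : J → T}
    (huw : SetIndep S₀ (fun ij : I × J => u ij.1 * w ij.2))
    (hu : ∀ c ∈ S₁, InSpan S₀ u c) : SetIndep S₁ w := by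
  classical
  intro s₂ c hc hsum j hj
  obtain ⟨s₁, g, hg, hcg⟩ := exists_common_expansion h0 hu s₂ c hc
  have h1 : ∑ ij ∈ s₁ ×ˢ s₂, g ij * (u ij.1 * w ij.2) = 0 := by
    rw [Finset.sum_product_right, ← hsum]
    refine Finset.sum_congr rfl fun j hj => ?_
    rw [hcg j hj, Finset.sum_mul]
    refine Finset.sum_congr rfl fun i _ => ?_
    ring
  have h2 := huw (s₁ ×ˢ s₂) g (fun ij _ => hg ij) h1
  rw [hcg j hj]
  refine Finset.sum_eq_zero fun i hi => ?_
  rw [h2 (i, j) (Finset.mk_mem_product hi hj), zero_mul]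

end Tower

section SumMon

variable {B : Type u} [CommRing B] {ι κ : Type u}

theorem pMonomial_sumElim (x₁ : ι → B) (x₂ : κ → B) (e₁ : ι →₀ ℕ) (e₂ : κ →₀ ℕ) :
    pMonomial (Sum.elim x₁ x₂) (Finsupp.sumElim e₁ e₂) = pMonomial x₁ e₁ * pMonomial x₂ e₂ := by
  unfold pMonomial
  rw [Finsupp.prod_sumElim]
  rfl

noncomputable def redSumEquiv (p : ℕ) (ι κ : Type u) :
    {e : (ι ⊕ κ) →₀ ℕ // ∀ i, e i < p} ≃
      {e : ι →₀ ℕ // ∀ i, e i < p} × {e : κ →₀ ℕ // ∀ i, e i < p} where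
  toFun e := (⟨(Finsupp.sumFinsuppEquivProdFinsupp e.1).1, fun i => e.2 (Sum.inl i)⟩,
    ⟨(Finsupp.sumFinsuppEquivProdFinsupp e.1).2, fun i => e.2 (Sum.inr i)⟩)
  invFun ef := ⟨Finsupp.sumElim ef.1.1 ef.2.1, by
    rintro (i | i)
    · exact ef.1.2 i
    · exact ef.2.2 i⟩
  left_inv e := by
    apply Subtype.ext
    exact Finsupp.sumFinsuppEquivProdFinsupp.left_inv e.1
  right_inv ef := by
    have h := Finsupp.sumFinsuppEquivProdFinsupp.right_inv (ef.1.1, ef.2.1)
    apply Prod.ext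
    · exact Subtype.ext (congrArg Prod.fst h)
    · exact Subtype.ext (congrArg Prod.snd h)

theorem monomial_sum_eq (p : ℕ) (x₁ : ι → B) (x₂ : κ → B) :
    (fun e : {e : (ι ⊕ κ) →₀ ℕ // ∀ i, e i < p} => pMonomial (Sum.elim x₁ x₂) e.1) =
      (fun ef : {e : ι →₀ ℕ // ∀ i, e i < p} × {e : κ →₀ ℕ // ∀ i, e i < p} =>
        pMonomial x₁ ef.1.1 * pMonomial x₂ ef.2.1) ∘ redSumEquiv p ι κ := by
  funext e
  have h : e.1 = Finsupp.sumElim ((redSumEquiv p ι κ) e).1.1 ((redSumEquiv p ι κ) e).2.1 :=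
    (Finsupp.sumFinsuppEquivProdFinsupp.left_inv e.1).symm
  change pMonomial (Sum.elim x₁ x₂) e.1 = _
  rw [h, pMonomial_sumElim]
  rfl

end SumMon

end Groth.Agent.Lib.Helper49.PBasis
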