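import Groth.Agent.Lib.Helper49.Admissible
import Groth.Agent.Lib.Helper49.PBasisTower
import Mathlib.Tactic

set_option autoImplicit false
universe u
open EGA41

namespace Groth.Agent.Lib.Helper49.AdmissibleFam
open TensorProduct Groth.Agent.Lib.Helper49.PBasis Groth.Agent.Lib.Helper49.Admissible

section Carrier

variable (p : ℕ) [Fact p.Prime] {k K : Type u} [Field k] [Field K] [Algebra k K]

theorem pPower_carrier :
    (pPowerSubalgebra p k K : Set K) =
      (IntermediateField.adjoin k (Set.range fun y : K => y ^ p) : Set K) := by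
  ext c
  constructor
  · intro hc
    have := pPower_le_adjoin (p := p) (k := k) (∅ : Set K) c hc
    rwa [Set.union_empty] at this
  · intro hc
    let N : IntermediateField k K :=
      Subalgebra.toIntermediateField (pPowerSubalgebra p k K) (fun x hx => inv_mem_pPower x hx)
    have hle : IntermediateField.adjoin k (Set.range fun y : K => y ^ p) ≤ N := by
      rw [IntermediateField.adjoin_le_iff]
      rintro _ ⟨y, rfl⟩
      exact pow_mem_pPower p k y
    exact hle hc

end Carrier

section Sup

variable (p : ℕ) [Fact p.Prime] {k₀ K : Type u} [Field k₀] [Field K] [Algebra k₀ K]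

theorem pPower_carrier_sup (k : IntermediateField k₀ K) :
    (pPowerSubalgebra p k K : Set K) =
      ((k ⊔ IntermediateField.adjoin k₀ (Set.range fun y : K => y ^ p) :
        IntermediateField k₀ K) : Set K) := by
  rw [pPower_carrier, ← IntermediateField.restrictScalars_adjoin_eq_sup]
  rfl

theorem pIndependent_iff_sup (k : IntermediateField k₀ K) {ι : Type u} (x : ι → K) :
    IsPIndependent p k x ↔
      SetIndep ((k ⊔ IntermediateField.adjoin k₀ (Set.range fun y : K => y ^ p) :
        IntermediateField k₀ K) : Set K)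
        (fun e : {e : ι →₀ ℕ // ∀ i, e i < p} => pMonomial x e.1) := by
  unfold IsPIndependent
  rw [linearIndependent_iff_setIndep, pPower_carrier_sup]

theorem pIndependent_iff_base {ι : Type u} (x : ι → K) :
    IsPIndependent p k₀ x ↔
      SetIndep ((IntermediateField.adjoin k₀ (Set.range fun y : K => y ^ p) :
        IntermediateField k₀ K) : Set K)
        (fun e : {e : ι →₀ ℕ // ∀ i, e i < p} => pMonomial x e.1) := by
  unfold IsPIndependent
  rw [linearIndependent_iff_setIndep, pPower_carrier]

end Sup

section LA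

variable {k₀ K : Type*} [Field k₀] [Field K] [Algebra k₀ K] {ι : Type*} [Preorder ι]
  [IsDirected ι (· ≤ ·)] [Nonempty ι] {I : Type*}

def IndepOn (S : Set K) (v : I → K) (s : Finset I) : Prop :=
  ∀ g : I → K, (∀ i ∈ s, g i ∈ S) → ∑ i ∈ s, g i * v i = 0 → ∀ i ∈ s, g i = 0

theorem IndepOn.mono {S S' : Set K} (h : S' ⊆ S) {v : I → K} {s : Finset I}
    (hS : IndepOn S v s) : IndepOn S' v s :=
  fun g hg hsum => hS g (fun i hi => h (hg i hi)) hsum

theorem IndepOn.of_insert [DecidableEq I] {S : Set K} (h0 : (0 : K) ∈ S) {v : I → K}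
    {s : Finset I} {a : I} (ha : a ∉ s) (hS : IndepOn S v (insert a s)) : IndepOn S v s := by
  intro g hg hsum i hi
  have hne : ∀ j ∈ s, j ≠ a := fun j hj h => ha (h ▸ hj)
  have h1 := hS (Function.update g a 0) ?_ ?_ i (Finset.mem_insert_of_mem hi)
  · rwa [Function.update_of_ne (hne i hi)] at h1
  · intro j hj
    rcases Finset.mem_insert.mp hj with rfl | hj
    · rw [Function.update_self]
      exact h0
    · rw [Function.update_of_ne (hne j hj)]
      exact hg j hj
  · rw [Finset.sum_insert ha, Function.update_self, zero_mul, zero_add, ← hsum]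
    refine Finset.sum_congr rfl fun j hj => ?_
    rw [Function.update_of_ne (hne j hj)]

theorem exists_indepOn (F : ι → IntermediateField k₀ K) (hF : Antitone F) (v : I → K)
    (s : Finset I) (h : IndepOn ((⨅ i, F i : IntermediateField k₀ K) : Set K) v s) :
    ∃ j, IndepOn (F j : Set K) v s := by
  classical
  induction s using Finset.induction_on with
  | empty =>
    obtain ⟨j⟩ := ‹Nonempty ι›
    exact ⟨j, fun g _ _ i hi => absurd hi (Finset.notMem_empty i)⟩
  | insert a s ha ih =>
    obtain ⟨j₁, hj₁⟩ := ih (h.of_insert (zero_mem _) ha)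
    by_contra hcon
    push Not at hcon
    have key : ∀ j, j₁ ≤ j → ∃ c : I → K, (∀ i ∈ s, c i ∈ F j) ∧ v a = ∑ i ∈ s, c i * v i := by
      intro j hj
      have hnj := hcon j
      unfold IndepOn at hnj
      push Not at hnj
      obtain ⟨g, hg, hsum, i₀, hi₀, hne⟩ := hnj
      have hga : g a ≠ 0 := by
        intro h0
        rw [Finset.sum_insert ha, h0, zero_mul, zero_add] at hsum
        have h1 := (hj₁.mono (hF hj)) g (fun i hi => hg i (Finset.mem_insert_of_mem hi)) hsum
        rcases Finset.mem_insert.mp hi₀ with rfl | hi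
        · exact hne h0
        · exact hne (h1 i₀ hi)
      refine ⟨fun i => -(g i / g a), fun i hi => ?_, ?_⟩
      · exact neg_mem (div_mem (hg i (Finset.mem_insert_of_mem hi))
          (hg a (Finset.mem_insert_self a s)))
      · rw [Finset.sum_insert ha] at hsum
        have h2 : v a = -(∑ i ∈ s, g i * v i) / g a := by
          refine eq_div_of_mul_eq hga ?_
          linear_combination hsum
        rw [h2, neg_div, Finset.sum_div, ← Finset.sum_neg_distrib]
        refine Finset.sum_congr rfl fun i _ => ?_
        ring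
    obtain ⟨c, hc, hva⟩ := key j₁ le_rfl
    have hcj : ∀ j, j₁ ≤ j → ∀ i ∈ s, c i ∈ F j := by
      intro j hj i hi
      obtain ⟨c', hc', hva'⟩ := key j hj
      have h3 : ∑ i ∈ s, (c i - c' i) * v i = 0 := by
        simp only [sub_mul, Finset.sum_sub_distrib]
        rw [← hva, ← hva', sub_self]
      have h4 := hj₁ (fun i => c i - c' i)
        (fun i hi => sub_mem (hc i hi) (hF hj (hc' i hi))) h3 i hi
      rw [sub_eq_zero.mp h4]
      exact hc' i hi
    have hcinf : ∀ i ∈ s, c i ∈ (⨅ i, F i : IntermediateField k₀ K) := by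
      intro i hi
      rw [← SetLike.mem_coe, IntermediateField.coe_iInf, Set.mem_iInter]
      intro j'
      obtain ⟨j, hj1, hj2⟩ := exists_ge_ge j₁ j'
      exact hF hj2 (hcj j hj1 i hi)
    have h5 := h (fun i => if i = a then 1 else -c i) ?_ ?_ a (Finset.mem_insert_self a s)
    · simp at h5
    · intro i hi
      by_cases hia : i = a
      · simp only [hia, if_true]
        exact one_mem _
      · simp only [hia, if_false]
        rcases Finset.mem_insert.mp hi with h | h
        · exact absurd h hia
        · exact neg_mem (hcinf i h)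
    · rw [Finset.sum_insert ha]
      simp only [if_true, one_mul]
      rw [hva, ← Finset.sum_add_distrib]
      refine Finset.sum_eq_zero fun i hi => ?_
      have hia : i ≠ a := fun h => ha (h ▸ hi)
      simp only [hia, if_false]
      ring

end LA


section Key

variable (p : ℕ) [Fact p.Prime] {k₀ K : Type u} [Field k₀] [Field K] [Algebra k₀ K]
  {ι : Type u} [Preorder ι] [IsDirected ι (· ≤ ·)] [Nonempty ι]

theorem setIndep_of_indepOn_univ {I : Type*} [Fintype I] {S : Set K} (h0 : (0 : K) ∈ S)
    {v : I → K} (h : IndepOn S v Finset.univ) : SetIndep S v := by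
  classical
  intro s g hg hsum i hi
  have h1 := h (fun i => if i ∈ s then g i else 0) ?_ ?_ i (Finset.mem_univ i)
  · simpa [hi] using h1
  · intro j _
    by_cases hj : j ∈ s
    · simp only [hj, if_true]
      exact hg j hj
    · simp only [hj, if_false]
      exact h0
  · have h2 : ∑ i, (if i ∈ s then g i else 0) * v i = ∑ i ∈ s, g i * v i := by
      simp only [ite_mul, zero_mul]
      rw [Finset.sum_ite_mem, Finset.univ_inter]
    rw [h2, hsum]

theorem finite_exponents {J : Type u} [Finite J] : Finite {e : J →₀ ℕ // ∀ i, e i < p} := by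
  let f : {e : J →₀ ℕ // ∀ i, e i < p} → (J → Fin p) := fun e i => ⟨e.1 i, e.2 i⟩
  have hf : Function.Injective f := by
    intro e e' h
    apply Subtype.ext
    ext i
    have := congrFun h i
    exact congrArg Fin.val this
  exact Finite.of_injective f hf

theorem exists_pIndependent (k : ι → IntermediateField k₀ K) (hk : Antitone k)
    (hinf : (⨅ i, k i ⊔ IntermediateField.adjoin k₀ (Set.range fun y : K => y ^ p)) =
      IntermediateField.adjoin k₀ (Set.range fun y : K => y ^ p))
    {J : Type u} [Finite J] (x : J → K) (hx : IsPIndependent p k₀ x) :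
    ∃ i, IsPIndependent p (k i) x := by
  classical
  have := finite_exponents p (J := J)
  have : Fintype {e : J →₀ ℕ // ∀ i, e i < p} := Fintype.ofFinite _
  let F : ι → IntermediateField k₀ K := fun i =>
    k i ⊔ IntermediateField.adjoin k₀ (Set.range fun y : K => y ^ p)
  have hF : Antitone F := fun i j hij => sup_le_sup_right (hk hij) _
  have h1 := (pIndependent_iff_base p x).mp hx
  rw [← hinf] at h1
  obtain ⟨j, hj⟩ := exists_indepOn F hF _ Finset.univ (fun g hg hsum => h1 Finset.univ g hg hsum)
  exact ⟨j, (pIndependent_iff_sup p (k j) x).mpr (setIndep_of_indepOn_univ (zero_mem _) hj)⟩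

end Key

section Main

variable (p : ℕ) [Fact p.Prime] {k₀ K : Type u} [Field k₀] [Field K] [Algebra k₀ K] [CharP K p]
  {ι : Type u} [Preorder ι] [IsDirected ι (· ≤ ·)] [Nonempty ι]

theorem indep_subset {k : Type u} [Field k] [Algebra k K] (B B' : Set K) (hBB : B' ⊆ B)
    (hB : IsPIndependent p k (Subtype.val : ↥B → K)) :
    IsPIndependent p k (Subtype.val : ↥B' → K) := by
  rw [indep_set_iff] at hB ⊢
  intro t ht hmem
  refine hB t (hBB ht) (IntermediateField.adjoin.mono k _ _ ?_ hmem)
  rintro z (hz | hz)
  · exact Or.inl hz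
  · exact Or.inr ⟨hBB hz.1, hz.2⟩

theorem D_eq_zero_of_mem (k : IntermediateField k₀ K) (x : K)
    (hx : x ∈ k ⊔ IntermediateField.adjoin k₀ (Set.range fun y : K => y ^ p)) :
    KaehlerDifferential.D k K x = 0 := by
  rw [← IntermediateField.restrictScalars_adjoin_eq_sup] at hx
  have hx' : x ∈ IntermediateField.adjoin k ((Set.range fun y : K => y ^ p) ∪ ∅) := by
    rw [Set.union_empty]
    exact hx
  have := derivation_mem_span (KaehlerDifferential.D k K) ∅ x hx'
  rwa [Set.image_empty, Submodule.span_empty, Submodule.mem_bot] at this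

theorem mem_of_D_eq_zero (x : K) (hx : KaehlerDifferential.D k₀ K x = 0) :
    x ∈ IntermediateField.adjoin k₀ (Set.range fun y : K => y ^ p) := by
  by_contra hx0
  have hind : IsPIndependent p k₀ (fun _ : PUnit.{u+1} => x) := by
    refine pIndependent_of_not_mem fun a hmem => ?_
    have h1 : (fun _ : PUnit.{u+1} => x) '' {b | b ≠ a} = ∅ := by
      ext z
      simp only [Set.mem_image, Set.mem_setOf_eq, Set.mem_empty_iff_false, iff_false]
      rintro ⟨b, hb, -⟩
      exact hb (Subsingleton.elim b a)
    rw [h1, Set.union_empty] at hmem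
    exact hx0 hmem
  have hli := Groth.Agent.S2468.part1_mp _ hind
  exact hli.ne_zero PUnit.unit hx

theorem iInf_eq_iff_kaehler (k : ι → IntermediateField k₀ K) (hk : Antitone k) :
    (⨅ i, k i ⊔ IntermediateField.adjoin k₀ (Set.range fun y : K => y ^ p)) =
        IntermediateField.adjoin k₀ (Set.range fun y : K => y ^ p) ↔
      ∀ ω : Ω[K⁄k₀], (∀ i, KaehlerDifferential.map k₀ (k i) K K ω = 0) → ω = 0 := by
  classical
  constructor
  · intro hinf ω hω
    obtain ⟨B, b, hB, hb⟩ := exists_pBasis_kaehler p (k₀ := k₀) (K := K)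
    let B₀' : Set K := Subtype.val '' ((b.repr ω).support : Set ↥B)
    have hB₀B : B₀' ⊆ B := by
      rintro _ ⟨i, -, rfl⟩
      exact i.2
    have hfin : B₀'.Finite := (Finset.finite_toSet _).image _
    have hind0 := indep_subset p B B₀' hB₀B hB.1
    have : Finite ↥B₀' := hfin
    obtain ⟨i, hi⟩ := exists_pIndependent p k hk hinf (Subtype.val : ↥B₀' → K) hind0
    have hli := Groth.Agent.S2468.part1_mp (Subtype.val : ↥B₀' → K) hi
    let v : ↥B → Ω[K⁄k i] := fun t => KaehlerDifferential.D (k i) K (t : K)
    let f : ↥((b.repr ω).support : Set ↥B) → ↥B₀' := fun t => ⟨t.1.1, ⟨t.1, t.2, rfl⟩⟩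
    have hf : Function.Injective f := by
      intro t t' htt
      have h1 : (f t).1 = (f t').1 := congrArg Subtype.val htt
      have h2 : t.1.1 = t'.1.1 := h1
      exact Subtype.ext (Subtype.ext h2)
    have hon : LinearIndepOn K v ((b.repr ω).support : Set ↥B) := hli.comp f hf
    have hv : v = ⇑(KaehlerDifferential.map k₀ (k i) K K) ∘ ⇑b := by
      funext t
      rw [Function.comp_apply, hb, KaehlerDifferential.map_D]
      rfl
    have hzero : b.repr ω = 0 := by
      refine linearIndepOn_iff.mp hon (b.repr ω) ?_ ?_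
      · rw [Finsupp.mem_supported]
      · rw [hv, ← Finsupp.apply_linearCombination, Module.Basis.linearCombination_repr]
        exact hω i
    exact b.repr.map_eq_zero_iff.mp hzero
  · intro h
    apply le_antisymm
    · intro x hx
      apply mem_of_D_eq_zero p
      apply h
      intro i
      rw [KaehlerDifferential.map_D]
      apply D_eq_zero_of_mem p
      have hx' := (iInf_le (fun i => k i ⊔
        IntermediateField.adjoin k₀ (Set.range fun y : K => y ^ p)) i) hx
      exact hx'
    · exact le_iInf fun i => le_sup_right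

end Main

end Groth.Agent.Lib.Helper49.AdmissibleFam
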