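import Mathlib
import Groth.Agent.Lib.Helper49.AdmissibleFam
import Groth.Agent.Lib.Helper49.GeomRegFS2
import Groth.Agent.S2468

set_option autoImplicit false
set_option linter.style.haveILetI false
set_option linter.unusedSectionVars false
universe u

namespace Groth.Agent.Lib.Helper49.FamCrit

open TensorProduct IsLocalRing EGA41 Groth.Agent.Lib.Helper49.PBasis
  Groth.Agent.Lib.Helper49.GeomRegFS

section Field

variable (p : ℕ) [Fact p.Prime] {K : Type u} [Field K] [CharP K p]
  {ι : Type u} [Preorder ι] [IsDirected ι (· ≤ ·)] [Nonempty ι]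

theorem exists_dual_of_linearIndependent {V : Type*} [AddCommGroup V] [Module K V] {T : Type*}
    (v : T → V) (hv : LinearIndependent K v) (t₀ : T) :
    ∃ ℓ : V →ₗ[K] K, ℓ (v t₀) = 1 ∧ ∀ u, u ≠ t₀ → ℓ (v u) = 0 := by
  classical
  have hker : LinearMap.ker (Finsupp.linearCombination K v) = ⊥ := by
    rw [LinearMap.ker_eq_bot]
    exact hv
  obtain ⟨r, hr⟩ := LinearMap.exists_leftInverse_of_injective _ hker
  refine ⟨(Finsupp.lapply t₀).comp r, ?_, ?_⟩
  · have h1 := DFunLike.congr_fun hr (Finsupp.single t₀ 1)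
    rw [LinearMap.comp_apply, Finsupp.linearCombination_single, one_smul] at h1
    rw [LinearMap.comp_apply, h1]
    simp
  · intro u hu
    have h1 := DFunLike.congr_fun hr (Finsupp.single u 1)
    rw [LinearMap.comp_apply, Finsupp.linearCombination_single, one_smul] at h1
    rw [LinearMap.comp_apply, h1]
    simp [Finsupp.single_apply, hu]

theorem exists_derivations (F : ι → Subfield K) (hF : Antitone F)
    (hpow : ∀ i (y : K), y ^ p ∈ F i)
    (hinf : ∀ x : K, (∀ i, x ∈ F i) → ∃ y, y ^ p = x)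
    (T : Set K) (hfin : T.Finite) (hT : PInd p K T) :
    ∃ i, ∀ t ∈ T, ∃ δ : Derivation ℤ K K, (∀ x ∈ F i, δ x = 0) ∧ δ t = 1 ∧
      ∀ u ∈ T, u ≠ t → δ u = 0 := by
  letI : Algebra (ZMod p) K := ZMod.algebra K p
  letI : Algebra (ULift.{u} (ZMod p)) K := ULift.algebra' (ZMod p) K
  have hk₀ : ∀ i (c : ULift.{u} (ZMod p)), algebraMap (ULift.{u} (ZMod p)) K c ∈ F i := by
    intro i c
    rw [← ulift_zmod_pow p c, map_pow]
    exact hpow i _
  let k : ι → IntermediateField (ULift.{u} (ZMod p)) K := fun i =>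
    (F i).toIntermediateField (hk₀ i)
  have hk : Antitone k := fun i j hij x hx => hF hij hx
  have hle : ∀ i, IntermediateField.adjoin (ULift.{u} (ZMod p)) (Set.range fun y : K => y ^ p) ≤
      k i := by
    intro i
    rw [IntermediateField.adjoin_le_iff]
    rintro _ ⟨y, rfl⟩
    exact hpow i y
  have hinf' : (⨅ i, k i ⊔ IntermediateField.adjoin (ULift.{u} (ZMod p))
      (Set.range fun y : K => y ^ p)) =
      IntermediateField.adjoin (ULift.{u} (ZMod p)) (Set.range fun y : K => y ^ p) := by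
    apply le_antisymm
    · intro x hx
      have hx' : ∀ i, x ∈ F i := by
        intro i
        have := (iInf_le (fun i => k i ⊔ IntermediateField.adjoin (ULift.{u} (ZMod p))
          (Set.range fun y : K => y ^ p)) i) hx
        rw [sup_eq_left.mpr (hle i)] at this
        exact this
      obtain ⟨y, rfl⟩ := hinf x hx'
      exact IntermediateField.subset_adjoin _ _ ⟨y, rfl⟩
    · exact le_iInf fun i => le_sup_right
  have hTind : IsPIndependent p (ULift.{u} (ZMod p)) (Subtype.val : T → K) := by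
    rw [indep_set_iff]
    intro t ht
    rw [mem_adjoin_iff]
    exact hT t ht
  haveI : Finite ↥T := hfin
  obtain ⟨i, hi⟩ := Groth.Agent.Lib.Helper49.AdmissibleFam.exists_pIndependent p k hk hinf'
    (Subtype.val : ↥T → K) hTind
  refine ⟨i, fun t ht => ?_⟩
  have hli := Groth.Agent.S2468.part1_mp (Subtype.val : ↥T → K) hi
  obtain ⟨ℓ, hℓ1, hℓ2⟩ := exists_dual_of_linearIndependent _ hli ⟨t, ht⟩
  let δ : Derivation (k i) K K := ℓ.compDer (KaehlerDifferential.D (k i) K)
  refine ⟨δ.restrictScalars ℤ, ?_, hℓ1, ?_⟩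
  · intro x hx
    have : x = algebraMap (k i) K ⟨x, hx⟩ := rfl
    rw [this]
    exact δ.map_algebraMap _
  · intro u hu hne
    exact hℓ2 ⟨u, hu⟩ (fun h => hne (congrArg Subtype.val h))

end Field

section Crit

variable (p : ℕ) [Fact p.Prime] {K E : Type u} [Field K] [CharP K p] [CommRing E] [IsLocalRing E]
  [Algebra K E] {ι : Type u} [Preorder ι] [IsDirected ι (· ≤ ·)] [Nonempty ι]

theorem derivation_eq_sum {J : Type*} [Fintype J] [DecidableEq J] (Fi : Subfield K) (z : J → K)
    (D : J → Derivation ℤ K K)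
    (δ : Derivation ℤ K K) (hδ : ∀ x ∈ Fi, δ x = 0)
    (hD2 : ∀ j, ∀ x ∈ Fi, D j x = 0) (hD3 : ∀ j l, D j (z l) = if j = l then 1 else 0)
    (hD4 : Subfield.closure ((Fi : Set K) ∪ Set.range z) = ⊤) (x : K) :
    δ x = ∑ j, δ (z j) * D j x := by
  have hx : x ∈ Subfield.closure ((Fi : Set K) ∪ Set.range z) := by
    rw [hD4]
    trivial
  induction hx using Subfield.closure_induction with
  | mem x hx =>
    rcases hx with hx | ⟨l, rfl⟩
    · rw [hδ x hx]
      symm
      refine Finset.sum_eq_zero fun j _ => ?_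
      rw [hD2 j x hx, mul_zero]
    · simp_rw [hD3]
      simp
  | one =>
    rw [Derivation.map_one_eq_zero]
    symm
    refine Finset.sum_eq_zero fun j _ => ?_
    rw [Derivation.map_one_eq_zero, mul_zero]
  | add x y _ _ hx hy =>
    rw [map_add, hx, hy, ← Finset.sum_add_distrib]
    refine Finset.sum_congr rfl fun j _ => ?_
    rw [map_add, mul_add]
  | neg x _ hx =>
    rw [map_neg, hx, ← Finset.sum_neg_distrib]
    refine Finset.sum_congr rfl fun j _ => ?_
    rw [map_neg, mul_neg]
  | inv x _ hx =>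
    rw [Derivation.leibniz_inv, hx, Finset.smul_sum]
    refine Finset.sum_congr rfl fun j _ => ?_
    rw [Derivation.leibniz_inv, smul_eq_mul, smul_eq_mul]
    ring
  | mul x y _ _ hx hy =>
    rw [Derivation.leibniz, hx, hy, Finset.smul_sum, Finset.smul_sum, ← Finset.sum_add_distrib]
    refine Finset.sum_congr rfl fun j _ => ?_
    rw [Derivation.leibniz, smul_eq_mul, smul_eq_mul, smul_eq_mul, smul_eq_mul]
    ring

theorem pInd_subset {T B : Set K} (hTB : T ⊆ B) (hB : PInd p K B) : PInd p K T := by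
  intro t ht hmem
  refine hB t (hTB ht) (Subfield.closure_mono ?_ hmem)
  rintro y (hy | hy)
  · exact Or.inl hy
  · exact Or.inr ⟨hTB hy.1, hy.2⟩

theorem injective_of_family (F : ι → Subfield K) (hF : Antitone F)
    (hpow : ∀ i (y : K), y ^ p ∈ F i)
    (hinf : ∀ x : K, (∀ i, x ∈ F i) → ∃ y, y ^ p = x)
    (hD : ∀ i, ∃ (J : Type u) (_ : Fintype J) (_ : DecidableEq J) (z : J → K)
        (D : J → Derivation ℤ K K) (D' : J → Derivation ℤ E E),
        (∀ j x, D' j (algebraMap K E x) = algebraMap K E (D j x)) ∧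
        (∀ j, ∀ x ∈ F i, D j x = 0) ∧ (∀ j l, D j (z l) = if j = l then 1 else 0) ∧
        Subfield.closure ((F i : Set K) ∪ Set.range z) = ⊤) :
    Function.Injective
      ((KaehlerDifferential.mapBaseChange ℤ K E).lTensor (ResidueField E)) := by
  classical
  obtain ⟨B, b, -, hb, hB⟩ := exists_kaehler_basis p (∅ : Set K)
    (fun t ht => absurd ht (Set.notMem_empty t))
  let bE : Module.Basis B E (E ⊗[K] Ω[K⁄ℤ]) := b.baseChange E
  let bκ : Module.Basis B (ResidueField E) (ResidueField E ⊗[E] (E ⊗[K] Ω[K⁄ℤ])) :=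
    bE.baseChange (ResidueField E)
  have hbκ : ∀ u : B, bκ u =
      (1 : ResidueField E) ⊗ₜ[E] ((1 : E) ⊗ₜ[K] KaehlerDifferential.D ℤ K (u : K)) := by
    intro u
    rw [Module.Basis.baseChange_apply, Module.Basis.baseChange_apply, hb]
  let φK : ResidueField E ⊗[E] (E ⊗[K] Ω[K⁄ℤ]) →ₗ[ResidueField E] ResidueField E ⊗[E] Ω[E⁄ℤ] :=
    (KaehlerDifferential.mapBaseChange ℤ K E).baseChange (ResidueField E)
  have hφK : ∀ w, φK w = (KaehlerDifferential.mapBaseChange ℤ K E).lTensor (ResidueField E) w :=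
    fun w => rfl
  have hφb : ∀ u : B, φK (bκ u) =
      (1 : ResidueField E) ⊗ₜ[E] KaehlerDifferential.D ℤ E (algebraMap K E (u : K)) := by
    intro u
    rw [hbκ, hφK, LinearMap.lTensor_tmul, KaehlerDifferential.mapBaseChange_tmul, one_smul,
      KaehlerDifferential.map_D]
  rw [injective_iff_map_eq_zero]
  intro w hw
  rw [← hφK] at hw
  let T : Set K := Subtype.val '' ((bκ.repr w).support : Set B)
  have hTB : T ⊆ B := by
    rintro _ ⟨u, -, rfl⟩
    exact u.2
  have hTfin : T.Finite := (Finset.finite_toSet _).image _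
  obtain ⟨i, hi⟩ := exists_derivations p F hF hpow hinf T hTfin (pInd_subset p hTB hB)
  obtain ⟨J, _, _, z, D, D', hD1, hD2, hD3, hD4⟩ := hD i
  have hzero : bκ.repr w = 0 := by
    ext u
    by_contra hne
    rw [Finsupp.zero_apply] at hne
    have hu : (u : K) ∈ T := ⟨u, Finsupp.mem_support_iff.mpr hne, rfl⟩
    obtain ⟨δ, hδ1, hδ2, hδ3⟩ := hi u hu
    have hδ := derivation_eq_sum (F i) z D δ hδ1 hD2 hD3 hD4
    let Lj : J → (ResidueField E ⊗[E] Ω[E⁄ℤ] →ₗ[ResidueField E] ResidueField E) := fun j =>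
      (((Algebra.linearMap E (ResidueField E)).compDer (D' j)).liftKaehlerDifferential).liftBaseChange
        (ResidueField E)
    have hLj : ∀ j (x : K), Lj j ((1 : ResidueField E) ⊗ₜ[E]
        KaehlerDifferential.D ℤ E (algebraMap K E x)) =
        algebraMap E (ResidueField E) (algebraMap K E (D j x)) := by
      intro j x
      rw [LinearMap.liftBaseChange_tmul, one_smul, Derivation.liftKaehlerDifferential_comp_D]
      show algebraMap E (ResidueField E) (D' j (algebraMap K E x)) = _
      rw [hD1]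
    let L : ResidueField E ⊗[E] Ω[E⁄ℤ] →ₗ[ResidueField E] ResidueField E :=
      ∑ j, algebraMap E (ResidueField E) (algebraMap K E (δ (z j))) • Lj j
    have hL : ∀ x : K, L ((1 : ResidueField E) ⊗ₜ[E]
        KaehlerDifferential.D ℤ E (algebraMap K E x)) =
        algebraMap E (ResidueField E) (algebraMap K E (δ x)) := by
      intro x
      rw [LinearMap.sum_apply, hδ x, map_sum, map_sum]
      refine Finset.sum_congr rfl fun j _ => ?_
      rw [LinearMap.smul_apply, hLj, smul_eq_mul, map_mul, map_mul]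
    have h0 : L (φK w) = 0 := by rw [hw, map_zero]
    rw [← bκ.linearCombination_repr w, Finsupp.linearCombination_apply, Finsupp.sum, map_sum,
      map_sum] at h0
    rw [Finset.sum_eq_single u] at h0
    · rw [map_smul, map_smul, hφb, hL, hδ2, map_one, map_one, smul_eq_mul, mul_one] at h0
      exact hne h0
    · intro v hv hvu
      have hvT : (v : K) ∈ T := ⟨v, hv, rfl⟩
      rw [map_smul, map_smul, hφb, hL, hδ3 v hvT (fun h => hvu (Subtype.ext h)), map_zero,
        map_zero, smul_zero]
    · intro hu'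
      exact absurd (Finsupp.mem_support_iff.mpr hne) hu'
  exact bκ.repr.map_eq_zero_iff.mp hzero

end Crit

end Groth.Agent.Lib.Helper49.FamCrit
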