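import Mathlib
import Groth.Agent.Lib.Helper49.AdmissibleFam
import Groth.Agent.Lib.Helper49.GeomRegFS2

set_option autoImplicit false
set_option linter.style.haveILetI false
set_option linter.unusedSectionVars false
universe u

namespace Groth.Agent.Lib.Helper49.FieldFam

open EGA41 Groth.Agent.Lib.Helper49.PBasis Groth.Agent.Lib.Helper49.GeomRegFS
open Classical

section

variable (p : ℕ) [Fact p.Prime] {k : Type u} [Field k] [CharP k p]

theorem derivation_pow_eq_zero (D : Derivation ℤ k k) (y : k) : D (y ^ p) = 0 := by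
  rw [Derivation.leibniz_pow, ← Nat.cast_smul_eq_nsmul k, CharP.cast_eq_zero, zero_smul]

theorem derivation_closure_eq_zero (D : Derivation ℤ k k) (T : Set k) (hT : ∀ t ∈ T, D t = 0)
    (x : k) (hx : x ∈ Subfield.closure T) : D x = 0 := by
  induction hx using Subfield.closure_induction with
  | mem x hx => exact hT x hx
  | one => exact Derivation.map_one_eq_zero D
  | add x y _ _ hx hy => rw [map_add, hx, hy, add_zero]
  | neg x _ hx => rw [map_neg, hx, neg_zero]
  | inv x _ hx => rw [Derivation.leibniz_inv, hx, smul_zero]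
  | mul x y _ _ hx hy => rw [Derivation.leibniz, hx, hy, smul_zero, smul_zero, add_zero]

theorem mem_range_of_mem_closure (c : k)
    (hc : c ∈ Subfield.closure ((Set.range fun y : k => y ^ p) ∪ ∅)) : ∃ y : k, y ^ p = c := by
  have hle : Subfield.closure ((Set.range fun z : k => z ^ p) ∪ ∅) ≤
      (frobenius k p).fieldRange := by
    rw [Subfield.closure_le]
    rintro z (⟨w, rfl⟩ | hz)
    · exact ⟨w, rfl⟩
    · exact absurd hz (Set.notMem_empty z)
  obtain ⟨w, hw⟩ := hle hc
  exact ⟨w, hw⟩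

variable (k) in
theorem exists_gamma :
    ∃ (Γ : Set k) (δ : Γ → Derivation ℤ k k),
      (∀ γ γ' : Γ, δ γ (γ' : k) = if γ = γ' then 1 else 0) ∧
      Subfield.closure ((Set.range fun y : k => y ^ p) ∪ Γ) = ⊤ ∧
      (∀ c : k, (∀ γ, δ γ c = 0) → ∃ y, y ^ p = c) := by
  classical
  letI : Algebra (ZMod p) k := ZMod.algebra k p
  letI : Algebra (ULift.{u} (ZMod p)) k := ULift.algebra' (ZMod p) k
  obtain ⟨Γ, b, hΓ, hb⟩ := Groth.Agent.Lib.Helper49.Admissible.exists_pBasis_kaehler p
    (k₀ := ULift.{u} (ZMod p)) (K := k)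
  refine ⟨Γ, fun γ => ((b.coord γ).compDer
    (KaehlerDifferential.D (ULift.{u} (ZMod p)) k)).restrictScalars ℤ, ?_, ?_, ?_⟩
  · intro γ γ'
    show b.coord γ (KaehlerDifferential.D (ULift.{u} (ZMod p)) k (γ' : k)) = _
    rw [← hb γ', Module.Basis.coord_apply, Module.Basis.repr_self, Finsupp.single_apply]
    by_cases h : γ = γ'
    · rw [if_pos h, if_pos h.symm]
    · rw [if_neg h, if_neg (fun h' => h h'.symm)]
  · rw [eq_top_iff]
    intro x _
    have h2 := (gen_set_iff (p := p) (k := ULift.{u} (ZMod p)) Γ).mp hΓ.2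
    have h3 : x ∈ IntermediateField.adjoin (ULift.{u} (ZMod p))
        ((Set.range fun y : k => y ^ p) ∪ Γ) := by
      rw [h2]
      trivial
    exact (mem_adjoin_iff p _ x).mp h3
  · intro c hc
    have hD : KaehlerDifferential.D (ULift.{u} (ZMod p)) k c = 0 := by
      apply b.repr.map_eq_zero_iff.mp
      ext γ
      exact hc γ
    have h1 := Groth.Agent.Lib.Helper49.AdmissibleFam.mem_of_D_eq_zero p c hD
    have h2 : c ∈ IntermediateField.adjoin (ULift.{u} (ZMod p))
        ((Set.range fun y : k => y ^ p) ∪ ∅) := by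
      rw [Set.union_empty]
      exact h1
    exact mem_range_of_mem_closure p c ((mem_adjoin_iff p _ c).mp h2)

end

section kS

variable (p : ℕ) [Fact p.Prime] {k : Type u} [Field k] [CharP k p] (Γ : Set k)

def kS (S : Finset Γ) : Subfield k :=
  Subfield.closure ((Set.range fun y : k => y ^ p) ∪ (Γ \ (Subtype.val '' (S : Set Γ))))

theorem pow_mem_kS (S : Finset Γ) (y : k) : y ^ p ∈ kS p Γ S :=
  Subfield.subset_closure (Or.inl ⟨y, rfl⟩)

theorem kS_antitone : Antitone (kS p Γ) := by
  intro S S' h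
  apply Subfield.closure_mono
  rintro x (hx | hx)
  · exact Or.inl hx
  · refine Or.inr ⟨hx.1, fun hx' => hx.2 ?_⟩
    obtain ⟨γ, hγ, rfl⟩ := hx'
    exact ⟨γ, h hγ, rfl⟩

theorem der_kS_eq_zero (δ : Γ → Derivation ℤ k k)
    (hδ : ∀ γ γ' : Γ, δ γ (γ' : k) = if γ = γ' then 1 else 0) (S : Finset Γ) (γ : Γ) (hγ : γ ∈ S)
    (x : k) (hx : x ∈ kS p Γ S) : δ γ x = 0 := by
  refine derivation_closure_eq_zero (δ γ) _ ?_ x hx
  rintro t (⟨y, rfl⟩ | ht)
  · exact derivation_pow_eq_zero p _ y
  · have := hδ γ ⟨t, ht.1⟩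
    rw [this, if_neg]
    rintro rfl
    exact ht.2 ⟨_, hγ, rfl⟩

theorem exists_pow_of_forall_mem_kS (δ : Γ → Derivation ℤ k k)
    (hδ : ∀ γ γ' : Γ, δ γ (γ' : k) = if γ = γ' then 1 else 0)
    (hinf : ∀ c : k, (∀ γ, δ γ c = 0) → ∃ y, y ^ p = c)
    (c : k) (hc : ∀ S, c ∈ kS p Γ S) : ∃ y, y ^ p = c := by
  apply hinf
  intro γ
  exact der_kS_eq_zero p Γ δ hδ {γ} γ (Finset.mem_singleton_self γ) c (hc {γ})

theorem closure_kS_union (hgen : Subfield.closure ((Set.range fun y : k => y ^ p) ∪ Γ) = ⊤)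
    (S : Finset Γ) :
    Subfield.closure ((kS p Γ S : Set k) ∪ (Subtype.val '' (S : Set Γ))) = ⊤ := by
  rw [eq_top_iff, ← hgen, Subfield.closure_le]
  rintro x (hx | hx)
  · exact Subfield.subset_closure (Or.inl (Subfield.subset_closure (Or.inl hx)))
  · by_cases hxS : x ∈ Subtype.val '' (S : Set Γ)
    · exact Subfield.subset_closure (Or.inr hxS)
    · exact Subfield.subset_closure (Or.inl (Subfield.subset_closure (Or.inr ⟨hx, hxS⟩)))

theorem finite_kS (hgen : Subfield.closure ((Set.range fun y : k => y ^ p) ∪ Γ) = ⊤)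
    (S : Finset Γ) : Module.Finite (kS p Γ S) k := by
  have hint : ∀ x ∈ Subtype.val '' (S : Set Γ), IsIntegral (kS p Γ S) x := by
    intro x _
    refine IsIntegral.of_pow (Fact.out : p.Prime).pos ?_
    exact (isIntegral_algebraMap (x := (⟨x ^ p, pow_mem_kS p Γ S x⟩ : kS p Γ S)))
  have : Finite (Subtype.val '' (S : Set Γ)) := (Finset.finite_toSet S).image _
  have hfd := IntermediateField.finiteDimensional_adjoin hint
  have htop : IntermediateField.adjoin (kS p Γ S) (Subtype.val '' (S : Set Γ)) = ⊤ := by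
    rw [eq_top_iff]
    intro y _
    have hle : Subfield.closure ((kS p Γ S : Set k) ∪ (Subtype.val '' (S : Set Γ))) ≤
        (IntermediateField.adjoin (kS p Γ S) (Subtype.val '' (S : Set Γ))).toSubfield := by
      rw [Subfield.closure_le]
      rintro z (hz | hz)
      · exact (IntermediateField.adjoin (kS p Γ S) (Subtype.val '' (S : Set Γ))).algebraMap_mem
          ⟨z, hz⟩
      · exact IntermediateField.subset_adjoin _ _ hz
    have hy : y ∈ Subfield.closure ((kS p Γ S : Set k) ∪ (Subtype.val '' (S : Set Γ))) := by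
      rw [closure_kS_union p Γ hgen S]
      trivial
    exact hle hy
  rw [htop] at hfd
  exact Module.Finite.equiv
    (IntermediateField.topEquiv (F := kS p Γ S) (E := k)).toLinearEquiv

theorem exists_basis_one {F : Subfield k} [Module.Finite F k] :
    ∃ (𝒜 : Type u) (_ : Fintype 𝒜) (β : Module.Basis 𝒜 F k) (a₀ : 𝒜), β a₀ = 1 := by
  classical
  have hli : LinearIndepOn F id ({1} : Set k) := by
    rw [linearIndepOn_singleton_iff]
    exact one_ne_zero
  let b := Module.Basis.extend hli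
  have h1 : (1 : k) ∈ hli.extend (Set.subset_univ _) :=
    hli.subset_extend (Set.subset_univ _) rfl
  haveI : Fintype ↥(hli.extend (Set.subset_univ _)) := FiniteDimensional.fintypeBasisIndex b
  exact ⟨↥(hli.extend (Set.subset_univ _)), inferInstance, b, ⟨1, h1⟩,
    Module.Basis.extend_apply_self hli _⟩

end kS

end Groth.Agent.Lib.Helper49.FieldFam
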