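import Mathlib

set_option autoImplicit false
set_option linter.style.haveILetI false
set_option linter.unusedSectionVars false
universe u

namespace Groth.Agent.Lib.Helper49.PSFam

open MvPowerSeries

section Exp

variable {σ : Type*}

noncomputable def mmod (p : ℕ) (m : σ →₀ ℕ) : σ →₀ ℕ := m.mapRange (· % p) (Nat.zero_mod p)

noncomputable def mdiv (p : ℕ) (m : σ →₀ ℕ) : σ →₀ ℕ := m.mapRange (· / p) (Nat.zero_div p)

theorem mmod_apply (p : ℕ) (m : σ →₀ ℕ) (i : σ) : mmod p m i = m i % p := by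
  simp [mmod]

theorem mdiv_apply (p : ℕ) (m : σ →₀ ℕ) (i : σ) : mdiv p m i = m i / p := by
  simp [mdiv]

theorem mmod_add_mdiv (p : ℕ) (m : σ →₀ ℕ) : mmod p m + p • mdiv p m = m := by
  ext i
  simp [mmod_apply, mdiv_apply, Nat.mod_add_div]

theorem mmod_lt {p : ℕ} (hp : 0 < p) (m : σ →₀ ℕ) (i : σ) : mmod p m i < p := by
  rw [mmod_apply]
  exact Nat.mod_lt _ hp

theorem mmod_le (p : ℕ) (m : σ →₀ ℕ) : mmod p m ≤ m := by
  intro i
  rw [mmod_apply]
  exact Nat.mod_le _ _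

theorem sub_mmod (p : ℕ) (m : σ →₀ ℕ) : m - mmod p m = p • mdiv p m := by
  have h := add_tsub_cancel_left (mmod p m) (p • mdiv p m)
  rwa [mmod_add_mdiv] at h

theorem smul_mdiv_of_dvd {p : ℕ} {m : σ →₀ ℕ} (h : ∀ i, p ∣ m i) : p • mdiv p m = m := by
  ext i
  simp only [Finsupp.smul_apply, mdiv_apply, smul_eq_mul]
  exact Nat.mul_div_cancel' (h i)

theorem eq_mmod_of {p : ℕ} {ε m : σ →₀ ℕ} (hε : ∀ i, ε i < p) (hle : ε ≤ m)
    (hdvd : ∀ i, p ∣ (m - ε) i) : ε = mmod p m := by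
  ext i
  rw [mmod_apply]
  obtain ⟨q, hq⟩ := hdvd i
  rw [Finsupp.tsub_apply] at hq
  have h1 : m i = ε i + p * q := by
    have := hle i
    omega
  rw [h1, Nat.add_mul_mod_self_left, Nat.mod_eq_of_lt (hε i)]

theorem mmod_smul_add {p : ℕ} (n ε : σ →₀ ℕ) (hε : ∀ i, ε i < p) : mmod p (p • n + ε) = ε := by
  ext i
  rw [mmod_apply, Finsupp.add_apply, Finsupp.smul_apply, smul_eq_mul, Nat.mul_add_mod,
    Nat.mod_eq_of_lt (hε i)]

theorem dvd_smul_apply (p : ℕ) (n : σ →₀ ℕ) (i : σ) : p ∣ (p • n) i := by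
  rw [Finsupp.smul_apply, smul_eq_mul]
  exact dvd_mul_right _ _

end Exp

section Main

variable (p : ℕ) [hp : Fact p.Prime] {k : Type u} [Field k] {σ : Type*}

abbrev IsF (F : Subfield k) (f : MvPowerSeries σ k) : Prop :=
  ∀ m : σ →₀ ℕ, coeff m f ∈ F ∧ ((∃ i, ¬ p ∣ m i) → coeff m f = 0)

noncomputable def PhiF (F : Subfield k) : MvPowerSeries σ F →+* MvPowerSeries σ k :=
  ((expand p hp.out.ne_zero : MvPowerSeries σ k →ₐ[k] MvPowerSeries σ k) : _ →+* _).comp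
    (MvPowerSeries.map F.subtype)

theorem coeff_PhiF_smul (F : Subfield k) (g : MvPowerSeries σ F) (n : σ →₀ ℕ) :
    coeff (p • n) (PhiF p F g) = ((coeff n g : ↥F) : k) := by
  show coeff (p • n) (expand p hp.out.ne_zero (MvPowerSeries.map F.subtype g)) = _
  rw [coeff_expand_smul, coeff_map]
  rfl

theorem coeff_PhiF_of_not_dvd (F : Subfield k) (g : MvPowerSeries σ F) {m : σ →₀ ℕ} {i : σ}
    (h : ¬ p ∣ m i) : coeff m (PhiF p F g) = 0 :=
  coeff_expand_of_not_dvd p hp.out.ne_zero _ h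

theorem PhiF_injective (F : Subfield k) : Function.Injective (PhiF p F (σ := σ)) := by
  intro g g' h
  ext n
  have := congrArg (coeff (p • n)) h
  rw [coeff_PhiF_smul, coeff_PhiF_smul] at this
  exact this


noncomputable def RF (F : Subfield k) : Subring (MvPowerSeries σ k) := (PhiF p F).range

theorem mem_RF_iff (F : Subfield k) (f : MvPowerSeries σ k) : f ∈ RF p F ↔ IsF p F f := by
  constructor
  · rintro ⟨g, rfl⟩ m
    by_cases hm : ∃ i, ¬ p ∣ m i
    · obtain ⟨i, hi⟩ := hm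
      rw [coeff_PhiF_of_not_dvd p F g hi]
      exact ⟨zero_mem _, fun _ => rfl⟩
    · push Not at hm
      refine ⟨?_, fun h => absurd h (by push Not; exact hm)⟩
      rw [← smul_mdiv_of_dvd hm, coeff_PhiF_smul]
      exact (coeff (mdiv p m) g).2
  · intro hf
    let g : MvPowerSeries σ F := fun n => ⟨coeff (p • n) f, (hf (p • n)).1⟩
    have hg : ∀ n, ((coeff n g : ↥F) : k) = coeff (p • n) f := fun n => rfl
    refine ⟨g, ?_⟩
    ext m
    by_cases hm : ∃ i, ¬ p ∣ m i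
    · obtain ⟨i, hi⟩ := hm
      rw [coeff_PhiF_of_not_dvd p F _ hi, (hf m).2 ⟨i, hi⟩]
    · push Not at hm
      rw [← smul_mdiv_of_dvd hm, coeff_PhiF_smul, hg]

theorem RF_mono {F F' : Subfield k} (h : F ≤ F') : RF p F (σ := σ) ≤ RF p F' := by
  intro f hf
  rw [mem_RF_iff] at hf ⊢
  exact fun m => ⟨h (hf m).1, (hf m).2⟩

end Main

end Groth.Agent.Lib.Helper49.PSFam
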