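import Mathlib
import Groth.Agent.Lib.Helper49.PSFam1

set_option autoImplicit false
set_option linter.style.haveILetI false
set_option linter.unusedSectionVars false
universe u

namespace Groth.Agent.Lib.Helper49.PSFam

open MvPowerSeries

abbrev Ex (p : ℕ) (σ : Type*) := {ε : σ →₀ ℕ // ∀ i, ε i < p}

theorem finite_Ex (p : ℕ) (σ : Type*) [Finite σ] : Finite (Ex p σ) := by
  let f : Ex p σ → (σ → Fin p) := fun e i => ⟨e.1 i, e.2 i⟩
  have hf : Function.Injective f := by
    intro e e' h
    apply Subtype.ext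
    ext i
    have := congrFun h i
    exact congrArg Fin.val this
  exact Finite.of_injective f hf

section Basis

variable (p : ℕ) [hp : Fact p.Prime] {k : Type u} [Field k] {σ : Type*}
  (F : Subfield k) {𝒜 : Type*} [Fintype 𝒜] (β : Module.Basis 𝒜 F k)

open Classical in
noncomputable def comp (f : MvPowerSeries σ k) (a : 𝒜) (ε : σ →₀ ℕ) : MvPowerSeries σ k :=
  fun m => if (∀ i, p ∣ m i) then ((β.repr (coeff (m + ε) f) a : ↥F) : k) else 0

open Classical in
theorem coeff_comp (f : MvPowerSeries σ k) (a : 𝒜) (ε m : σ →₀ ℕ) :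
    coeff m (comp p F β f a ε) =
      if (∀ i, p ∣ m i) then ((β.repr (coeff (m + ε) f) a : ↥F) : k) else 0 := rfl

theorem isF_comp (f : MvPowerSeries σ k) (a : 𝒜) (ε : σ →₀ ℕ) : IsF p F (comp p F β f a ε) := by
  classical
  intro m
  rw [coeff_comp]
  constructor
  · split_ifs
    · exact SetLike.coe_mem _
    · exact zero_mem _
  · rintro ⟨i, hi⟩
    rw [if_neg]
    push Not
    exact ⟨i, hi⟩

theorem sum_repr_mul (x : k) : ∑ a, ((β.repr x a : ↥F) : k) * β a = x := by
  conv_rhs => rw [← β.sum_repr x]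
  rfl

variable [Fintype (Ex p σ)]

theorem decomp (f : MvPowerSeries σ k) :
    f = ∑ x : 𝒜 × Ex p σ, comp p F β f x.1 x.2.1 * monomial x.2.1 (β x.1) := by
  classical
  ext m
  rw [map_sum, Fintype.sum_prod_type, Finset.sum_comm]
  simp_rw [coeff_mul_monomial]
  rw [Finset.sum_eq_single (⟨mmod p m, mmod_lt hp.out.pos m⟩ : Ex p σ)]
  · simp only
    rw [← sum_repr_mul F β (coeff m f)]
    refine Finset.sum_congr rfl fun a _ => ?_
    rw [if_pos (mmod_le p m), coeff_comp, if_pos, tsub_add_cancel_of_le (mmod_le p m)]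
    intro i
    rw [sub_mmod]
    exact dvd_smul_apply p _ i
  · intro ε _ hε
    refine Finset.sum_eq_zero fun a _ => ?_
    split_ifs with hle
    · rw [coeff_comp, if_neg, zero_mul]
      intro hdvd
      exact hε (Subtype.ext (eq_mmod_of ε.2 hle hdvd))
    · rfl
  · intro h
    exact absurd (Finset.mem_univ _) h

theorem eq_zero_of_sum_eq_zero (g : 𝒜 × Ex p σ → MvPowerSeries σ k) (hg : ∀ x, IsF p F (g x))
    (h : ∑ x : 𝒜 × Ex p σ, g x * monomial x.2.1 (β x.1) = 0) : ∀ x, g x = 0 := by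
  classical
  rintro ⟨a₀, ε₀⟩
  ext m
  rw [map_zero]
  by_cases hm : ∃ i, ¬ p ∣ m i
  · exact (hg _ m).2 hm
  · push Not at hm
    rw [← smul_mdiv_of_dvd hm]
    set n := mdiv p m with hn
    have h1 := congrArg (coeff (p • n + ε₀.1)) h
    rw [map_sum, map_zero, Fintype.sum_prod_type, Finset.sum_comm] at h1
    simp_rw [coeff_mul_monomial] at h1
    rw [Finset.sum_eq_single ε₀] at h1
    · have hle : ε₀.1 ≤ p • n + ε₀.1 := le_add_self
      simp_rw [if_pos hle, add_tsub_cancel_right] at h1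
      let c : 𝒜 → F := fun a => ⟨coeff (p • n) (g (a, ε₀)), (hg _ _).1⟩
      have h2 : ∑ a, c a • β a = 0 := h1
      exact congrArg Subtype.val (Fintype.linearIndependent_iff.mp β.linearIndependent c h2 a₀)
    · intro ε _ hε
      refine Finset.sum_eq_zero fun a _ => ?_
      split_ifs with hle
      · by_cases hdvd : ∀ i, p ∣ (p • n + ε₀.1 - ε.1) i
        · exfalso
          apply hε
          apply Subtype.ext
          rw [eq_mmod_of ε.2 hle hdvd, mmod_smul_add n ε₀.1 ε₀.2]
        · push Not at hdvd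
          rw [(hg _ _).2 hdvd, zero_mul]
      · rfl
    · intro h
      exact absurd (Finset.mem_univ _) h

theorem mem_RF_of_mul_mem (a₀ : 𝒜) (h₁ : β a₀ = 1) {b a h : MvPowerSeries σ k}
    (hb : b ∈ RF p F) (hb0 : b ≠ 0) (ha : a ∈ RF p F) (hbh : b * h = a) : h ∈ RF p F := by
  classical
  let x₀ : 𝒜 × Ex p σ := (a₀, ⟨0, fun _ => hp.out.pos⟩)
  have hμ₀ : monomial x₀.2.1 (β x₀.1) = (1 : MvPowerSeries σ k) := by
    show monomial 0 (β a₀) = 1
    rw [h₁]
    rfl
  let g : 𝒜 × Ex p σ → MvPowerSeries σ k := fun x =>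
    b * comp p F β h x.1 x.2.1 - if x = x₀ then a else 0
  have hg : ∀ x, IsF p F (g x) := by
    intro x
    rw [← mem_RF_iff]
    refine Subring.sub_mem _ (Subring.mul_mem _ hb ((mem_RF_iff p F _).mpr (isF_comp p F β h _ _))) ?_
    split_ifs
    · exact ha
    · exact Subring.zero_mem _
  have hsum : ∑ x : 𝒜 × Ex p σ, g x * monomial x.2.1 (β x.1) = 0 := by
    simp only [g, sub_mul, mul_assoc]
    rw [Finset.sum_sub_distrib, ← Finset.mul_sum, ← decomp p F β h, hbh,
      Finset.sum_eq_single x₀]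
    · rw [if_pos rfl, hμ₀, mul_one, sub_self]
    · intro x _ hx
      rw [if_neg hx, zero_mul]
    · intro h
      exact absurd (Finset.mem_univ _) h
  have hz := eq_zero_of_sum_eq_zero p F β g hg hsum
  have hc : ∀ x, x ≠ x₀ → comp p F β h x.1 x.2.1 = 0 := by
    intro x hx
    have := hz x
    simp only [g, if_neg hx, sub_zero] at this
    exact (mul_eq_zero.mp this).resolve_left hb0
  have hh : h = comp p F β h x₀.1 x₀.2.1 := by
    conv_lhs => rw [decomp p F β h]
    rw [Finset.sum_eq_single x₀]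
    · rw [hμ₀, mul_one]
    · intro x _ hx
      rw [hc x hx, zero_mul]
    · intro h
      exact absurd (Finset.mem_univ _) h
  rw [hh, mem_RF_iff]
  exact isF_comp p F β h _ _

end Basis

end Groth.Agent.Lib.Helper49.PSFam
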