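import Mathlib
import Groth.Agent.Lib.Helper49.PSFam2

set_option autoImplicit false
set_option linter.style.haveILetI false
set_option linter.unusedSectionVars false
universe u

namespace Groth.Agent.Lib.Helper49.PSFam

open MvPowerSeries

section Frac

variable (p : ℕ) [hp : Fact p.Prime] {k : Type u} [Field k] (σ : Type*)
  (K₀ : Type*) [Field K₀] [Algebra (MvPowerSeries σ k) K₀] [IsFractionRing (MvPowerSeries σ k) K₀]

noncomputable def KF (F : Subfield k) : Subfield K₀ :=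
  Subfield.closure (algebraMap (MvPowerSeries σ k) K₀ ''
    ((RF p F : Subring (MvPowerSeries σ k)) : Set (MvPowerSeries σ k)))

theorem algebraMap_mem_KF (F : Subfield k) {f : MvPowerSeries σ k} (hf : f ∈ RF p F) :
    algebraMap (MvPowerSeries σ k) K₀ f ∈ KF p σ K₀ F :=
  Subfield.subset_closure ⟨f, hf, rfl⟩

theorem KF_mono {F F' : Subfield k} (h : F ≤ F') : KF p σ K₀ F ≤ KF p σ K₀ F' :=
  Subfield.closure_mono (Set.image_mono (RF_mono p h))

theorem frac_repr (F : Subfield k) (x : K₀) (hx : x ∈ KF p σ K₀ F) :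
    ∃ a b : MvPowerSeries σ k, a ∈ RF p F ∧ b ∈ RF p F ∧ b ≠ 0 ∧
      x * algebraMap _ K₀ b = algebraMap _ K₀ a := by
  have hinj := IsFractionRing.injective (MvPowerSeries σ k) K₀
  induction hx using Subfield.closure_induction with
  | mem x hx =>
    obtain ⟨r, hr, rfl⟩ := hx
    exact ⟨r, 1, hr, Subring.one_mem _, one_ne_zero, by rw [map_one, mul_one]⟩
  | one => exact ⟨1, 1, Subring.one_mem _, Subring.one_mem _, one_ne_zero, by rw [map_one, mul_one]⟩
  | add x y _ _ hx hy =>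
    obtain ⟨a, b, ha, hb, hb0, hab⟩ := hx
    obtain ⟨c, d, hc, hd, hd0, hcd⟩ := hy
    refine ⟨a * d + c * b, b * d, Subring.add_mem _ (Subring.mul_mem _ ha hd)
      (Subring.mul_mem _ hc hb), Subring.mul_mem _ hb hd, mul_ne_zero hb0 hd0, ?_⟩
    rw [map_mul, map_add, map_mul, map_mul, ← hab, ← hcd]
    ring
  | neg x _ hx =>
    obtain ⟨a, b, ha, hb, hb0, hab⟩ := hx
    exact ⟨-a, b, Subring.neg_mem _ ha, hb, hb0, by rw [map_neg, ← hab, neg_mul]⟩
  | inv x _ hx =>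
    obtain ⟨a, b, ha, hb, hb0, hab⟩ := hx
    by_cases ha0 : a = 0
    · have hx0 : x = 0 := by
        rw [ha0, map_zero] at hab
        rcases mul_eq_zero.mp hab with h | h
        · exact h
        · exact absurd ((map_eq_zero_iff _ hinj).mp h) hb0
      refine ⟨0, 1, Subring.zero_mem _, Subring.one_mem _, one_ne_zero, ?_⟩
      rw [hx0, inv_zero, zero_mul, map_zero]
    · refine ⟨b, a, hb, ha, ha0, ?_⟩
      have hx0 : x ≠ 0 := by
        rintro rfl
        rw [zero_mul] at hab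
        exact ha0 ((map_eq_zero_iff _ hinj).mp hab.symm)
      rw [← hab, ← mul_assoc, inv_mul_cancel₀ hx0, one_mul]
  | mul x y _ _ hx hy =>
    obtain ⟨a, b, ha, hb, hb0, hab⟩ := hx
    obtain ⟨c, d, hc, hd, hd0, hcd⟩ := hy
    refine ⟨a * c, b * d, Subring.mul_mem _ ha hc, Subring.mul_mem _ hb hd,
      mul_ne_zero hb0 hd0, ?_⟩
    rw [map_mul, map_mul, ← hab, ← hcd]
    ring

theorem mem_RF_of_algebraMap_mem_KF (F : Subfield k) {𝒜 : Type*} [Fintype 𝒜]
    (β : Module.Basis 𝒜 F k) (a₀ : 𝒜) (h₁ : β a₀ = 1) [Fintype (Ex p σ)]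
    (h : MvPowerSeries σ k) (hh : algebraMap _ K₀ h ∈ KF p σ K₀ F) : h ∈ RF p F := by
  obtain ⟨a, b, ha, hb, hb0, hab⟩ := frac_repr p σ K₀ F _ hh
  rw [← map_mul] at hab
  have := IsFractionRing.injective (MvPowerSeries σ k) K₀ hab
  rw [mul_comm] at this
  exact mem_RF_of_mul_mem p F β a₀ h₁ hb hb0 ha this

variable [CharP k p]

theorem isF_pow (F : Subfield k) (hF : ∀ y : k, y ^ p ∈ F) (g : MvPowerSeries σ k) :
    IsF p F (g ^ p) := by
  haveI : ExpChar k p := ExpChar.prime hp.out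
  intro m
  rw [← map_frobenius_expand p hp.out.ne_zero, coeff_map]
  constructor
  · exact hF _
  · rintro ⟨i, hi⟩
    rw [coeff_expand_of_not_dvd p hp.out.ne_zero _ hi, map_zero]

theorem exists_pow_eq (f : MvPowerSeries σ k)
    (hf : ∀ m : σ →₀ ℕ, (∃ y : k, y ^ p = coeff m f) ∧ ((∃ i, ¬ p ∣ m i) → coeff m f = 0)) :
    ∃ g : MvPowerSeries σ k, g ^ p = f := by
  haveI : ExpChar k p := ExpChar.prime hp.out
  choose c hc using fun m => (hf m).1
  let g : MvPowerSeries σ k := fun n => c (p • n)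
  have hg : ∀ n, coeff n g = c (p • n) := fun n => rfl
  refine ⟨g, ?_⟩
  ext m
  rw [← map_frobenius_expand p hp.out.ne_zero, coeff_map]
  by_cases hm : ∃ i, ¬ p ∣ m i
  · obtain ⟨i, hi⟩ := hm
    rw [coeff_expand_of_not_dvd p hp.out.ne_zero _ hi, map_zero, (hf m).2 ⟨i, hi⟩]
  · push Not at hm
    rw [← smul_mdiv_of_dvd hm, coeff_expand_smul, hg, frobenius_def, hc]

theorem exists_pow_of_forall_mem {ι : Type*} [Nonempty ι] (F : ι → Subfield k)
    (hpow : ∀ i (y : k), y ^ p ∈ F i)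
    (hinf : ∀ c : k, (∀ i, c ∈ F i) → ∃ y, y ^ p = c)
    (hbasis : ∀ i, ∃ (𝒜 : Type u) (_ : Fintype 𝒜) (β : Module.Basis 𝒜 (F i) k) (a₀ : 𝒜),
      β a₀ = 1) [Fintype (Ex p σ)]
    (x : K₀) (hx : ∀ i, x ∈ KF p σ K₀ (F i)) : ∃ y : K₀, y ^ p = x := by
  obtain ⟨f, g, hg, rfl⟩ := IsFractionRing.div_surjective (A := MvPowerSeries σ k) x
  have hg0 : g ≠ 0 := nonZeroDivisors.ne_zero hg
  have hg0' : algebraMap (MvPowerSeries σ k) K₀ g ≠ 0 := by
    rw [Ne, map_eq_zero_iff _ (IsFractionRing.injective (MvPowerSeries σ k) K₀)]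
    exact hg0
  have hp1 : p - 1 + 1 = p := Nat.sub_add_cancel hp.out.pos
  have hh : ∀ i, f * g ^ (p - 1) ∈ RF p (F i) := by
    intro i
    obtain ⟨𝒜, _, β, a₀, h₁⟩ := hbasis i
    apply mem_RF_of_algebraMap_mem_KF p σ K₀ (F i) β a₀ h₁
    have h1 : algebraMap (MvPowerSeries σ k) K₀ (f * g ^ (p - 1)) =
        (algebraMap _ K₀ f / algebraMap _ K₀ g) * algebraMap _ K₀ (g ^ p) := by
      have h2 : algebraMap (MvPowerSeries σ k) K₀ g ^ p =
          algebraMap (MvPowerSeries σ k) K₀ g ^ (p - 1) * algebraMap (MvPowerSeries σ k) K₀ g := by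
        rw [← pow_succ, hp1]
      rw [map_mul, map_pow, map_pow, h2]
      field_simp
    rw [h1]
    exact (KF p σ K₀ (F i)).mul_mem (hx i)
      (algebraMap_mem_KF p σ K₀ (F i) ((mem_RF_iff p (F i) _).mpr (isF_pow p σ (F i) (hpow i) g)))
  have hcoef : ∀ m : σ →₀ ℕ, (∃ y : k, y ^ p = coeff m (f * g ^ (p - 1))) ∧
      ((∃ i, ¬ p ∣ m i) → coeff m (f * g ^ (p - 1)) = 0) := by
    intro m
    constructor
    · apply hinf
      intro i
      exact ((mem_RF_iff p (F i) _).mp (hh i) m).1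
    · intro hm
      obtain ⟨i⟩ := ‹Nonempty ι›
      exact ((mem_RF_iff p (F i) _).mp (hh i) m).2 hm
  obtain ⟨t, ht⟩ := exists_pow_eq p σ _ hcoef
  refine ⟨algebraMap _ K₀ t / algebraMap _ K₀ g, ?_⟩
  have h2 : algebraMap (MvPowerSeries σ k) K₀ g ^ p =
      algebraMap (MvPowerSeries σ k) K₀ g ^ (p - 1) * algebraMap (MvPowerSeries σ k) K₀ g := by
    rw [← pow_succ, hp1]
  rw [div_pow, ← map_pow, ht, map_mul, map_pow, h2]
  field_simp

end Frac

end Groth.Agent.Lib.Helper49.PSFam
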