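import Mathlib
import Groth.Agent.Lib.Helper49.PSFam3

set_option autoImplicit false
set_option linter.style.haveILetI false
set_option linter.unusedSectionVars false
universe u

namespace Groth.Agent.Lib.Helper49.PSFam

open MvPowerSeries

section MapD

variable {k : Type u} [Field k] {σ : Type*}

noncomputable def mapDFun (δ : Derivation ℤ k k) (f : MvPowerSeries σ k) : MvPowerSeries σ k :=
  fun n => δ (coeff n f)

theorem coeff_mapDFun (δ : Derivation ℤ k k) (f : MvPowerSeries σ k) (n : σ →₀ ℕ) :
    coeff n (mapDFun δ f) = δ (coeff n f) := rfl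

noncomputable def mapD (δ : Derivation ℤ k k) :
    Derivation ℤ (MvPowerSeries σ k) (MvPowerSeries σ k) :=
  Derivation.mk'
    ({ toFun := mapDFun δ
       map_zero' := by
        ext n
        rw [coeff_mapDFun, map_zero, map_zero]
       map_add' := fun f g => by
        ext n
        rw [coeff_mapDFun, map_add, map_add, map_add, coeff_mapDFun, coeff_mapDFun] } :
      MvPowerSeries σ k →+ MvPowerSeries σ k).toIntLinearMap
    (fun f g => by
      classical
      ext n
      show coeff n (mapDFun δ (f * g)) = coeff n (f • mapDFun δ g + g • mapDFun δ f)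
      rw [coeff_mapDFun, map_add, smul_eq_mul, smul_eq_mul, mul_comm g, coeff_mul, coeff_mul,
        coeff_mul, map_sum, ← Finset.sum_add_distrib]
      refine Finset.sum_congr rfl fun x _ => ?_
      rw [Derivation.leibniz, coeff_mapDFun, coeff_mapDFun, smul_eq_mul, smul_eq_mul]
      ring)

theorem coeff_mapD (δ : Derivation ℤ k k) (f : MvPowerSeries σ k) (n : σ →₀ ℕ) :
    coeff n (mapD δ f) = δ (coeff n f) := rfl

theorem mapD_C (δ : Derivation ℤ k k) (c : k) :
    mapD δ (C c : MvPowerSeries σ k) = C (δ c) := by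
  classical
  ext n
  rw [coeff_mapD, coeff_C, coeff_C]
  split_ifs
  · rfl
  · rw [map_zero]

theorem mapD_X (δ : Derivation ℤ k k) (i : σ) : mapD δ (X i : MvPowerSeries σ k) = 0 := by
  classical
  ext n
  rw [coeff_mapD, coeff_X, map_zero]
  split_ifs
  · exact Derivation.map_one_eq_zero δ
  · rw [map_zero]

variable (p : ℕ) [hp : Fact p.Prime]

theorem mapD_eq_zero_of_mem_RF (δ : Derivation ℤ k k) (F : Subfield k) (hδ : ∀ x ∈ F, δ x = 0)
    (f : MvPowerSeries σ k) (hf : f ∈ RF p F) : mapD δ f = 0 := by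
  rw [mem_RF_iff] at hf
  ext n
  rw [coeff_mapD, map_zero]
  exact hδ _ (hf n).1

theorem pderiv_eq_zero_of_mem_RF [CharP k p] (i : σ) (F : Subfield k)
    (f : MvPowerSeries σ k) (hf : f ∈ RF p F) : pderiv k i f = 0 := by
  rw [mem_RF_iff] at hf
  ext n
  rw [coeff_pderiv, map_zero]
  by_cases h : p ∣ n i + 1
  · have : ((n i : k) + 1) = ((n i + 1 : ℕ) : k) := by push_cast; rfl
    rw [this, (CharP.cast_eq_zero_iff k p _).mpr h, mul_zero]
  · rw [(hf _).2 ⟨i, by simpa using h⟩, zero_mul]

end MapD

end Groth.Agent.Lib.Helper49.PSFam
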