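import Mathlib
import Groth.Agent.Lib.Helper49.PSFam4
import Groth.Agent.Lib.Helper49.FieldFam
import Groth.Agent.Lib.Helper49.FamCrit
import Groth.Agent.Lib.Helper49.DerExt2

set_option autoImplicit false
set_option linter.style.haveILetI false
set_option linter.unusedSectionVars false
universe u

namespace Groth.Agent.Lib.Helper49.PSFam

open MvPowerSeries

section Closure

variable (p : ℕ) [hp : Fact p.Prime] {k : Type u} [Field k] (σ : Type*)
  (K₀ : Type*) [Field K₀] [Algebra (MvPowerSeries σ k) K₀] [IsFractionRing (MvPowerSeries σ k) K₀]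

theorem algebraMap_monomial_one_mem (L : Subfield K₀)
    (hX : ∀ i, algebraMap _ K₀ (X i : MvPowerSeries σ k) ∈ L) (ε : σ →₀ ℕ) :
    algebraMap (MvPowerSeries σ k) K₀ (monomial ε (1 : k)) ∈ L := by
  classical
  induction ε using Finsupp.induction with
  | zero =>
    rw [monomial_zero_one, map_one]
    exact L.one_mem
  | single_add a b f _ _ ih =>
    have : monomial (Finsupp.single a b + f) (1 : k) = (X a) ^ b * monomial f 1 := by
      rw [X_pow_eq, monomial_mul_monomial, one_mul]
    rw [this, map_mul, map_pow]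
    exact L.mul_mem (L.pow_mem (hX a) b) ih

theorem closure_eq_top (F : Subfield k) {𝒜 : Type*} [Fintype 𝒜] (β : Module.Basis 𝒜 F k)
    [Fintype (Ex p σ)] (L : Subfield K₀) (hKF : KF p σ K₀ F ≤ L)
    (hX : ∀ i, algebraMap _ K₀ (X i : MvPowerSeries σ k) ∈ L)
    (hC : ∀ c : k, algebraMap _ K₀ (C c : MvPowerSeries σ k) ∈ L) : L = ⊤ := by
  have hf : ∀ f : MvPowerSeries σ k, algebraMap _ K₀ f ∈ L := by
    intro f
    rw [decomp p F β f, map_sum]
    refine L.sum_mem fun x _ => ?_
    rw [map_mul]
    refine L.mul_mem (hKF (algebraMap_mem_KF p σ K₀ F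
      ((mem_RF_iff p F _).mpr (isF_comp p F β f _ _)))) ?_
    have : monomial x.2.1 (β x.1) = C (β x.1) * monomial x.2.1 (1 : k) := by
      rw [← monomial_zero_eq_C_apply, monomial_mul_monomial, zero_add, mul_one]
    rw [this, map_mul]
    exact L.mul_mem (hC _) (algebraMap_monomial_one_mem σ K₀ L hX _)
  rw [eq_top_iff]
  intro x _
  obtain ⟨f, g, hg, rfl⟩ := IsFractionRing.div_surjective (A := MvPowerSeries σ k) x
  exact L.div_mem (hf f) (hf g)

theorem C_mem_RF (F : Subfield k) (c : k) (hc : c ∈ F) : (C c : MvPowerSeries σ k) ∈ RF p F := by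
  classical
  rw [mem_RF_iff]
  intro m
  rw [coeff_C]
  constructor
  · split_ifs
    · exact hc
    · exact zero_mem _
  · rintro ⟨i, hi⟩
    rw [if_neg]
    rintro rfl
    exact hi (by simp)

theorem pow_mem_KF [CharP k p] (F : Subfield k) (hF : ∀ y : k, y ^ p ∈ F) (x : K₀) :
    x ^ p ∈ KF p σ K₀ F := by
  obtain ⟨f, g, hg, rfl⟩ := IsFractionRing.div_surjective (A := MvPowerSeries σ k) x
  rw [div_pow, ← map_pow, ← map_pow]
  exact (KF p σ K₀ F).div_mem
    (algebraMap_mem_KF p σ K₀ F ((mem_RF_iff p F _).mpr (isF_pow p σ F hF f)))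
    (algebraMap_mem_KF p σ K₀ F ((mem_RF_iff p F _).mpr (isF_pow p σ F hF g)))

end Closure

noncomputable def ofLeibniz {A : Type*} [CommRing A] (D : A →+ A)
    (h : ∀ x y, D (x * y) = x * D y + y * D x) : Derivation ℤ A A :=
  Derivation.mk' D.toIntLinearMap (fun x y => by
    show D (x * y) = x • D y + y • D x
    rw [h, smul_eq_mul, smul_eq_mul])

theorem ofLeibniz_apply {A : Type*} [CommRing A] (D : A →+ A)
    (h : ∀ x y, D (x * y) = x * D y + y * D x) (x : A) : ofLeibniz D h x = D x := rfl

section Hp

open IsLocalRing Groth.Agent.Lib.Helper49.FieldFam Groth.Agent.Lib.Helper49.DerExt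

variable {k : Type u} [Field k] (n : ℕ)
  (K : Type u) [Field K] [Algebra (MvPowerSeries (Fin n) k) K]
  [IsFractionRing (MvPowerSeries (Fin n) k) K]
  (E : Type u) [CommRing E] [IsLocalRing E] [Algebra K E]

theorem Hp_injective (p : ℕ) [hp : Fact p.Prime] [CharP k p]
    (hext : ∀ D : MvPowerSeries (Fin n) k →+ MvPowerSeries (Fin n) k,
      (∀ x y, D (x * y) = x * D y + y * D x) →
      ∃ D' : Derivation ℤ E E, ∀ f, D' (algebraMap K E (algebraMap _ K f)) =
        algebraMap K E (algebraMap _ K (D f))) :
    Function.Injective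
      ((KaehlerDifferential.mapBaseChange ℤ K E).lTensor (ResidueField E)) := by
  classical
  have hinj := IsFractionRing.injective (MvPowerSeries (Fin n) k) K
  haveI : CharP K p := charP_of_injective_ringHom
    (f := (algebraMap (MvPowerSeries (Fin n) k) K).comp (C : k →+* MvPowerSeries (Fin n) k))
    (RingHom.injective _) p
  obtain ⟨Γ, δ, hδ, hgen, hinf⟩ := exists_gamma p k
  haveI : Fintype (Ex p (Fin n)) := @Fintype.ofFinite _ (finite_Ex p (Fin n))
  apply Groth.Agent.Lib.Helper49.FamCrit.injective_of_family p (ι := Finset Γ)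
    (fun S => KF p (Fin n) K (kS p Γ S))
  · intro S S' h
    exact KF_mono p (Fin n) K (kS_antitone p Γ h)
  · intro S y
    exact pow_mem_KF p (Fin n) K _ (pow_mem_kS p Γ S) y
  · intro x hx
    refine exists_pow_of_forall_mem p (Fin n) K (kS p Γ) (pow_mem_kS p Γ)
      (exists_pow_of_forall_mem_kS p Γ δ hδ hinf) ?_ x hx
    intro S
    haveI := finite_kS p Γ hgen S
    exact exists_basis_one
  · intro S
    let D₀ : (↥S ⊕ Fin n) → (MvPowerSeries (Fin n) k →+ MvPowerSeries (Fin n) k) :=
      Sum.elim (fun γ =>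
          { toFun := mapD (δ γ.1)
            map_zero' := map_zero _
            map_add' := map_add _ })
        (fun i =>
          { toFun := pderiv k i
            map_zero' := map_zero _
            map_add' := map_add _ })
    have hLeib : ∀ j x y, D₀ j (x * y) = x * D₀ j y + y * D₀ j x := by
      rintro (γ | i) x y
      · show mapD (δ γ.1) (x * y) = x * mapD (δ γ.1) y + y * mapD (δ γ.1) x
        rw [Derivation.leibniz, smul_eq_mul, smul_eq_mul]
      · show pderiv k i (x * y) = x * pderiv k i y + y * pderiv k i x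
        rw [Derivation.leibniz, smul_eq_mul, smul_eq_mul]
    let zR : (↥S ⊕ Fin n) → MvPowerSeries (Fin n) k :=
      Sum.elim (fun γ => C ((γ.1 : Γ) : k)) (fun i => X i)
    have hD₀z : ∀ j l, D₀ j (zR l) = if j = l then 1 else 0 := by
      rintro (γ | i) (γ' | i')
      · show mapD (δ γ.1) (C ((γ'.1 : Γ) : k)) = _
        rw [mapD_C, hδ]
        by_cases h : γ = γ'
        · rw [if_pos (congrArg Subtype.val h), if_pos (congrArg Sum.inl h), map_one]
        · rw [if_neg (fun h' => h (Subtype.ext h')), if_neg (fun h' => h (Sum.inl.inj h')),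
            map_zero]
      · show mapD (δ γ.1) (X i') = _
        rw [mapD_X, if_neg Sum.inl_ne_inr]
      · show pderiv k i (C ((γ'.1 : Γ) : k)) = _
        rw [pderiv_C, if_neg Sum.inr_ne_inl]
      · show pderiv k i (X i') = _
        by_cases h : i = i'
        · subst h
          rw [pderiv_X_self, if_pos rfl]
        · rw [pderiv_X_of_ne (fun h' => h h'.symm), if_neg (fun h' => h (Sum.inr.inj h'))]
    have hD₀RF : ∀ j, ∀ f ∈ RF p (kS p Γ S), D₀ j f = 0 := by
      rintro (γ | i) f hf
      · exact mapD_eq_zero_of_mem_RF p (δ γ.1) (kS p Γ S)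
          (der_kS_eq_zero p Γ δ hδ S γ.1 γ.2) f hf
      · exact pderiv_eq_zero_of_mem_RF p i (kS p Γ S) f hf
    choose DK hDK' using fun j => exists_derivation_localization K
      (nonZeroDivisors (MvPowerSeries (Fin n) k)) (ofLeibniz (D₀ j) (hLeib j))
    have hDK : ∀ j f, DK j (algebraMap _ K f) = algebraMap _ K (D₀ j f) := hDK'
    choose D' hD' using fun j => hext (D₀ j) (hLeib j)
    refine ⟨↥S ⊕ Fin n, inferInstance, inferInstance,
      fun j => algebraMap _ K (zR j), DK, D', ?_, ?_, ?_, ?_⟩
    · intro j x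
      have h := twisted_ext K (nonZeroDivisors (MvPowerSeries (Fin n) k)) (algebraMap K E)
        (((D' j : E →ₗ[ℤ] E).toAddMonoidHom).comp (algebraMap K E).toAddMonoidHom)
        ((algebraMap K E).toAddMonoidHom.comp ((DK j : K →ₗ[ℤ] K).toAddMonoidHom))
        (fun x y => by
          show D' j (algebraMap K E (x * y)) = algebraMap K E x * D' j (algebraMap K E y) +
            algebraMap K E y * D' j (algebraMap K E x)
          rw [map_mul, Derivation.leibniz, smul_eq_mul, smul_eq_mul])
        (fun x y => by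
          show algebraMap K E (DK j (x * y)) = algebraMap K E x * algebraMap K E (DK j y) +
            algebraMap K E y * algebraMap K E (DK j x)
          rw [Derivation.leibniz, map_add, smul_eq_mul, smul_eq_mul, map_mul, map_mul])
        (fun f => by
          show D' j (algebraMap K E (algebraMap _ K f)) = algebraMap K E (DK j (algebraMap _ K f))
          rw [hD', hDK])
      exact DFunLike.congr_fun h x
    · intro j x hx
      refine derivation_closure_eq_zero (DK j) _ ?_ x hx
      rintro _ ⟨f, hf, rfl⟩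
      rw [hDK, hD₀RF j f hf, map_zero]
    · intro j l
      rw [hDK, hD₀z]
      split_ifs
      · rw [map_one]
      · rw [map_zero]
    · haveI := finite_kS p Γ hgen S
      obtain ⟨𝒜, _, β, -, -⟩ := exists_basis_one (F := kS p Γ S)
      set L := Subfield.closure (((KF p (Fin n) K (kS p Γ S) : Subfield K) : Set K) ∪
        Set.range fun j => algebraMap _ K (zR j)) with hL
      have hKF : KF p (Fin n) K (kS p Γ S) ≤ L := fun x hx =>
        Subfield.subset_closure (Or.inl hx)
      have hz : ∀ j, algebraMap _ K (zR j) ∈ L := fun j =>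
        Subfield.subset_closure (Or.inr ⟨j, rfl⟩)
      refine closure_eq_top p (Fin n) K (kS p Γ S) β L hKF (fun i => hz (Sum.inr i)) ?_
      have hM : Subfield.comap ((algebraMap (MvPowerSeries (Fin n) k) K).comp
          (C : k →+* MvPowerSeries (Fin n) k)) L = ⊤ := by
        rw [eq_top_iff, ← closure_kS_union p Γ hgen S, Subfield.closure_le]
        rintro c (hc | ⟨γ, hγ, rfl⟩)
        · exact hKF (algebraMap_mem_KF p (Fin n) K _ (C_mem_RF p (Fin n) _ c hc))
        · exact hz (Sum.inl ⟨γ, hγ⟩)
      intro c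
      have : c ∈ Subfield.comap ((algebraMap (MvPowerSeries (Fin n) k) K).comp
          (C : k →+* MvPowerSeries (Fin n) k)) L := by
        rw [hM]
        trivial
      exact this

end Hp

end Groth.Agent.Lib.Helper49.PSFam
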