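import Mathlib
import Groth.Agent.Lib.Helper49.PSFam5
import Groth.Agent.Lib.Helper49.FormalFibre2
import Groth.Agent.Lib.Helper49.GeomRegFS7
import Groth.Agent.Lib.Helper49.FSJacobi2
import Groth.Agent.Lib.Helper49.FSRegular2
import Groth.Agent.Lib.Helper77.RegularLocalization
import Groth.Agent.Lib.Helper77.RegularCompletion
import Groth.Agent.S0543
import Groth.Agent.Lib.Helper56.FibreCM

set_option autoImplicit false
set_option linter.style.haveILetI false
set_option linter.unusedSectionVars false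
universe u

namespace Groth.Agent.Lib.Helper49.HpFibre

open TensorProduct IsLocalRing MvPowerSeries Groth.Agent.Lib.Helper49.PSFam
  Groth.Agent.Lib.Helper49.DerExt

theorem exists_leibniz_localization {A : Type*} [CommRing A] (A' : Type*) [CommRing A']
    [Algebra A A'] (M : Submonoid A) [IsLocalization M A'] (D : A →+ A)
    (hD : ∀ x y, D (x * y) = x * D y + y * D x) :
    ∃ D' : A' →+ A', (∀ x y, D' (x * y) = x * D' y + y * D' x) ∧
      ∀ a, D' (algebraMap A A' a) = algebraMap A A' (D a) := by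
  obtain ⟨D', hD'⟩ := exists_derivation_localization A' M (ofLeibniz D hD)
  refine ⟨{ toFun := D', map_zero' := map_zero D', map_add' := map_add D' }, fun x y => ?_, hD'⟩
  show D' (x * y) = x * D' y + y * D' x
  rw [Derivation.leibniz, smul_eq_mul, smul_eq_mul]

theorem exists_leibniz_completion {C : Type*} [CommRing C] (I : Ideal C) (D : C →+ C)
    (hD : ∀ x y, D (x * y) = x * D y + y * D x) :
    ∃ D' : AdicCompletion I C →+ AdicCompletion I C,
      (∀ x y, D' (x * y) = x * D' y + y * D' x) ∧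
      ∀ c, D' (algebraMap C (AdicCompletion I C) c) = algebraMap C (AdicCompletion I C) (D c) := by
  refine ⟨{ toFun := hat I (ofLeibniz D hD), map_zero' := map_zero _, map_add' := map_add _ },
    fun x y => ?_, fun c => hat_of I (ofLeibniz D hD) c⟩
  show hat I (ofLeibniz D hD) (x * y) = x * hat I (ofLeibniz D hD) y + y * hat I (ofLeibniz D hD) x
  rw [Derivation.leibniz, smul_eq_mul, smul_eq_mul]

attribute [local instance] Algebra.TensorProduct.rightAlgebra in
theorem ext_fiber {R₀ : Type u} [CommRing R₀] [IsDomain R₀] (Ah : Type u) [CommRing Ah]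
    [Algebra R₀ Ah] (D3 : Ah →+ Ah) (hD3L : ∀ x y, D3 (x * y) = x * D3 y + y * D3 x)
    (D : R₀ →+ R₀)
    (hD3 : ∀ f, D3 (algebraMap R₀ Ah f) = algebraMap R₀ Ah (D f))
    (𝔔 : Ideal ((⊥ : Ideal R₀).ResidueField ⊗[R₀] Ah)) [𝔔.IsPrime] :
    ∃ D' : Localization.AtPrime 𝔔 →+ Localization.AtPrime 𝔔,
      (∀ x y, D' (x * y) = x * D' y + y * D' x) ∧
      ∀ f, D' (algebraMap (⊥ : Ideal R₀).ResidueField (Localization.AtPrime 𝔔)
          (algebraMap R₀ (⊥ : Ideal R₀).ResidueField f)) =
        algebraMap (⊥ : Ideal R₀).ResidueField (Localization.AtPrime 𝔔)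
          (algebraMap R₀ (⊥ : Ideal R₀).ResidueField (D f)) := by
  haveI hloc := Groth.Agent.Lib.Helper67.RegLocus.isLocalization_generic_fiber R₀ Ah
  obtain ⟨D4, hD4L, hD4⟩ := exists_leibniz_localization (A := Ah)
    ((⊥ : Ideal R₀).ResidueField ⊗[R₀] Ah)
    (Algebra.algebraMapSubmonoid Ah (nonZeroDivisors R₀)) D3 hD3L
  obtain ⟨D5, hD5L, hD5⟩ := exists_leibniz_localization
    (A := (⊥ : Ideal R₀).ResidueField ⊗[R₀] Ah) (Localization.AtPrime 𝔔) 𝔔.primeCompl D4 hD4L
  have hcomp : ∀ f : R₀,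
      algebraMap (⊥ : Ideal R₀).ResidueField (Localization.AtPrime 𝔔)
        (algebraMap R₀ (⊥ : Ideal R₀).ResidueField f) =
      algebraMap ((⊥ : Ideal R₀).ResidueField ⊗[R₀] Ah) (Localization.AtPrime 𝔔)
        (algebraMap Ah ((⊥ : Ideal R₀).ResidueField ⊗[R₀] Ah) (algebraMap R₀ Ah f)) := by
    intro f
    rw [IsScalarTower.algebraMap_apply (⊥ : Ideal R₀).ResidueField
      ((⊥ : Ideal R₀).ResidueField ⊗[R₀] Ah) (Localization.AtPrime 𝔔)]
    congr 1
    rw [Algebra.TensorProduct.algebraMap_apply, Algebra.TensorProduct.right_algebraMap_apply]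
    show (algebraMap R₀ (⊥ : Ideal R₀).ResidueField f) ⊗ₜ[R₀] (1 : Ah) = _
    rw [Algebra.algebraMap_eq_smul_one, TensorProduct.smul_tmul, ← Algebra.algebraMap_eq_smul_one]
  refine ⟨D5, hD5L, fun f => ?_⟩
  rw [hcomp, hcomp, hD5, hD4, hD3]

attribute [local instance] Algebra.TensorProduct.rightAlgebra in
theorem isGeometricallyRegular_generic_fiber_cpl (p : ℕ) [hp : Fact p.Prime] (k : Type u)
    [Field k] [CharP k p] (n : ℕ) (p₀ : Ideal (MvPowerSeries (Fin n) k)) [p₀.IsPrime] :
    CAlg.IsGeometricallyRegular (⊥ : Ideal (MvPowerSeries (Fin n) k)).ResidueField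
      ((⊥ : Ideal (MvPowerSeries (Fin n) k)).Fiber
        (AdicCompletion (maximalIdeal (Localization.AtPrime p₀)) (Localization.AtPrime p₀))) := by
  classical
  haveI hR₀ : IsRegularLocalRing (MvPowerSeries (Fin n) k) :=
    Groth.Agent.Lib.Helper49.FSRegular.isRegularLocalRing_mvPowerSeries k n
  let Ap := Localization.AtPrime p₀
  haveI hApN : IsNoetherianRing Ap := IsLocalization.isNoetherianRing p₀.primeCompl _ inferInstance
  haveI hApR : IsRegularLocalRing Ap :=
    Groth.Agent.Lib.Helper77.RegularLocalization.localization_regular _ p₀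
  haveI hApRR : IsRegularRing Ap :=
    Groth.Agent.Lib.Helper77.RegularLocalization.isRegularRing_of_isRegularLocalRing Ap
  haveI hdom : IsDomain (MvPowerSeries (Fin n) k) := NoZeroDivisors.to_isDomain _
  let Ah := AdicCompletion (IsLocalRing.maximalIdeal Ap) Ap
  haveI hAhN : IsNoetherianRing Ah := Groth.Agent.S0543.result Ap _
  haveI hAhR : IsRegularRing Ah :=
    Groth.Agent.Lib.Helper77.RegularCompletion.isRegularRing_adicCompletion Ap (maximalIdeal Ap)
  let K := (⊥ : Ideal (MvPowerSeries (Fin n) k)).ResidueField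
  let Fib := K ⊗[MvPowerSeries (Fin n) k] Ah
  haveI hloc := Groth.Agent.Lib.Helper67.RegLocus.isLocalization_generic_fiber
    (MvPowerSeries (Fin n) k) Ah
  haveI hFibN : IsNoetherianRing Fib :=
    Groth.Agent.Lib.Helper56.isNoetherianRing_fiber (MvPowerSeries (Fin n) k) Ah ⊥
  haveI hFibR : IsRegularRing Fib :=
    Groth.Agent.Lib.Helper49.GeomRegFS.isRegularRing_of_isLocalization
      (Algebra.algebraMapSubmonoid Ah (nonZeroDivisors (MvPowerSeries (Fin n) k))) _
  apply Groth.Agent.Lib.Helper49.GeomRegFS.isGeometricallyRegular_of_localization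
  intro 𝔔 h𝔔
  let E := Localization.AtPrime 𝔔
  haveI hEN : IsNoetherianRing E := IsLocalization.isNoetherianRing 𝔔.primeCompl _ inferInstance
  have hEreg : IsRegularLocalRing E := (isRegularRing_iff.mp hFibR) 𝔔
  rw [Groth.Agent.Lib.Helper49.GeomRegFS.isGeometricallyRegular_iff_isAdicFormallySmooth,
    Groth.Agent.Lib.Helper49.FSJacobi.isAdicFormallySmooth_iff_regular_and_injective]
  refine ⟨hEreg, Hp_injective (k := k) n K E p ?_⟩
  intro D hD
  obtain ⟨D2, hD2L, hD2⟩ := exists_leibniz_localization (A := MvPowerSeries (Fin n) k) Ap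
    p₀.primeCompl D hD
  obtain ⟨D3, hD3L, hD3⟩ := exists_leibniz_completion (maximalIdeal Ap) D2 hD2L
  have hD3' : ∀ f, D3 (algebraMap (MvPowerSeries (Fin n) k) Ah f) =
      algebraMap (MvPowerSeries (Fin n) k) Ah (D f) := by
    intro f
    show D3 (algebraMap Ap Ah (algebraMap _ Ap f)) = algebraMap Ap Ah (algebraMap _ Ap (D f))
    rw [hD3, hD2]
  obtain ⟨D', hD'1, hD'2⟩ := ext_fiber Ah D3 hD3L D hD3' 𝔔
  exact ⟨ofLeibniz D' hD'1, hD'2⟩

end Groth.Agent.Lib.Helper49.HpFibre
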