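import Mathlib
import Groth.Agent.S2047

set_option autoImplicit false
set_option linter.style.haveILetI false
set_option linter.unusedSectionVars false
universe u

namespace Groth.Agent.Lib.Helper49.GRingLocal

open TensorProduct IsLocalRing Groth.Agent.Lib.Helper56

theorem isGRing_of_isRegularHom_cpl (A : Type u) [CommRing A] [IsLocalRing A] [IsNoetherianRing A]
    (h : CAlg.IsRegularHom A (AdicCompletion (maximalIdeal A) A)) : CAlg.IsGRing A := by
  refine ⟨inferInstance, fun p _ => ?_⟩
  haveI hCN : IsNoetherianRing (AdicCompletion (maximalIdeal A) A) := Groth.Agent.S0543.result _ _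
  haveI hCc : IsAdicComplete (maximalIdeal (AdicCompletion (maximalIdeal A) A))
      (AdicCompletion (maximalIdeal A) A) :=
    AdicCompletion.isAdicComplete_of_fg (IsNoetherian.noetherian _)
  have hG := Groth.Agent.S0598.result (AdicCompletion (maximalIdeal A) A)
  haveI := faithfullyFlat_cpl A
  obtain ⟨q, hqp, hqlo⟩ := Ideal.exists_isPrime_liesOver_of_faithfullyFlat
    (B := AdicCompletion (maximalIdeal A) A) p
  haveI := hqp
  haveI := hqlo
  letI := Localization.AtPrime.algebraOfLiesOver p q
  have hf := Groth.Agent.S2047.isRegularHom_localRingHom h p q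
  haveI : IsLocalHom (algebraMap (Localization.AtPrime p) (Localization.AtPrime q)) :=
    Localization.isLocalHom_localRingHom p q _ Ideal.LiesOver.over
  haveI hAN : IsNoetherianRing (Localization.AtPrime p) :=
    IsLocalization.isNoetherianRing p.primeCompl _ inferInstance
  haveI hA'N : IsNoetherianRing (Localization.AtPrime q) :=
    IsLocalization.isNoetherianRing q.primeCompl _ inferInstance
  exact isRegularHom_cpl_descent (Localization.AtPrime p) (Localization.AtPrime q) hf (hG.2 q)

theorem isRegularHom_cpl_of_isGRing (A : Type u) [CommRing A] [IsLocalRing A]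
    (h : CAlg.IsGRing A) : CAlg.IsRegularHom A (AdicCompletion (maximalIdeal A) A) := by
  haveI := h.1
  haveI hAN : IsNoetherianRing (Localization.AtPrime (maximalIdeal A)) :=
    IsLocalization.isNoetherianRing (maximalIdeal A).primeCompl _ inferInstance
  haveI : IsLocalHom (algebraMap A (Localization.AtPrime (maximalIdeal A))) := by
    constructor
    intro a ha
    rw [IsLocalization.AtPrime.isUnit_to_map_iff (Localization.AtPrime (maximalIdeal A))
      (maximalIdeal A)] at ha
    by_contra hnu
    exact ha ((mem_maximalIdeal _).mpr hnu)
  exact isRegularHom_cpl_descent A (Localization.AtPrime (maximalIdeal A))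
    (isRegularHom_localization A (maximalIdeal A).primeCompl _) (h.2 (maximalIdeal A))

end Groth.Agent.Lib.Helper49.GRingLocal
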