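import Groth.Agent.Lib.Helper49.MacLane
import Groth.Agent.Lib.Helper56.GeomReduced
import Groth.Agent.S2117
import Mathlib.LinearAlgebra.Dual.Lemmas
import Mathlib.LinearAlgebra.Basis.VectorSpace
import Mathlib.RingTheory.TensorProduct.Basic

set_option autoImplicit false
universe u
namespace Groth.Agent.Lib.Helper49.MacLane
open TensorProduct

theorem geomReduced_of_perfectField (F K : Type*) [Field F] [PerfectField F] [Field K]
    [Algebra F K] : Algebra.IsGeometricallyReduced F K := by
  rw [Algebra.isGeometricallyReduced_field_iff]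
  have : IsReduced (K ⊗[F] AlgebraicClosure F) :=
    Groth.Agent.Lib.Helper56.isReduced_tensor_of_isSeparable
  exact isReduced_of_injective
    (Algebra.TensorProduct.comm F (AlgebraicClosure F) K).toRingEquiv.toRingHom
    (Algebra.TensorProduct.comm F (AlgebraicClosure F) K).injective

theorem geomReduced_iff_injective {k K : Type u} [Field k] [Field K] [Algebra k K] :
    Algebra.IsGeometricallyReduced k K ↔
      Function.Injective (KaehlerDifferential.mapBaseChange ℤ k K) := by
  obtain ⟨p, hp⟩ := CharP.exists k
  rcases CharP.char_is_prime_or_zero k p with hpp | rfl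
  · have : Fact p.Prime := ⟨hpp⟩
    exact Groth.Agent.S2117.result p
  · have : CharZero k := CharP.charP_to_charZero k
    constructor
    · intro _
      exact Groth.Agent.Lib.Helper97.KaehlerColim.mapBaseChange_injective_of_perfectField
    · intro _
      exact geomReduced_of_perfectField k K

theorem geomReduced_of_formallySmooth {k K : Type u} [Field k] [Field K] [Algebra k K]
    [Algebra.FormallySmooth k K] : Algebra.IsGeometricallyReduced k K :=
  geomReduced_iff_injective.mpr
    Groth.Agent.Lib.Helper97.KaehlerColim.mapBaseChange_injective_of_formallySmooth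

theorem formallySmooth_iff_geomReduced {k K : Type u} [Field k] [Field K] [Algebra k K] :
    Algebra.FormallySmooth k K ↔ Algebra.IsGeometricallyReduced k K :=
  ⟨fun _ => geomReduced_of_formallySmooth, fun _ => formallySmooth_of_geomReduced⟩

theorem injective_mapBaseChange_of_forall_extends {R k K κ : Type*} [CommRing R] [Field k]
    [Field K] [Field κ] [Algebra R k] [Algebra k K] [Algebra R K] [IsScalarTower R k K]
    [Algebra K κ] [Algebra k κ] [Algebra R κ] [IsScalarTower k K κ] [IsScalarTower R K κ]
    [IsScalarTower R k κ]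
    (hext : ∀ D : Derivation R k κ, ∃ D' : Derivation R K κ,
      ∀ a : k, D' (algebraMap k K a) = D a) :
    Function.Injective (KaehlerDifferential.mapBaseChange R k K) := by
  rw [← LinearMap.ker_eq_bot, eq_bot_iff]
  intro t ht
  rw [LinearMap.mem_ker] at ht
  rw [Submodule.mem_bot]
  by_contra hne
  obtain ⟨φ₁, hφ₁⟩ := Module.Projective.exists_dual_ne_zero K hne
  let φ : K ⊗[k] Ω[k⁄R] →ₗ[K] κ := (Algebra.linearMap K κ) ∘ₗ φ₁
  have hφ : φ t ≠ 0 := by
    change algebraMap K κ (φ₁ t) ≠ 0
    rw [Ne, map_eq_zero]
    exact hφ₁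
  let φ₀ : Ω[k⁄R] →ₗ[k] κ := (LinearMap.liftBaseChangeEquiv K).symm φ
  let D : Derivation R k κ := φ₀.compDer (KaehlerDifferential.D R k)
  obtain ⟨D', hD'⟩ := hext D
  let ψ : Ω[K⁄R] →ₗ[K] κ := D'.liftKaehlerDifferential
  have hcomp : ψ ∘ₗ KaehlerDifferential.mapBaseChange R k K = φ := by
    apply (LinearMap.liftBaseChangeEquiv K).symm.injective
    apply Derivation.liftKaehlerDifferential_unique
    ext a
    change ψ (KaehlerDifferential.mapBaseChange R k K (1 ⊗ₜ KaehlerDifferential.D R k a)) =
      φ (1 ⊗ₜ KaehlerDifferential.D R k a)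
    rw [KaehlerDifferential.mapBaseChange_tmul, one_smul, KaehlerDifferential.map_D]
    change D'.liftKaehlerDifferential (KaehlerDifferential.D R K (algebraMap k K a)) = _
    rw [Derivation.liftKaehlerDifferential_comp_D, hD' a]
    rfl
  apply hφ
  rw [← hcomp, LinearMap.comp_apply, ht, map_zero]

theorem injective_mapBaseChange_iff_forall_extends {R k K : Type*} [CommRing R] [Field k] [Field K]
    [Algebra R k] [Algebra k K] [Algebra R K] [IsScalarTower R k K] :
    Function.Injective (KaehlerDifferential.mapBaseChange R k K) ↔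
      ∀ D : Derivation R k K, ∃ D' : Derivation R K K, ∀ a : k, D' (algebraMap k K a) = D a := by
  constructor
  · intro hinj D
    obtain ⟨g, hg⟩ := LinearMap.exists_leftInverse_of_injective
      (KaehlerDifferential.mapBaseChange R k K) (LinearMap.ker_eq_bot.mpr hinj)
    let φ : K ⊗[k] Ω[k⁄R] →ₗ[K] K := LinearMap.liftBaseChange K D.liftKaehlerDifferential
    let ψ : Ω[K⁄R] →ₗ[K] K := φ ∘ₗ g
    refine ⟨ψ.compDer (KaehlerDifferential.D R K), fun a => ?_⟩
    have h1 : KaehlerDifferential.D R K (algebraMap k K a) =
        KaehlerDifferential.mapBaseChange R k K (1 ⊗ₜ KaehlerDifferential.D R k a) := by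
      rw [KaehlerDifferential.mapBaseChange_tmul, one_smul, KaehlerDifferential.map_D]
    have h2 : g (KaehlerDifferential.mapBaseChange R k K (1 ⊗ₜ KaehlerDifferential.D R k a)) =
        1 ⊗ₜ KaehlerDifferential.D R k a := by
      have := congrArg (fun w => w (1 ⊗ₜ KaehlerDifferential.D R k a)) hg
      exact this
    change φ (g (KaehlerDifferential.D R K (algebraMap k K a))) = D a
    rw [h1, h2]
    change (1 : K) • D.liftKaehlerDifferential (KaehlerDifferential.D R k a) = D a
    rw [one_smul, Derivation.liftKaehlerDifferential_comp_D]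
  · intro hext
    rw [← LinearMap.ker_eq_bot, eq_bot_iff]
    intro t ht
    rw [LinearMap.mem_ker] at ht
    rw [Submodule.mem_bot]
    by_contra hne
    obtain ⟨φ, hφ⟩ := Module.Projective.exists_dual_ne_zero K hne
    let φ₀ : Ω[k⁄R] →ₗ[k] K := (LinearMap.liftBaseChangeEquiv K).symm φ
    let D : Derivation R k K := φ₀.compDer (KaehlerDifferential.D R k)
    obtain ⟨D', hD'⟩ := hext D
    let ψ : Ω[K⁄R] →ₗ[K] K := D'.liftKaehlerDifferential
    have hcomp : ψ ∘ₗ KaehlerDifferential.mapBaseChange R k K = φ := by
      apply (LinearMap.liftBaseChangeEquiv K).symm.injective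
      apply Derivation.liftKaehlerDifferential_unique
      ext a
      change ψ (KaehlerDifferential.mapBaseChange R k K (1 ⊗ₜ KaehlerDifferential.D R k a)) =
        φ (1 ⊗ₜ KaehlerDifferential.D R k a)
      rw [KaehlerDifferential.mapBaseChange_tmul, one_smul, KaehlerDifferential.map_D]
      change D'.liftKaehlerDifferential (KaehlerDifferential.D R K (algebraMap k K a)) = _
      rw [Derivation.liftKaehlerDifferential_comp_D, hD' a]
      rfl
    apply hφ
    rw [← hcomp, LinearMap.comp_apply, ht, map_zero]

end Groth.Agent.Lib.Helper49.MacLane
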