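import Mathlib
import Groth.Agent.Lib.Helper49.HpFibre
import Groth.Agent.Lib.Helper49.FlatFS4
import Groth.Agent.Lib.Helper25.CompleteFinite
import Groth.Agent.Lib.Helper56.FibreRegular
import Groth.Agent.Lib.Helper67.GRingDed

set_option autoImplicit false
set_option linter.style.haveILetI false
set_option linter.unusedSectionVars false
universe u

namespace Groth.Agent.Lib.Helper49.FSReg

open TensorProduct IsLocalRing MvPowerSeries Groth.Agent.Lib.Helper49.PSFam
  Groth.Agent.Lib.Helper49.DerExt Groth.Agent.Lib.Helper61.FSAdic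

theorem isLocalRing_tsze (C : Type u) [CommRing C] [IsLocalRing C] :
    IsLocalRing (TrivSqZeroExt C C) := by
  haveI : Nontrivial (TrivSqZeroExt C C) :=
    ⟨⟨0, 1, fun h => zero_ne_one (congrArg TrivSqZeroExt.fst h)⟩⟩
  refine IsLocalRing.of_isUnit_or_isUnit_one_sub_self fun x => ?_
  rw [TrivSqZeroExt.isUnit_iff_isUnit_fst, TrivSqZeroExt.isUnit_iff_isUnit_fst,
    TrivSqZeroExt.fst_sub, TrivSqZeroExt.fst_one]
  exact IsLocalRing.isUnit_or_isUnit_one_sub_self x.fst

theorem exists_leibniz_of_fs {P C : Type u} [CommRing P] [CommRing C] [IsLocalRing C]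
    [IsNoetherianRing C] [IsAdicComplete (maximalIdeal C) C] [Algebra P C]
    (hfs : CAlgX.IsAdicFormallySmooth P C (maximalIdeal C))
    (D : P →+ P) (hD : ∀ x y, D (x * y) = x * D y + y * D x) :
    ∃ D3 : C →+ C, (∀ x y, D3 (x * y) = x * D3 y + y * D3 x) ∧
      ∀ f, D3 (algebraMap P C f) = algebraMap P C (D f) := by
  classical
  let T := TrivSqZeroExt C C
  haveI hTloc : IsLocalRing T := isLocalRing_tsze C
  haveI hTfin : Module.Finite C T := by
    show Module.Finite C (C × C)
    infer_instance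
  haveI hTc : IsAdicComplete (maximalIdeal T) T :=
    Groth.Agent.Lib.Helper25.isAdicComplete_of_finite_of_isLocalRing C T
  have hL : Lifts (⊥ : Ideal P) (algebraMap P C) (maximalIdeal C) :=
    lifts_of_liftsSq ((calgx_iff _).mp hfs)
  let D₀ : P →+ C := (algebraMap P C).toAddMonoidHom.comp D
  have hD₀ : ∀ x y, D₀ (x * y) = algebraMap P C x * D₀ y + algebraMap P C y * D₀ x := by
    intro x y
    show algebraMap P C (D (x * y)) = algebraMap P C x * algebraMap P C (D y) +
      algebraMap P C y * algebraMap P C (D x)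
    rw [hD, map_add, map_mul, map_mul]
  let g : P →+* T := twist (algebraMap P C) D₀ hD₀
  let fstH : T →+* C := TrivSqZeroExt.fstHom C C C
  let J : Ideal T := RingHom.ker fstH
  have hJ2 : J ^ 2 = ⊥ := by
    rw [eq_bot_iff, pow_two, Ideal.mul_le]
    intro x hx y hy
    have hx0 : x.fst = 0 := hx
    have hy0 : y.fst = 0 := hy
    rw [Ideal.mem_bot]
    ext
    · rw [TrivSqZeroExt.fst_mul, hx0, zero_mul, TrivSqZeroExt.fst_zero]
    · rw [TrivSqZeroExt.snd_mul, hx0, hy0, zero_smul, TrivSqZeroExt.snd_zero]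
      simp
  let inlH : C →+* T := TrivSqZeroExt.inlHom C C
  let u : C →+* T ⧸ J := (Ideal.Quotient.mk J).comp inlH
  have hu : u.comp (algebraMap P C) = (Ideal.Quotient.mk J).comp g := by
    refine RingHom.ext fun f => ?_
    show Ideal.Quotient.mk J (TrivSqZeroExt.inl (algebraMap P C f)) = Ideal.Quotient.mk J (g f)
    rw [Ideal.Quotient.eq, RingHom.mem_ker]
    show (TrivSqZeroExt.inl (algebraMap P C f) - g f).fst = 0
    rw [TrivSqZeroExt.fst_sub, TrivSqZeroExt.fst_inl, fst_twist, sub_self]
  have hfsurj : Function.Surjective fstH := fun c => ⟨TrivSqZeroExt.inl c, TrivSqZeroExt.fst_inl C c⟩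
  let eq : T ⧸ J ≃+* C := RingHom.quotientKerEquivOfSurjective hfsurj
  have heq : ∀ t : T, eq (Ideal.Quotient.mk J t) = t.fst := fun t =>
    RingHom.quotientKerEquivOfSurjective_apply_mk hfsurj t
  haveI hQloc : IsLocalRing (T ⧸ J) := eq.symm.isLocalRing
  haveI hQN : IsNoetherianRing (T ⧸ J) := isNoetherianRing_of_ringEquiv C eq.symm
  have hmapmax : (maximalIdeal T).map (Ideal.Quotient.mk J) = maximalIdeal (T ⧸ J) :=
    map_maximalIdeal_of_surjective _ Ideal.Quotient.mk_surjective
  haveI : IsHausdorff ((maximalIdeal T).map (Ideal.Quotient.mk J)) (T ⧸ J) := by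
    rw [hmapmax]
    infer_instance
  have hcont : ∃ k : ℕ, ((maximalIdeal C) ^ k).map u ≤
      (maximalIdeal T).map (Ideal.Quotient.mk J) := by
    refine ⟨1, ?_⟩
    rw [pow_one, hmapmax, Ideal.map_le_iff_le_comap]
    intro c hc
    rw [Ideal.mem_comap, mem_maximalIdeal, mem_nonunits_iff]
    intro hunit
    have h1 : IsUnit (eq (u c)) := hunit.map eq
    have h2 : eq (u c) = c := by
      show eq (Ideal.Quotient.mk J (TrivSqZeroExt.inl c)) = c
      rw [heq, TrivSqZeroExt.fst_inl]
    rw [h2] at h1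
    exact ((mem_maximalIdeal _).mp hc) h1
  obtain ⟨v, hv1, hv2, -⟩ := Groth.Agent.Lib.Helper61.FSAdic.lift_to_complete hL (maximalIdeal T) g
    ⟨1, by rw [pow_one, Ideal.map_bot]; exact bot_le⟩ J ⟨2, by rw [hJ2]; exact bot_le⟩ u hu hcont
  have hfst : ∀ c, (v c).fst = c := by
    intro c
    have h1 := DFunLike.congr_fun hv2 c
    have h2 := congrArg eq h1
    rw [RingHom.comp_apply, heq] at h2
    rw [h2]
    show eq (Ideal.Quotient.mk J (TrivSqZeroExt.inl c)) = c
    rw [heq, TrivSqZeroExt.fst_inl]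
  refine ⟨((derOfHom v hfst : C →ₗ[ℤ] C)).toAddMonoidHom, fun x y => ?_, fun f => ?_⟩
  · show derOfHom v hfst (x * y) = x * derOfHom v hfst y + y * derOfHom v hfst x
    rw [Derivation.leibniz, smul_eq_mul, smul_eq_mul]
  · show derOfHom v hfst (algebraMap P C f) = _
    rw [derOfHom_apply]
    have h3 := DFunLike.congr_fun hv1 f
    rw [RingHom.comp_apply] at h3
    rw [h3, snd_twist]
    rfl

attribute [local instance] Algebra.TensorProduct.rightAlgebra in
theorem isGeometricallyRegular_generic_fiber_of_ext (p : ℕ) [hp : Fact p.Prime] (k : Type u)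
    [Field k] [CharP k p] (n : ℕ) (C : Type u) [CommRing C] [Algebra (MvPowerSeries (Fin n) k) C]
    [IsNoetherianRing C] [hCR : IsRegularRing C]
    (hext : ∀ D : MvPowerSeries (Fin n) k →+ MvPowerSeries (Fin n) k,
      (∀ x y, D (x * y) = x * D y + y * D x) →
      ∃ D3 : C →+ C, (∀ x y, D3 (x * y) = x * D3 y + y * D3 x) ∧
        ∀ f, D3 (algebraMap (MvPowerSeries (Fin n) k) C f) =
          algebraMap (MvPowerSeries (Fin n) k) C (D f)) :
    CAlg.IsGeometricallyRegular (⊥ : Ideal (MvPowerSeries (Fin n) k)).ResidueField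
      ((⊥ : Ideal (MvPowerSeries (Fin n) k)).Fiber C) := by
  classical
  haveI hdom : IsDomain (MvPowerSeries (Fin n) k) := NoZeroDivisors.to_isDomain _
  let K := (⊥ : Ideal (MvPowerSeries (Fin n) k)).ResidueField
  let Fib := K ⊗[MvPowerSeries (Fin n) k] C
  haveI hloc := Groth.Agent.Lib.Helper67.RegLocus.isLocalization_generic_fiber
    (MvPowerSeries (Fin n) k) C
  haveI hFibN : IsNoetherianRing Fib :=
    Groth.Agent.Lib.Helper56.isNoetherianRing_fiber (MvPowerSeries (Fin n) k) C ⊥
  haveI hFibR : IsRegularRing Fib :=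
    Groth.Agent.Lib.Helper49.GeomRegFS.isRegularRing_of_isLocalization
      (Algebra.algebraMapSubmonoid C (nonZeroDivisors (MvPowerSeries (Fin n) k))) _
  apply Groth.Agent.Lib.Helper49.GeomRegFS.isGeometricallyRegular_of_localization
  intro 𝔔 h𝔔
  let E := Localization.AtPrime 𝔔
  haveI hEN : IsNoetherianRing E := IsLocalization.isNoetherianRing 𝔔.primeCompl _ inferInstance
  have hEreg : IsRegularLocalRing E := (isRegularRing_iff.mp hFibR) 𝔔
  rw [Groth.Agent.Lib.Helper49.GeomRegFS.isGeometricallyRegular_iff_isAdicFormallySmooth,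
    Groth.Agent.Lib.Helper49.FSJacobi.isAdicFormallySmooth_iff_regular_and_injective]
  refine ⟨hEreg, Hp_injective (k := k) n K E p ?_⟩
  intro D hD
  obtain ⟨D3, hD3L, hD3⟩ := hext D hD
  obtain ⟨D', hD'1, hD'2⟩ := Groth.Agent.Lib.Helper49.HpFibre.ext_fiber C D3 hD3L D hD3 𝔔
  exact ⟨ofLeibniz D' hD'1, hD'2⟩

theorem isRegularLocalRing_of_fs {P C : Type u} [CommRing P] [IsRegularLocalRing P] [CommRing C]
    [IsLocalRing C] [IsNoetherianRing C] [Algebra P C] [IsLocalHom (algebraMap P C)]
    (hfs : CAlgX.IsAdicFormallySmooth P C (maximalIdeal C)) : IsRegularLocalRing C := by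
  haveI hflat : Module.Flat P C := Groth.Agent.Lib.Helper49.FlatFS.flat_of_isAdicFormallySmooth hfs
  have hle : (maximalIdeal P).map (algebraMap P C) ≤ maximalIdeal C :=
    IsLocalRing.map_maximalIdeal_le (algebraMap P C)
  have h0 := Groth.Agent.S7134.isAdicFormallySmooth_quotient (maximalIdeal P) (maximalIdeal C) hfs
  haveI hnt : Nontrivial (C ⧸ (maximalIdeal P).map (algebraMap P C)) :=
    Ideal.Quotient.nontrivial_iff.mpr
      (fun h => (maximalIdeal.isMaximal C).ne_top (top_le_iff.mp (h ▸ hle)))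
  haveI hloc : IsLocalRing (C ⧸ (maximalIdeal P).map (algebraMap P C)) :=
    IsLocalRing.of_surjective' (Ideal.Quotient.mk ((maximalIdeal P).map (algebraMap P C)))
      Ideal.Quotient.mk_surjective
  have hmax : (maximalIdeal C).map (Ideal.Quotient.mk ((maximalIdeal P).map (algebraMap P C))) =
      maximalIdeal (C ⧸ (maximalIdeal P).map (algebraMap P C)) :=
    map_maximalIdeal_of_surjective _ Ideal.Quotient.mk_surjective
  letI : Field (P ⧸ maximalIdeal P) := Ideal.Quotient.field (maximalIdeal P)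
  have h1 : CAlgX.IsAdicFormallySmooth (P ⧸ maximalIdeal P)
      (C ⧸ (maximalIdeal P).map (algebraMap P C))
      (maximalIdeal (C ⧸ (maximalIdeal P).map (algebraMap P C))) := by
    rw [← hmax]
    exact h0
  have hreg : IsRegularLocalRing (C ⧸ (maximalIdeal P).map (algebraMap P C)) :=
    (Groth.Agent.Lib.Helper49.FSRegular.isRegularLocalRing_of_isAdicFormallySmooth_field h1).1
  exact Groth.Agent.Lib.Helper56.regular_of_flat_of_fibre_regular P C hreg

attribute [local instance] Algebra.TensorProduct.rightAlgebra in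
theorem generic_fibre_geomReg_charZero {P C : Type u} [CommRing P] [IsDomain P]
    [IsRegularLocalRing P] [CharZero P] [CommRing C]
    [IsLocalRing C] [IsNoetherianRing C] [Algebra P C] [IsLocalHom (algebraMap P C)]
    (hfs : CAlgX.IsAdicFormallySmooth P C (maximalIdeal C)) :
    CAlg.IsGeometricallyRegular (⊥ : Ideal P).ResidueField ((⊥ : Ideal P).Fiber C) := by
  haveI hCreg : IsRegularLocalRing C := isRegularLocalRing_of_fs hfs
  haveI hCR : IsRegularRing C :=
    Groth.Agent.Lib.Helper77.RegularLocalization.isRegularRing_of_isRegularLocalRing C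
  haveI hloc := Groth.Agent.Lib.Helper67.RegLocus.isLocalization_generic_fiber P C
  haveI hFibR : IsRegularRing ((⊥ : Ideal P).ResidueField ⊗[P] C) :=
    Groth.Agent.Lib.Helper49.GeomRegFS.isRegularRing_of_isLocalization
      (Algebra.algebraMapSubmonoid C (nonZeroDivisors P)) _
  haveI : CharZero (⊥ : Ideal P).ResidueField := by
    have hinj : Function.Injective (algebraMap P (⊥ : Ideal P).ResidueField) := by
      rw [injective_iff_map_eq_zero]
      intro a ha
      rw [Ideal.algebraMap_residueField_eq_zero] at ha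
      exact ha
    exact charZero_of_injective_algebraMap hinj
  exact Groth.Agent.Lib.Helper67.RegLocus.isGeometricallyRegular_of_charZero _ _ hFibR

theorem generic_fibre_geomReg_field (k : Type u) [Field k] (n : ℕ) (C : Type u) [CommRing C]
    [IsLocalRing C] [IsNoetherianRing C] [IsAdicComplete (maximalIdeal C) C]
    [Algebra (MvPowerSeries (Fin n) k) C] [IsLocalHom (algebraMap (MvPowerSeries (Fin n) k) C)]
    (hfs : CAlgX.IsAdicFormallySmooth (MvPowerSeries (Fin n) k) C (maximalIdeal C)) :
    CAlg.IsGeometricallyRegular (⊥ : Ideal (MvPowerSeries (Fin n) k)).ResidueField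
      ((⊥ : Ideal (MvPowerSeries (Fin n) k)).Fiber C) := by
  haveI hdom : IsDomain (MvPowerSeries (Fin n) k) := NoZeroDivisors.to_isDomain _
  haveI hPreg := Groth.Agent.Lib.Helper49.FSRegular.isRegularLocalRing_mvPowerSeries k n
  obtain ⟨c, hc⟩ := CharP.exists k
  rcases CharP.char_is_prime_or_zero k c with hcp | hc0
  · haveI := Fact.mk hcp
    haveI hCreg : IsRegularLocalRing C := isRegularLocalRing_of_fs hfs
    haveI hCR : IsRegularRing C :=
      Groth.Agent.Lib.Helper77.RegularLocalization.isRegularRing_of_isRegularLocalRing C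
    exact isGeometricallyRegular_generic_fiber_of_ext c k n C
      (fun D hD => exists_leibniz_of_fs hfs D hD)
  · subst hc0
    haveI : CharZero k := CharP.charP_to_charZero k
    haveI : CharZero (MvPowerSeries (Fin n) k) :=
      charZero_of_injective_ringHom (MvPowerSeries.C_injective (σ := Fin n) (R := k))
    exact generic_fibre_geomReg_charZero hfs

end Groth.Agent.Lib.Helper49.FSReg
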