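import Mathlib
import Groth.Agent.Lib.Helper49.FlatFS4
set_option autoImplicit false
set_option linter.style.haveILetI false
set_option linter.unusedSectionVars false
universe u
namespace Groth.Agent.Lib.Helper49.FlatLift
open IsLocalRing TensorProduct Groth.Agent.Lib.Helper61.FSAdic

theorem adic_of_adicBoth {R S : Type u} [CommRing R] [CommRing S] [Algebra R S]
    [IsLocalRing R] [IsLocalRing S] [IsLocalHom (algebraMap R S)]
    (h : EGA41.IsFormallySmoothAdic R (maximalIdeal R) S (maximalIdeal S)) :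
    CAlgX.IsAdicFormallySmooth R S (maximalIdeal S) := by
  intro C _ _ J hJ ψ hψ
  obtain ⟨k, hk⟩ := hψ
  refine h C J ⟨2, by rw [hJ]; rfl⟩ ⟨2 * k, ?_⟩ ψ ⟨k, hk⟩
  have h1 : ((maximalIdeal R) ^ k).map (algebraMap R C) ≤ J := by
    rw [Ideal.map_le_iff_le_comap]
    intro a ha
    rw [Ideal.mem_comap, ← Ideal.Quotient.eq_zero_iff_mem]
    have h2 : algebraMap R S a ∈ maximalIdeal S ^ k := by
      have h3 : (maximalIdeal R).map (algebraMap R S) ≤ maximalIdeal S :=
        IsLocalRing.map_maximalIdeal_le (algebraMap R S)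
      have h4 := Ideal.mem_map_of_mem (algebraMap R S) ha
      rw [Ideal.map_pow] at h4
      exact Ideal.pow_right_mono h3 k h4
    have h5 := hk _ h2
    rw [AlgHom.commutes] at h5
    exact h5
  rw [pow_mul', Ideal.map_pow, eq_bot_iff, ← hJ]
  exact Ideal.pow_right_mono h1 2

section fibre

variable {A B B₀ : Type u} [CommRing A] [CommRing B] [CommRing B₀] [IsLocalRing A]
  [IsLocalRing B] [IsLocalRing B₀] [Algebra A B] (J : Ideal A) [Algebra (A ⧸ J) B₀]

theorem fibre_fs_of_quot (hJ : J ≤ maximalIdeal A)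
    (h₀ : CAlgX.IsAdicFormallySmooth (A ⧸ J) B₀ (maximalIdeal B₀))
    (φ : B →+* B₀) (hφs : Function.Surjective φ)
    (hφ : ∀ a, φ (algebraMap A B a) = algebraMap (A ⧸ J) B₀ (Ideal.Quotient.mk J a))
    (hker : RingHom.ker φ = J.map (algebraMap A B)) :
    CAlgX.IsAdicFormallySmooth (A ⧸ maximalIdeal A) (B ⧸ (maximalIdeal A).map (algebraMap A B))
      ((maximalIdeal B).map (Ideal.Quotient.mk ((maximalIdeal A).map (algebraMap A B)))) := by
  intro D _ _ Jd hJd ψ hψ
  obtain ⟨j, hj⟩ := hψ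
  letI algD : Algebra (A ⧸ J) D :=
    ((algebraMap (A ⧸ maximalIdeal A) D).comp (Ideal.Quotient.factor hJ)).toAlgebra
  let mkF : B →+* B ⧸ (maximalIdeal A).map (algebraMap A B) := Ideal.Quotient.mk _
  have hle : RingHom.ker φ ≤ RingHom.ker (ψ.toRingHom.comp mkF) := by
    rw [hker]
    intro b hb
    rw [RingHom.mem_ker, RingHom.comp_apply]
    have : mkF b = 0 := Ideal.Quotient.eq_zero_iff_mem.mpr (Ideal.map_mono hJ hb)
    rw [this, map_zero]
  let ψ₀r : B₀ →+* D ⧸ Jd := RingHom.liftOfSurjective φ hφs ⟨ψ.toRingHom.comp mkF, hle⟩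
  have hψ₀ : ∀ b, ψ₀r (φ b) = ψ (mkF b) := fun b =>
    RingHom.liftOfSurjective_comp_apply φ hφs ⟨ψ.toRingHom.comp mkF, hle⟩ b
  let ψ₀ : B₀ →ₐ[A ⧸ J] D ⧸ Jd :=
    { ψ₀r with
      commutes' := fun x => by
        obtain ⟨a, rfl⟩ := Ideal.Quotient.mk_surjective x
        show ψ₀r (algebraMap (A ⧸ J) B₀ (Ideal.Quotient.mk J a)) = _
        rw [← hφ a, hψ₀]
        have h1 : mkF (algebraMap A B a) = algebraMap (A ⧸ maximalIdeal A)
            (B ⧸ (maximalIdeal A).map (algebraMap A B)) (Ideal.Quotient.mk _ a) := rfl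
        rw [h1, ψ.commutes]
        rfl }
  have hloc : IsLocalHom φ := IsLocalHom.of_surjective φ hφs
  have hmaxφ : (maximalIdeal B).map φ = maximalIdeal B₀ := map_maximalIdeal_of_surjective φ hφs
  obtain ⟨χ₀, hχ₀⟩ := h₀ D Jd hJd ψ₀ ⟨j, by
    intro x hx
    rw [← hmaxφ, ← Ideal.map_pow] at hx
    rw [Ideal.map, Ideal.span] at hx
    refine Submodule.span_induction ?_ ?_ ?_ ?_ hx
    · rintro _ ⟨b, hb, rfl⟩
      show ψ₀r (φ b) = 0
      rw [hψ₀]
      apply hj
      rw [← Ideal.map_pow]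
      exact Ideal.mem_map_of_mem _ hb
    · exact map_zero _
    · intro x y _ _ hx hy
      rw [map_add, hx, hy, add_zero]
    · intro c x _ hx
      rw [smul_eq_mul, map_mul, hx, mul_zero]⟩
  have hkill : ∀ b ∈ (maximalIdeal A).map (algebraMap A B), (χ₀.toRingHom.comp φ) b = 0 := by
    intro b hb
    refine Submodule.span_induction ?_ ?_ ?_ ?_ hb
    · rintro _ ⟨a, ha, rfl⟩
      show χ₀ (φ (algebraMap A B a)) = 0
      rw [hφ a, χ₀.commutes]
      show algebraMap (A ⧸ maximalIdeal A) D (Ideal.Quotient.factor hJ (Ideal.Quotient.mk J a)) = 0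
      rw [Ideal.Quotient.factor_mk, Ideal.Quotient.eq_zero_iff_mem.mpr ha, map_zero]
    · exact map_zero _
    · intro x y _ _ hx hy
      rw [map_add, hx, hy, add_zero]
    · intro c x _ hx
      rw [smul_eq_mul, map_mul, hx, mul_zero]
  let χr : B ⧸ (maximalIdeal A).map (algebraMap A B) →+* D :=
    Ideal.Quotient.lift _ (χ₀.toRingHom.comp φ) hkill
  refine ⟨{ χr with commutes' := fun c => ?_ }, ?_⟩
  · obtain ⟨a, rfl⟩ := Ideal.Quotient.mk_surjective c
    show χ₀ (φ (algebraMap A B a)) = _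
    rw [hφ a, χ₀.commutes]
    show algebraMap (A ⧸ maximalIdeal A) D (Ideal.Quotient.factor hJ (Ideal.Quotient.mk J a)) = _
    rw [Ideal.Quotient.factor_mk]
  · ext y
    obtain ⟨b, rfl⟩ := Ideal.Quotient.mk_surjective y
    show Ideal.Quotient.mk Jd (χ₀ (φ b)) = ψ (mkF b)
    rw [← hψ₀]
    exact DFunLike.congr_fun hχ₀ (φ b)

theorem isAdicFormallySmooth_of_quot [IsNoetherianRing B] [IsLocalHom (algebraMap A B)]
    [Module.Flat A B] (hJ : J ≤ maximalIdeal A)
    (h₀ : CAlgX.IsAdicFormallySmooth (A ⧸ J) B₀ (maximalIdeal B₀))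
    (φ : B →+* B₀) (hφs : Function.Surjective φ)
    (hφ : ∀ a, φ (algebraMap A B a) = algebraMap (A ⧸ J) B₀ (Ideal.Quotient.mk J a))
    (hker : RingHom.ker φ = J.map (algebraMap A B)) :
    CAlgX.IsAdicFormallySmooth A B (maximalIdeal B) :=
  Groth.Agent.Lib.Helper49.FlatFS.isAdicFormallySmooth_of_flat_of_fibre
    (fibre_fs_of_quot J hJ h₀ φ hφs hφ hker)

end fibre

end Groth.Agent.Lib.Helper49.FlatLift
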