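import Mathlib
import Groth.Agent.Lib.Helper49.FlatLift1
set_option autoImplicit false
set_option linter.style.haveILetI false
set_option linter.unusedSectionVars false
universe u
namespace Groth.Agent.Lib.Helper49.FlatLift
open IsLocalRing TensorProduct Groth.Agent.Lib.Helper61.FSAdic

theorem exists_algEquiv_of_flat {A B B' B₀ : Type u} [CommRing A] [CommRing B] [CommRing B']
    [CommRing B₀] [IsLocalRing A]
    [IsLocalRing B] [IsNoetherianRing B] [Algebra A B] [IsLocalHom (algebraMap A B)]
    [IsLocalRing B'] [IsNoetherianRing B'] [Algebra A B'] [IsLocalHom (algebraMap A B')]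
    [IsAdicComplete (maximalIdeal B) B] [IsAdicComplete (maximalIdeal B') B'] [Module.Flat A B']
    (J : Ideal A) (hJ : J ≤ maximalIdeal A)
    (hfs : CAlgX.IsAdicFormallySmooth A B (maximalIdeal B))
    (φ : B →+* B₀) (φ' : B' →+* B₀) (hφs : Function.Surjective φ)
    (hφ's : Function.Surjective φ')
    (hcomp : φ.comp (algebraMap A B) = φ'.comp (algebraMap A B'))
    (hker : RingHom.ker φ = J.map (algebraMap A B))
    (hker' : RingHom.ker φ' = J.map (algebraMap A B')) :
    ∃ v : B ≃ₐ[A] B', ∀ b, φ' (v b) = φ b := by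
  have hmA : (maximalIdeal A).map (algebraMap A B) ≤ maximalIdeal B :=
    IsLocalRing.map_maximalIdeal_le (algebraMap A B)
  have hmA' : (maximalIdeal A).map (algebraMap A B') ≤ maximalIdeal B' :=
    IsLocalRing.map_maximalIdeal_le (algebraMap A B')
  have hJB : J.map (algebraMap A B) ≤ maximalIdeal B := (Ideal.map_mono hJ).trans hmA
  have hJB' : J.map (algebraMap A B') ≤ maximalIdeal B' := (Ideal.map_mono hJ).trans hmA'
  have hnt₀ : Nontrivial B₀ := by
    refine ⟨⟨0, 1, fun h => ?_⟩⟩
    have h1 : (1 : B) ∈ RingHom.ker φ := by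
      rw [RingHom.mem_ker, map_one]
      exact h.symm
    rw [hker] at h1
    exact (maximalIdeal.isMaximal B).ne_top ((Ideal.eq_top_iff_one _).mpr (hJB h1))
  haveI hφloc : IsLocalHom φ := IsLocalHom.of_surjective φ hφs
  have hntC : Nontrivial (B' ⧸ J.map (algebraMap A B')) :=
    Ideal.Quotient.nontrivial_iff.mpr
      (fun h => (maximalIdeal.isMaximal B').ne_top (top_le_iff.mp (h ▸ hJB')))
  have hlocC : IsLocalRing (B' ⧸ J.map (algebraMap A B')) :=
    IsLocalRing.of_surjective' (Ideal.Quotient.mk _) Ideal.Quotient.mk_surjective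
  have hmaxC : (maximalIdeal B').map (Ideal.Quotient.mk (J.map (algebraMap A B'))) =
      maximalIdeal (B' ⧸ J.map (algebraMap A B')) :=
    map_maximalIdeal_of_surjective _ Ideal.Quotient.mk_surjective
  haveI hHaus : IsHausdorff
      ((maximalIdeal B').map (Ideal.Quotient.mk (J.map (algebraMap A B'))))
      (B' ⧸ J.map (algebraMap A B')) := by
    rw [hmaxC]
    infer_instance
  let e' : (B' ⧸ J.map (algebraMap A B')) ≃+* B₀ :=
    (Ideal.quotEquivOfEq hker'.symm).trans (RingHom.quotientKerEquivOfSurjective hφ's)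
  have he' : ∀ c, e' (Ideal.Quotient.mk _ c) = φ' c := by
    intro c
    show (RingHom.quotientKerEquivOfSurjective hφ's) ((Ideal.quotEquivOfEq hker'.symm)
      (Ideal.Quotient.mk _ c)) = _
    rw [Ideal.quotEquivOfEq_mk]
    exact RingHom.quotientKerEquivOfSurjective_apply_mk _ c
  let u₀ : B →+* B' ⧸ J.map (algebraMap A B') := e'.symm.toRingHom.comp φ
  have hu₀ : u₀.comp (algebraMap A B) =
      (Ideal.Quotient.mk (J.map (algebraMap A B'))).comp (algebraMap A B') := by
    ext a
    show e'.symm (φ (algebraMap A B a)) = Ideal.Quotient.mk _ (algebraMap A B' a)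
    rw [RingEquiv.symm_apply_eq, he', ← RingHom.comp_apply φ, hcomp]
    rfl
  have hL : Lifts (⊥ : Ideal A) (algebraMap A B) (maximalIdeal B) :=
    lifts_of_liftsSq ((calgx_iff _).mp hfs)
  have hcont : ∃ k : ℕ, ((maximalIdeal B) ^ k).map u₀ ≤
      (maximalIdeal B').map (Ideal.Quotient.mk (J.map (algebraMap A B'))) := by
    refine ⟨1, ?_⟩
    rw [pow_one, hmaxC, Ideal.map_le_iff_le_comap]
    intro b hb
    rw [Ideal.mem_comap, IsLocalRing.mem_maximalIdeal, mem_nonunits_iff]
    intro hu
    have h2 : IsUnit (φ b) := by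
      have := hu.map e'
      rwa [show e' (u₀ b) = φ b from e'.apply_symm_apply _] at this
    exact hb (IsLocalHom.map_nonunit (f := φ) _ h2)
  obtain ⟨v, hv1, hv2, -⟩ := lift_to_complete hL (maximalIdeal B') (algebraMap A B')
    ⟨1, by rw [pow_one, Ideal.map_bot]; exact bot_le⟩ (J.map (algebraMap A B'))
    ⟨1, by rw [pow_one]; exact hJB'⟩ u₀ hu₀ hcont
  have hφ'v : ∀ b, φ' (v b) = φ b := by
    intro b
    have h1 : Ideal.Quotient.mk (J.map (algebraMap A B')) (v b) = u₀ b :=
      DFunLike.congr_fun hv2 b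
    rw [← he', h1]
    exact e'.apply_symm_apply _
  have hmapv : (J.map (algebraMap A B)).map v = J.map (algebraMap A B') := by
    rw [Ideal.map_map, hv1]
  have hsurj : Function.Surjective v := by
    haveI : IsAdicComplete (J.map (algebraMap A B)) B :=
      Groth.Agent.Lib.Helper61.CompleteLE.isAdicComplete_of_le _ (maximalIdeal B) hJB
        (IsNoetherian.noetherian _)
    haveI : IsHausdorff ((J.map (algebraMap A B)).map v) B' := by
      rw [hmapv]
      refine IsHausdorff.of_isLocalRing _ _ (fun h => ?_)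
      rw [h] at hJB'
      exact (maximalIdeal.isMaximal B').ne_top (top_le_iff.mp hJB')
    apply surjective_of_mk_map_comp_surjective v (I := J.map (algebraMap A B))
    intro y
    obtain ⟨b', rfl⟩ := Ideal.Quotient.mk_surjective y
    obtain ⟨b, hb⟩ := hφs (φ' b')
    refine ⟨b, ?_⟩
    rw [RingHom.comp_apply, Ideal.Quotient.eq, hmapv, ← hker', RingHom.mem_ker, map_sub, hφ'v, hb,
      sub_self]
  let g : B →ₐ[A] B' := { v with commutes' := fun a => DFunLike.congr_fun hv1 a }
  let u : B →ₗ[A] B' := g.toLinearMap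
  have hu : Function.Injective (LinearMap.lTensor (A ⧸ maximalIdeal A) u) := by
    rw [injective_iff_map_eq_zero]
    intro z hz
    obtain ⟨x, rfl⟩ := TensorProduct.mk_surjective A B (A ⧸ maximalIdeal A)
      Ideal.Quotient.mk_surjective z
    have h1 : TensorProduct.mk A (A ⧸ maximalIdeal A) B' 1 (u x) = 0 := hz
    rw [← LinearMap.mem_ker, LinearMap.ker_tensorProductMk, Ideal.smul_top_eq_map] at h1
    have h2 : v x ∈ (maximalIdeal A).map (algebraMap A B') := h1
    have h3 : φ x ∈ ((maximalIdeal A).map (algebraMap A B)).map φ := by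
      rw [← hφ'v, Ideal.map_map, hcomp, ← Ideal.map_map]
      exact Ideal.mem_map_of_mem _ h2
    have h4 : x ∈ (maximalIdeal A).map (algebraMap A B) := by
      have h5 : x ∈ (((maximalIdeal A).map (algebraMap A B)).map φ).comap φ := h3
      rw [Ideal.comap_map_of_surjective φ hφs, ← RingHom.ker_eq_comap_bot, hker] at h5
      have h7 : (maximalIdeal A).map (algebraMap A B) ⊔ J.map (algebraMap A B) ≤
          (maximalIdeal A).map (algebraMap A B) := sup_le le_rfl (Ideal.map_mono hJ)
      exact h7 h5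
    have h6 : x ∈ (maximalIdeal A • ⊤ : Submodule A B) := by
      rw [Ideal.smul_top_eq_map]
      exact h4
    rw [← LinearMap.ker_tensorProductMk, LinearMap.mem_ker] at h6
    exact h6
  have hinj : Function.Injective u := Groth.Agent.Lib.Helper6.LocalFlat.injective_of_residue B u hu
  refine ⟨AlgEquiv.ofBijective g ⟨hinj, hsurj⟩, hφ'v⟩

end Groth.Agent.Lib.Helper49.FlatLift
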