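import Mathlib
import Groth.Agent.Lib.Helper49.FlatLift2
set_option autoImplicit false
set_option linter.style.haveILetI false
set_option linter.unusedSectionVars false
universe u
namespace Groth.Agent.Lib.Helper49.FlatLift
open IsLocalRing TensorProduct Groth.Agent.Lib.Helper61.FSAdic

section conv

variable {A B B₀ : Type u} [CommRing A] [CommRing B] [CommRing B₀] [Algebra A B] (J : Ideal A)
  [Algebra (A ⧸ J) B₀]

noncomputable def phiOf (u : (A ⧸ J) ⊗[A] B ≃ₐ[A ⧸ J] B₀) : B →+* B₀ :=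
  (u : (A ⧸ J) ⊗[A] B →+* B₀).comp
    (Algebra.TensorProduct.includeRight (R := A) (A := A ⧸ J) (B := B)).toRingHom

theorem phiOf_apply (u : (A ⧸ J) ⊗[A] B ≃ₐ[A ⧸ J] B₀) (b : B) :
    phiOf J u b = u ((1 : A ⧸ J) ⊗ₜ[A] b) := rfl

theorem phiOf_surjective (u : (A ⧸ J) ⊗[A] B ≃ₐ[A ⧸ J] B₀) : Function.Surjective (phiOf J u) := by
  intro y
  obtain ⟨z, rfl⟩ := u.surjective y
  obtain ⟨b, rfl⟩ := Groth.Agent.Lib.Helper49.FlatFS.exists_one_tmul (κ := A ⧸ J) (C := B)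
    Ideal.Quotient.mk_surjective z
  exact ⟨b, rfl⟩

theorem phiOf_algebraMap (u : (A ⧸ J) ⊗[A] B ≃ₐ[A ⧸ J] B₀) (a : A) :
    phiOf J u (algebraMap A B a) = algebraMap (A ⧸ J) B₀ (Ideal.Quotient.mk J a) := by
  rw [phiOf_apply, ← u.commutes]
  congr 1
  rw [Algebra.TensorProduct.algebraMap_apply, Algebra.algebraMap_eq_smul_one a,
    ← TensorProduct.smul_tmul, ← Algebra.algebraMap_eq_smul_one]
  rfl

theorem ker_phiOf (u : (A ⧸ J) ⊗[A] B ≃ₐ[A ⧸ J] B₀) :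
    RingHom.ker (phiOf J u) = J.map (algebraMap A B) := by
  ext b
  rw [RingHom.mem_ker, phiOf_apply, EmbeddingLike.map_eq_zero_iff]
  constructor
  · intro h
    rw [← Algebra.TensorProduct.quotIdealMapEquivQuotTensor_mk, EmbeddingLike.map_eq_zero_iff,
      Ideal.Quotient.eq_zero_iff_mem] at h
    exact h
  · intro h
    exact Groth.Agent.Lib.Helper49.FlatFS.one_tmul_eq_zero_of_mem (κ := A ⧸ J) J Ideal.mk_ker b h

end conv

section uniq

variable {A : Type u} [CommRing A] [IsLocalRing A] [IsNoetherianRing A]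
  (J : Ideal A) [IsLocalRing (A ⧸ J)]
  (B₀ : Type u) [CommRing B₀] [IsLocalRing B₀] [IsNoetherianRing B₀]
  [Algebra (A ⧸ J) B₀] [IsLocalHom (algebraMap (A ⧸ J) B₀)]

theorem uniqueness (hJ : J ≤ maximalIdeal A)
    (h₀ : CAlgX.IsAdicFormallySmooth (A ⧸ J) B₀ (maximalIdeal B₀))
    (B B' : Type u) [CommRing B] [IsLocalRing B] [IsNoetherianRing B] [Algebra A B]
    [IsLocalHom (algebraMap A B)]
    [CommRing B'] [IsLocalRing B'] [IsNoetherianRing B'] [Algebra A B']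
    [IsLocalHom (algebraMap A B')]
    (hBc : IsAdicComplete (maximalIdeal B) B) (hBf : Module.Flat A B)
    (hB'c : IsAdicComplete (maximalIdeal B') B') (hB'f : Module.Flat A B')
    (u : (A ⧸ J) ⊗[A] B ≃ₐ[A ⧸ J] B₀) (u' : (A ⧸ J) ⊗[A] B' ≃ₐ[A ⧸ J] B₀) :
    ∃ v : B ≃ₐ[A] B', (u' : (A ⧸ J) ⊗[A] B' →ₐ[A ⧸ J] B₀).comp
      (Algebra.TensorProduct.map (AlgHom.id (A ⧸ J) (A ⧸ J)) (v : B →ₐ[A] B')) =
        (u : (A ⧸ J) ⊗[A] B →ₐ[A ⧸ J] B₀) := by
  have hfs : CAlgX.IsAdicFormallySmooth A B (maximalIdeal B) :=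
    isAdicFormallySmooth_of_quot J hJ h₀ (phiOf J u) (phiOf_surjective J u) (phiOf_algebraMap J u)
      (ker_phiOf J u)
  have hcomp : (phiOf J u).comp (algebraMap A B) = (phiOf J u').comp (algebraMap A B') := by
    ext a
    rw [RingHom.comp_apply, RingHom.comp_apply, phiOf_algebraMap, phiOf_algebraMap]
  obtain ⟨v, hv⟩ := exists_algEquiv_of_flat J hJ hfs (phiOf J u) (phiOf J u')
    (phiOf_surjective J u) (phiOf_surjective J u') hcomp (ker_phiOf J u) (ker_phiOf J u')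
  refine ⟨v, AlgHom.ext fun z => ?_⟩
  obtain ⟨b, rfl⟩ := Groth.Agent.Lib.Helper49.FlatFS.exists_one_tmul (κ := A ⧸ J) (C := B)
    Ideal.Quotient.mk_surjective z
  rw [AlgHom.comp_apply, Algebra.TensorProduct.map_tmul, map_one]
  exact hv b

end uniq

end Groth.Agent.Lib.Helper49.FlatLift
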