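import Mathlib
import Groth.Agent.Lib.Helper49.FlatLift3
set_option autoImplicit false
set_option linter.style.haveILetI false
set_option linter.unusedSectionVars false
universe u
namespace Groth.Agent.Lib.Helper49.FlatLift
open IsLocalRing TensorProduct Groth.Agent.Lib.Helper61.FSAdic Groth.Agent.S7134

variable {A : Type u} [CommRing A] [IsLocalRing A] [IsNoetherianRing A]
  (J : Ideal A) [IsLocalRing (A ⧸ J)]
  (B₀ : Type u) [CommRing B₀] [IsLocalRing B₀] [IsNoetherianRing B₀]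
  [Algebra (A ⧸ J) B₀] [IsLocalHom (algebraMap (A ⧸ J) B₀)]

theorem existence (hJ : J ≤ maximalIdeal A) [IsAdicComplete (maximalIdeal B₀) B₀]
    (h₀ : CAlgX.IsAdicFormallySmooth (A ⧸ J) B₀ (maximalIdeal B₀)) :
    ∃ (B : Type u) (_ : CommRing B) (_ : IsLocalRing B) (_ : IsNoetherianRing B)
      (_ : Algebra A B) (_ : IsLocalHom (algebraMap A B)),
      IsAdicComplete (maximalIdeal B) B ∧ Module.Flat A B ∧
        Nonempty ((A ⧸ J) ⊗[A] B ≃ₐ[A ⧸ J] B₀) := by
  have hle₀ : (maximalIdeal (A ⧸ J)).map (algebraMap (A ⧸ J) B₀) ≤ maximalIdeal B₀ :=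
    IsLocalRing.map_maximalIdeal_le (algebraMap (A ⧸ J) B₀)
  have hnt₀ : Nontrivial (Fib (A ⧸ J) B₀) := Ideal.Quotient.nontrivial_iff.mpr
    (fun h => (maximalIdeal.isMaximal B₀).ne_top (top_le_iff.mp (h ▸ hle₀)))
  have hloc₀ : IsLocalRing (Fib (A ⧸ J) B₀) :=
    IsLocalRing.of_surjective' (Ideal.Quotient.mk _) Ideal.Quotient.mk_surjective
  have hmax₀ : (maximalIdeal B₀).map (Ideal.Quotient.mk
      ((maximalIdeal (A ⧸ J)).map (algebraMap (A ⧸ J) B₀))) = maximalIdeal (Fib (A ⧸ J) B₀) :=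
    map_maximalIdeal_of_surjective _ Ideal.Quotient.mk_surjective
  let : Algebra (ResidueField (A ⧸ J)) (Fib (A ⧸ J) B₀) := fibAlgebra (A ⧸ J) B₀
  have h0 := isAdicFormallySmooth_quotient (maximalIdeal (A ⧸ J)) (maximalIdeal B₀) h₀
  have h1 : CAlgX.IsAdicFormallySmooth (ResidueField (A ⧸ J)) (Fib (A ⧸ J) B₀)
      (maximalIdeal (Fib (A ⧸ J) B₀)) := by
    rw [← hmax₀]
    exact h0
  haveI hreg : IsRegularLocalRing (Fib (A ⧸ J) B₀) :=
    (Groth.Agent.Lib.Helper49.FSRegular.isRegularLocalRing_of_isAdicFormallySmooth_field h1).1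
  haveI hcomp₀ : IsAdicComplete (maximalIdeal (Fib (A ⧸ J) B₀)) (Fib (A ⧸ J) B₀) :=
    Groth.Agent.Lib.Helper38.ComplNagata.isAdicComplete_quotient B₀ _
  let φ₀ : B₀ →+* Fib (A ⧸ J) B₀ := Ideal.Quotient.mk _
  let r : A →+* Fib (A ⧸ J) B₀ :=
    φ₀.comp ((algebraMap (A ⧸ J) B₀).comp (Ideal.Quotient.mk J))
  have hmaxA : (maximalIdeal A).map (Ideal.Quotient.mk J) = maximalIdeal (A ⧸ J) :=
    map_maximalIdeal_of_surjective _ Ideal.Quotient.mk_surjective
  have hr : maximalIdeal A ≤ RingHom.ker r := by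
    intro a ha
    rw [RingHom.mem_ker]
    show φ₀ (algebraMap (A ⧸ J) B₀ (Ideal.Quotient.mk J a)) = 0
    rw [Ideal.Quotient.eq_zero_iff_mem]
    apply Ideal.mem_map_of_mem
    rw [← hmaxA]
    exact Ideal.mem_map_of_mem _ ha
  obtain ⟨B, _, _, _, _, φT, hBc, hBloc, hBflat, hφTs, hφTf, hkerφT⟩ :=
    Groth.Agent.Lib.Helper49.TwLift.exists_flat_lift_alg _ r hr
  have hmB : (maximalIdeal A).map (algebraMap A B) ≤ maximalIdeal B :=
    IsLocalRing.map_maximalIdeal_le (algebraMap A B)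
  have hJB : J.map (algebraMap A B) ≤ maximalIdeal B := (Ideal.map_mono hJ).trans hmB
  have hnt₁ : Nontrivial (B ⧸ J.map (algebraMap A B)) := Ideal.Quotient.nontrivial_iff.mpr
    (fun h => (maximalIdeal.isMaximal B).ne_top (top_le_iff.mp (h ▸ hJB)))
  have hloc₁ : IsLocalRing (B ⧸ J.map (algebraMap A B)) :=
    IsLocalRing.of_surjective' (Ideal.Quotient.mk _) Ideal.Quotient.mk_surjective
  haveI hB₁c : IsAdicComplete (maximalIdeal (B ⧸ J.map (algebraMap A B)))
      (B ⧸ J.map (algebraMap A B)) :=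
    Groth.Agent.Lib.Helper38.ComplNagata.isAdicComplete_quotient B _
  haveI hB₁flat : Module.Flat (A ⧸ J) (B ⧸ J.map (algebraMap A B)) :=
    Groth.Agent.Lib.Helper49.FSQuot.flat_quotient J
  haveI hB₁loc : IsLocalHom (algebraMap (A ⧸ J) (B ⧸ J.map (algebraMap A B))) := by
    constructor
    intro a ha
    obtain ⟨x, rfl⟩ := Ideal.Quotient.mk_surjective a
    have h1 : algebraMap (A ⧸ J) (B ⧸ J.map (algebraMap A B)) (Ideal.Quotient.mk J x) =
        Ideal.Quotient.mk _ (algebraMap A B x) := rfl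
    rw [h1] at ha
    have hmk : IsLocalHom (Ideal.Quotient.mk (J.map (algebraMap A B))) :=
      IsLocalHom.of_surjective _ Ideal.Quotient.mk_surjective
    have h2 : IsUnit (algebraMap A B x) := hmk.map_nonunit _ ha
    have h3 : IsUnit x := (isUnit_map_iff (algebraMap A B) x).mp h2
    exact h3.map _
  have hle₁ : J.map (algebraMap A B) ≤ RingHom.ker φT := by
    rw [hkerφT]
    exact Ideal.map_mono hJ
  let φ₁ : B ⧸ J.map (algebraMap A B) →+* Fib (A ⧸ J) B₀ :=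
    Ideal.Quotient.lift _ φT (fun x hx => hle₁ hx)
  have hφ₁s : Function.Surjective φ₁ := by
    intro y
    obtain ⟨b, rfl⟩ := hφTs y
    exact ⟨Ideal.Quotient.mk _ b, Ideal.Quotient.lift_mk _ _ _⟩
  have hsq : (Ideal.Quotient.mk (J.map (algebraMap A B))).comp (algebraMap A B) =
      (algebraMap (A ⧸ J) (B ⧸ J.map (algebraMap A B))).comp (Ideal.Quotient.mk J) := by
    ext a
    rfl
  have hkerφ₁ : RingHom.ker φ₁ = (maximalIdeal (A ⧸ J)).map
      (algebraMap (A ⧸ J) (B ⧸ J.map (algebraMap A B))) := by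
    show RingHom.ker (Ideal.Quotient.lift _ φT _) = _
    rw [Ideal.ker_quotient_lift, hkerφT, Ideal.map_map, ← hmaxA, Ideal.map_map, hsq]
  have hcomp : φ₀.comp (algebraMap (A ⧸ J) B₀) =
      φ₁.comp (algebraMap (A ⧸ J) (B ⧸ J.map (algebraMap A B))) := by
    apply Ideal.Quotient.ringHom_ext
    ext a
    show r a = φT (algebraMap A B a)
    rw [← RingHom.comp_apply φT, hφTf]
  obtain ⟨v, -⟩ := exists_algEquiv_of_flat (A := A ⧸ J) (B := B₀)
    (B' := B ⧸ J.map (algebraMap A B)) (maximalIdeal (A ⧸ J)) le_rfl h₀ φ₀ φ₁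
    Ideal.Quotient.mk_surjective hφ₁s hcomp Ideal.mk_ker hkerφ₁
  exact ⟨B, inferInstance, inferInstance, inferInstance, inferInstance, hBloc, hBc, hBflat,
    ⟨(Algebra.TensorProduct.quotIdealMapEquivQuotTensor B J).symm.trans v.symm⟩⟩

end Groth.Agent.Lib.Helper49.FlatLift
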