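import Mathlib
import Groth.Agent.Lib.Helper49.FlatLift4
import Groth.Agent.Lib.Helper49.FlatFS4
import Groth.Agent.Lib.Helper25.CompleteFinite
import Groth.Agent.Lib.Helper38.ComplNagata
import Groth.Agent.Lib.Helper7.ProdLocal
import Groth.Agent.S7134

set_option autoImplicit false
set_option linter.style.haveILetI false
set_option linter.unusedSectionVars false
universe u

namespace Groth.Agent.Lib.Helper49.FSReg

open TensorProduct IsLocalRing Groth.Agent.Lib.Helper61.FSAdic Groth.Agent.Lib.Helper49.FlatLift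

section Local

variable {P A : Type u} [CommRing P] [IsLocalRing P] [IsNoetherianRing P]
  [CommRing A] [IsLocalRing A] [IsNoetherianRing A] [Algebra P A] [Module.Finite P A]
  [IsLocalHom (algebraMap P A)]

omit [IsNoetherianRing A] [IsLocalHom (algebraMap P A)] in
theorem exists_pow_le : ∃ c : ℕ, maximalIdeal A ^ c ≤ (maximalIdeal P).map (algebraMap P A) := by
  have hart : IsArtinianRing (A ⧸ Ideal.map (algebraMap P A) (maximalIdeal P)) :=
    Groth.Agent.Lib.Helper7.isArtinianRing_quot P A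
  have hsurj := Ideal.Quotient.mk_surjective
    (I := Ideal.map (algebraMap P A) (maximalIdeal P))
  have hjac : (maximalIdeal A).map
      (Ideal.Quotient.mk (Ideal.map (algebraMap P A) (maximalIdeal P))) ≤
      Ideal.jacobson ⊥ := by
    rw [Ideal.jacobson, le_sInf_iff]
    rintro M ⟨-, hM⟩
    rw [Ideal.map_le_iff_le_comap]
    have hcm : (M.comap (Ideal.Quotient.mk
        (Ideal.map (algebraMap P A) (maximalIdeal P)))).IsMaximal :=
      Ideal.comap_isMaximal_of_surjective _ hsurj
    rw [IsLocalRing.eq_maximalIdeal hcm]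
  obtain ⟨c, hc⟩ := IsArtinianRing.isNilpotent_jacobson_bot
    (R := A ⧸ Ideal.map (algebraMap P A) (maximalIdeal P))
  refine ⟨c, ?_⟩
  have h1 : (maximalIdeal A ^ c).map
      (Ideal.Quotient.mk (Ideal.map (algebraMap P A) (maximalIdeal P))) = ⊥ := by
    rw [Ideal.map_pow, eq_bot_iff, ← Ideal.zero_eq_bot, ← hc]
    exact Ideal.pow_right_mono hjac c
  rw [Ideal.map_eq_bot_iff_le_ker, Ideal.mk_ker] at h1
  exact h1

end Local

section Tensor

variable {P A B C B₀ : Type u} [CommRing P] [IsLocalRing P] [IsNoetherianRing P]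
  [CommRing A] [IsLocalRing A] [IsNoetherianRing A] [Algebra P A] [Module.Finite P A]
  [IsLocalHom (algebraMap P A)]
  [CommRing B] [IsLocalRing B] [IsNoetherianRing B] [IsAdicComplete (maximalIdeal B) B]
  [Algebra A B] [IsLocalHom (algebraMap A B)]
  [CommRing C] [IsLocalRing C] [IsNoetherianRing C] [IsAdicComplete (maximalIdeal C) C]
  [Algebra P C] [IsLocalHom (algebraMap P C)] [Module.Flat P C]
  [CommRing B₀] [IsLocalRing B₀]

attribute [local instance] Algebra.TensorProduct.rightAlgebra in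
theorem exists_equiv_tensor
    (hres : Function.Surjective ((IsLocalRing.residue A).comp (algebraMap P A)))
    (hfs : CAlgX.IsAdicFormallySmooth A B (maximalIdeal B))
    (φ : B →+* B₀) (hφs : Function.Surjective φ)
    (hφk : RingHom.ker φ = (maximalIdeal A).map (algebraMap A B))
    (φC : C →+* B₀) (hφCs : Function.Surjective φC)
    (hφCk : RingHom.ker φC = (maximalIdeal P).map (algebraMap P C))
    (hcomm : ∀ p : P, φC (algebraMap P C p) = φ (algebraMap A B (algebraMap P A p))) :
    ∃ v : B ≃+* (C ⊗[P] A), ∀ a, v (algebraMap A B a) = (1 : C) ⊗ₜ[P] a := by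
  classical
  letI algPB₀ : Algebra P B₀ := (φC.comp (algebraMap P C)).toAlgebra
  let fC : C →ₐ[P] B₀ := { φC with commutes' := fun _ => rfl }
  let fA : A →ₐ[P] B₀ :=
    { φ.comp (algebraMap A B) with
      commutes' := fun p => (hcomm p).symm }
  let φ' : C ⊗[P] A →+* B₀ := (Algebra.TensorProduct.productMap fC fA).toRingHom
  have hφ'tmul : ∀ (c : C) (a : A), φ' (c ⊗ₜ[P] a) = φC c * φ (algebraMap A B a) := fun c a =>
    Algebra.TensorProduct.productMap_apply_tmul fC fA c a
  have halgA : ∀ a : A, algebraMap A (C ⊗[P] A) a = (1 : C) ⊗ₜ[P] a := fun a => rfl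
  have hφ's : Function.Surjective φ' := by
    intro y
    obtain ⟨c, rfl⟩ := hφCs y
    exact ⟨c ⊗ₜ[P] 1, by rw [hφ'tmul, map_one, map_one, mul_one]⟩
  have hmA : ∀ a ∈ maximalIdeal A, φ (algebraMap A B a) = 0 := by
    intro a ha
    rw [← RingHom.mem_ker, hφk]
    exact Ideal.mem_map_of_mem _ ha
  have hIle : (maximalIdeal A).map (algebraMap A (C ⊗[P] A)) ≤ RingHom.ker φ' := by
    rw [Ideal.map_le_iff_le_comap]
    intro a ha
    rw [Ideal.mem_comap, RingHom.mem_ker, halgA, hφ'tmul, hmA a ha, mul_zero]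
  have hdecomp : ∀ t : C ⊗[P] A, ∃ c : C,
      t - c ⊗ₜ[P] (1 : A) ∈ (maximalIdeal A).map (algebraMap A (C ⊗[P] A)) := by
    intro t
    induction t using TensorProduct.induction_on with
    | zero => exact ⟨0, by rw [TensorProduct.zero_tmul, sub_zero]; exact Ideal.zero_mem _⟩
    | tmul c a =>
      obtain ⟨p, hp⟩ := hres (IsLocalRing.residue A a)
      have hp' : a - algebraMap P A p ∈ maximalIdeal A := by
        rw [← IsLocalRing.residue_eq_zero_iff, map_sub, sub_eq_zero]
        exact hp.symm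
      refine ⟨p • c, ?_⟩
      have h1 : c ⊗ₜ[P] a - (p • c) ⊗ₜ[P] (1 : A) =
          (c ⊗ₜ[P] (1 : A)) * algebraMap A (C ⊗[P] A) (a - algebraMap P A p) := by
        rw [halgA, Algebra.TensorProduct.tmul_mul_tmul, mul_one, one_mul, TensorProduct.tmul_sub,
          TensorProduct.smul_tmul, Algebra.smul_def, mul_one]
      rw [h1]
      exact Ideal.mul_mem_left _ _ (Ideal.mem_map_of_mem _ hp')
    | add x y hx hy =>
      obtain ⟨c, hc⟩ := hx
      obtain ⟨d, hd⟩ := hy
      refine ⟨c + d, ?_⟩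
      have : x + y - (c + d) ⊗ₜ[P] (1 : A) = (x - c ⊗ₜ[P] 1) + (y - d ⊗ₜ[P] 1) := by
        rw [TensorProduct.add_tmul]
        ring
      rw [this]
      exact Ideal.add_mem _ hc hd
  have hmPC : ∀ c ∈ (maximalIdeal P).map (algebraMap P C),
      c ⊗ₜ[P] (1 : A) ∈ (maximalIdeal A).map (algebraMap A (C ⊗[P] A)) := by
    intro c hc
    have hle : (maximalIdeal P).map (algebraMap P C) ≤
        ((maximalIdeal A).map (algebraMap A (C ⊗[P] A))).comap
          (Algebra.TensorProduct.includeLeftRingHom : C →+* C ⊗[P] A) := by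
      rw [Ideal.map_le_iff_le_comap]
      intro p hp
      rw [Ideal.mem_comap, Ideal.mem_comap]
      show (algebraMap P C p) ⊗ₜ[P] (1 : A) ∈ _
      rw [Algebra.algebraMap_eq_smul_one, TensorProduct.smul_tmul, ← Algebra.algebraMap_eq_smul_one,
        ← halgA]
      apply Ideal.mem_map_of_mem
      exact map_nonunit (algebraMap P A) p hp
    exact hle hc
  have hker' : RingHom.ker φ' = (maximalIdeal A).map (algebraMap A (C ⊗[P] A)) := by
    apply le_antisymm _ hIle
    intro t ht
    obtain ⟨c, hc⟩ := hdecomp t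
    have h1 : φ' (c ⊗ₜ[P] (1 : A)) = 0 := by
      have h2 := hIle hc
      rw [RingHom.mem_ker, map_sub, RingHom.mem_ker.mp ht, zero_sub, neg_eq_zero] at h2
      exact h2
    rw [hφ'tmul, map_one, map_one, mul_one, ← RingHom.mem_ker, hφCk] at h1
    have h3 := hmPC c h1
    have : t = (t - c ⊗ₜ[P] (1 : A)) + c ⊗ₜ[P] (1 : A) := by ring
    rw [this]
    exact Ideal.add_mem _ hc h3
  haveI hstPA : IsScalarTower P A (C ⊗[P] A) := Algebra.TensorProduct.right_isScalarTower
  haveI hfinT : Module.Finite C (C ⊗[P] A) := inferInstance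
  haveI hTN : IsNoetherianRing (C ⊗[P] A) := IsNoetherianRing.of_finite C (C ⊗[P] A)
  have hkerM : ∀ M : Ideal (C ⊗[P] A), M.IsMaximal → RingHom.ker φ' ≤ M := by
    intro M hM
    have h1 : Ideal.map (algebraMap C (C ⊗[P] A)) (maximalIdeal C) ≤ M :=
      Groth.Agent.Lib.Helper7.map_le_of_isMaximal C (maximalIdeal C)
        (IsLocalRing.maximalIdeal_le_jacobson ⊥) (C ⊗[P] A) M
    obtain ⟨c, hc⟩ := exists_pow_le (P := P) (A := A)
    have h2 : ((maximalIdeal A).map (algebraMap A (C ⊗[P] A))) ^ c ≤ M := by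
      rw [← Ideal.map_pow]
      refine (Ideal.map_mono hc).trans ?_
      rw [Ideal.map_map, ← IsScalarTower.algebraMap_eq, IsScalarTower.algebraMap_eq P C (C ⊗[P] A),
        ← Ideal.map_map]
      exact (Ideal.map_mono (IsLocalRing.map_maximalIdeal_le (algebraMap P C))).trans h1
    rw [hker']
    exact hM.isPrime.le_of_pow_le h2
  have hM₀ : (Ideal.comap φ' (maximalIdeal B₀)).IsMaximal :=
    Ideal.comap_isMaximal_of_surjective φ' hφ's
  haveI hTloc : IsLocalRing (C ⊗[P] A) := by
    refine IsLocalRing.of_unique_max_ideal ⟨_, hM₀, fun M hM => ?_⟩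
    have hle : M ≤ Ideal.comap φ' (maximalIdeal B₀) := by
      intro t ht
      rw [Ideal.mem_comap, IsLocalRing.mem_maximalIdeal, mem_nonunits_iff]
      intro hu
      obtain ⟨s', hs'⟩ := hu.exists_right_inv
      obtain ⟨s, rfl⟩ := hφ's s'
      have h3 : t * s - 1 ∈ RingHom.ker φ' := by
        rw [RingHom.mem_ker, map_sub, map_mul, hs', map_one, sub_self]
      have h4 := hkerM M hM h3
      have h5 : (1 : C ⊗[P] A) ∈ M := by
        have : (1 : C ⊗[P] A) = t * s - (t * s - 1) := by ring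
        rw [this]
        exact Ideal.sub_mem _ (Ideal.mul_mem_right _ _ ht) h4
      exact hM.ne_top ((Ideal.eq_top_iff_one _).mpr h5)
    exact hM.eq_of_le hM₀.ne_top hle
  haveI hφloc : IsLocalHom φ := IsLocalHom.of_surjective φ hφs
  haveI hAT : IsLocalHom (algebraMap A (C ⊗[P] A)) := by
    refine ⟨fun a ha => ?_⟩
    have h1 : IsUnit (φ' (algebraMap A (C ⊗[P] A) a)) := ha.map φ'
    rw [halgA, hφ'tmul, map_one, one_mul] at h1
    exact (isUnit_map_iff (algebraMap A B) a).mp ((isUnit_map_iff φ _).mp h1)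
  haveI hTc : IsAdicComplete (maximalIdeal (C ⊗[P] A)) (C ⊗[P] A) :=
    Groth.Agent.Lib.Helper25.isAdicComplete_of_finite_of_isLocalRing C (C ⊗[P] A)
  haveI hTflat : Module.Flat A (C ⊗[P] A) := by
    have h0 : Module.Flat A (A ⊗[P] C) := inferInstance
    let e : (A ⊗[P] C) ≃ₐ[A] (C ⊗[P] A) :=
      { Algebra.TensorProduct.comm P A C with
        commutes' := fun a => by
          show Algebra.TensorProduct.comm P A C (a ⊗ₜ 1) = 1 ⊗ₜ a
          simp }
    exact Module.Flat.of_linearEquiv e.toLinearEquiv.symm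
  have hcomp : φ.comp (algebraMap A B) = φ'.comp (algebraMap A (C ⊗[P] A)) := by
    ext a
    rw [RingHom.comp_apply, RingHom.comp_apply, halgA, hφ'tmul, map_one, one_mul]
  obtain ⟨v, -⟩ := exists_algEquiv_of_flat (A := A) (B := B) (B' := C ⊗[P] A)
    (maximalIdeal A) le_rfl hfs φ φ' hφs hφ's hcomp hφk hker'
  exact ⟨v.toRingEquiv, fun a => by
    show v (algebraMap A B a) = _
    rw [v.commutes, halgA]⟩

end Tensor

section Base

variable {P A B : Type u} [CommRing P] [IsLocalRing P] [IsNoetherianRing P]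
  [CommRing A] [IsLocalRing A] [IsNoetherianRing A] [Algebra P A] [Module.Finite P A]
  [IsLocalHom (algebraMap P A)]
  [CommRing B] [IsLocalRing B] [IsNoetherianRing B] [IsAdicComplete (maximalIdeal B) B]
  [Algebra A B] [IsLocalHom (algebraMap A B)]

theorem exists_base
    (hres : Function.Surjective ((IsLocalRing.residue A).comp (algebraMap P A)))
    (hfs : CAlgX.IsAdicFormallySmooth A B (maximalIdeal B)) :
    ∃ (C : Type u) (_ : CommRing C) (_ : IsLocalRing C) (_ : IsNoetherianRing C)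
      (_ : Algebra P C) (_ : IsLocalHom (algebraMap P C)),
      IsAdicComplete (maximalIdeal C) C ∧ Module.Flat P C ∧
        CAlgX.IsAdicFormallySmooth P C (maximalIdeal C) ∧
        ∃ v : B ≃+* (C ⊗[P] A), ∀ a, v (algebraMap A B a) = (1 : C) ⊗ₜ[P] a := by
  classical
  have hle : (maximalIdeal A).map (algebraMap A B) ≤ maximalIdeal B :=
    IsLocalRing.map_maximalIdeal_le (algebraMap A B)
  haveI hnt : Nontrivial (B ⧸ (maximalIdeal A).map (algebraMap A B)) :=
    Ideal.Quotient.nontrivial_iff.mpr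
      (fun h => (maximalIdeal.isMaximal B).ne_top (top_le_iff.mp (h ▸ hle)))
  haveI hloc : IsLocalRing (B ⧸ (maximalIdeal A).map (algebraMap A B)) :=
    IsLocalRing.of_surjective' (Ideal.Quotient.mk _) Ideal.Quotient.mk_surjective
  haveI hcpl : IsAdicComplete (maximalIdeal (B ⧸ (maximalIdeal A).map (algebraMap A B)))
      (B ⧸ (maximalIdeal A).map (algebraMap A B)) :=
    Groth.Agent.Lib.Helper38.ComplNagata.isAdicComplete_quotient B _
  letI fP : Field (P ⧸ maximalIdeal P) := Ideal.Quotient.field _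
  let g : P →+* B ⧸ (maximalIdeal A).map (algebraMap A B) :=
    (Ideal.Quotient.mk _).comp ((algebraMap A B).comp (algebraMap P A))
  have hg : ∀ p ∈ maximalIdeal P, g p = 0 := by
    intro p hp
    show Ideal.Quotient.mk _ (algebraMap A B (algebraMap P A p)) = 0
    rw [Ideal.Quotient.eq_zero_iff_mem]
    exact Ideal.mem_map_of_mem _ (map_nonunit (algebraMap P A) p hp)
  letI algkB : Algebra (P ⧸ maximalIdeal P) (B ⧸ (maximalIdeal A).map (algebraMap A B)) :=
    (Ideal.Quotient.lift (maximalIdeal P) g hg).toAlgebra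
  haveI hlockB : IsLocalHom (algebraMap (P ⧸ maximalIdeal P)
      (B ⧸ (maximalIdeal A).map (algebraMap A B))) := by
    refine ⟨fun x hx => ?_⟩
    have hx0 : x ≠ 0 := by
      rintro rfl
      rw [map_zero] at hx
      exact not_isUnit_zero hx
    exact isUnit_iff_ne_zero.mpr hx0
  let gA : P →+* A ⧸ maximalIdeal A := (Ideal.Quotient.mk _).comp (algebraMap P A)
  have hgA : ∀ p ∈ maximalIdeal P, gA p = 0 := by
    intro p hp
    show Ideal.Quotient.mk _ (algebraMap P A p) = 0
    rw [Ideal.Quotient.eq_zero_iff_mem]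
    exact map_nonunit (algebraMap P A) p hp
  letI algkk : Algebra (P ⧸ maximalIdeal P) (A ⧸ maximalIdeal A) :=
    (Ideal.Quotient.lift (maximalIdeal P) gA hgA).toAlgebra
  haveI hst : IsScalarTower (P ⧸ maximalIdeal P) (A ⧸ maximalIdeal A)
      (B ⧸ (maximalIdeal A).map (algebraMap A B)) :=
    IsScalarTower.of_algebraMap_eq (fun x => by
      obtain ⟨p, rfl⟩ := Ideal.Quotient.mk_surjective x
      rfl)
  have hbij : Function.Bijective (algebraMap (P ⧸ maximalIdeal P) (A ⧸ maximalIdeal A)) := by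
    refine ⟨RingHom.injective _, fun y => ?_⟩
    obtain ⟨p, hp⟩ := hres y
    exact ⟨Ideal.Quotient.mk _ p, hp⟩
  have h1 : CAlgX.IsAdicFormallySmooth (A ⧸ maximalIdeal A)
      (B ⧸ (maximalIdeal A).map (algebraMap A B))
      (maximalIdeal (B ⧸ (maximalIdeal A).map (algebraMap A B))) := by
    have := Groth.Agent.S7134.isAdicFormallySmooth_quotient (maximalIdeal A) (maximalIdeal B) hfs
    rwa [IsLocalRing.map_maximalIdeal_of_surjective _ Ideal.Quotient.mk_surjective] at this
  have h₀ : CAlgX.IsAdicFormallySmooth (P ⧸ maximalIdeal P)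
      (B ⧸ (maximalIdeal A).map (algebraMap A B))
      (maximalIdeal (B ⧸ (maximalIdeal A).map (algebraMap A B))) :=
    Groth.Agent.Lib.Helper49.FlatFS.isAdicFormallySmooth_of_bijective hbij _ h1
  obtain ⟨C, iC1, iC2, iC3, iC4, iC5, hCc, hCf, ⟨w⟩⟩ :=
    existence (A := P) (maximalIdeal P) (B ⧸ (maximalIdeal A).map (algebraMap A B)) le_rfl h₀
  have hφCalg : ∀ p : P, phiOf (maximalIdeal P) w (algebraMap P C p) =
      Ideal.Quotient.mk _ (algebraMap A B (algebraMap P A p)) := fun p => by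
    rw [phiOf_algebraMap]
    rfl
  have hCfs : CAlgX.IsAdicFormallySmooth P C (maximalIdeal C) :=
    isAdicFormallySmooth_of_quot (maximalIdeal P) le_rfl h₀ (phiOf (maximalIdeal P) w)
      (phiOf_surjective _ w) (phiOf_algebraMap _ w) (ker_phiOf _ w)
  obtain ⟨v, hv⟩ := exists_equiv_tensor (P := P) (A := A) (B := B) (C := C) hres hfs
    (Ideal.Quotient.mk _) Ideal.Quotient.mk_surjective Ideal.mk_ker
    (phiOf (maximalIdeal P) w) (phiOf_surjective _ w) (ker_phiOf _ w) hφCalg
  exact ⟨C, iC1, iC2, iC3, iC4, iC5, hCc, hCf, hCfs, v, hv⟩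

end Base

end Groth.Agent.Lib.Helper49.FSReg
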