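import Mathlib
import Groth.Agent.Lib.Helper49.FSReg1
import Groth.Agent.Lib.Helper49.FSReg2
import Groth.Agent.Lib.Helper49.FSTransfer
import Groth.Agent.Lib.Helper49.CplQuot
import Groth.Agent.Lib.Helper70.CohenFact2
import Groth.Agent.S0581
import Groth.Agent.S4583

set_option autoImplicit false
set_option linter.style.haveILetI false
set_option linter.unusedSectionVars false
universe u

namespace Groth.Agent.Lib.Helper49.FSReg

open TensorProduct IsLocalRing

section Generic

variable {A' B' : Type u} [CommRing A'] [IsDomain A'] [IsLocalRing A'] [IsNoetherianRing A']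
  [IsAdicComplete (maximalIdeal A') A']
  [CommRing B'] [IsLocalRing B'] [IsNoetherianRing B'] [IsAdicComplete (maximalIdeal B') B']
  [Algebra A' B'] [IsLocalHom (algebraMap A' B')]

theorem fs_generic_aux {P : Type u} [CommRing P] [IsDomain P] [IsRegularLocalRing P]
    [Algebra P A'] [Module.Finite P A'] (hinj : Function.Injective (algebraMap P A'))
    (hres : Function.Surjective ((IsLocalRing.residue A').comp (algebraMap P A')))
    (hgen : ∀ (C : Type u) [CommRing C] [IsLocalRing C] [IsNoetherianRing C]
      [IsAdicComplete (maximalIdeal C) C] [Algebra P C] [IsLocalHom (algebraMap P C)],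
      CAlgX.IsAdicFormallySmooth P C (maximalIdeal C) →
      CAlg.IsGeometricallyRegular (⊥ : Ideal P).ResidueField ((⊥ : Ideal P).Fiber C))
    (hfs : CAlgX.IsAdicFormallySmooth A' B' (maximalIdeal B'))
    (q' : Ideal B') [q'.IsPrime]
    (KB : Type u) [Field KB] [Algebra A' KB] [IsFractionRing A' KB]
    [Algebra KB (Localization.AtPrime q')]
    (hK : ∀ a : A', algebraMap KB (Localization.AtPrime q') (algebraMap A' KB a) =
      algebraMap B' (Localization.AtPrime q') (algebraMap A' B' a)) :
    CAlgX.IsAdicFormallySmooth KB (Localization.AtPrime q')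
      (maximalIdeal (Localization.AtPrime q')) := by
  classical
  haveI hlocPA : IsLocalHom (algebraMap P A') :=
    RingHom.IsIntegral.isLocalHom (RingHom.IsIntegral.of_finite
      (RingHom.finite_algebraMap.mpr inferInstance)) hinj
  obtain ⟨C, iC1, iC2, iC3, iC4, iC5, hCc, hCf, hCfs, v, hv⟩ :=
    exists_base (P := P) (A := A') (B := B') hres hfs
  have hAC := hgen C hCfs
  letI algTE : Algebra (C ⊗[P] A') (Localization.AtPrime q') :=
    ((algebraMap B' (Localization.AtPrime q')).comp v.symm.toRingHom).toAlgebra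
  haveI hloc2 : IsLocalization (q'.primeCompl.map v) (Localization.AtPrime q') :=
    IsLocalization.isLocalization_of_base_ringEquiv q'.primeCompl (Localization.AtPrime q') v
  refine Groth.Agent.Lib.Helper49.FSTransfer.fs_transfer (A := P) (B := A') (Ah := C)
    (E := Localization.AtPrime q') (KB := KB) hinj (q'.primeCompl.map v) ?_ hAC
  intro a
  show algebraMap B' (Localization.AtPrime q') (v.symm ((1 : C) ⊗ₜ[P] a)) = _
  rw [← hv a, RingEquiv.symm_apply_apply, hK]

theorem fs_generic
    (hfs : CAlgX.IsAdicFormallySmooth A' B' (maximalIdeal B'))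
    (q' : Ideal B') [q'.IsPrime]
    (KB : Type u) [Field KB] [Algebra A' KB] [IsFractionRing A' KB]
    [Algebra KB (Localization.AtPrime q')]
    (hK : ∀ a : A', algebraMap KB (Localization.AtPrime q') (algebraMap A' KB a) =
      algebraMap B' (Localization.AtPrime q') (algebraMap A' B' a)) :
    CAlgX.IsAdicFormallySmooth KB (Localization.AtPrime q')
      (maximalIdeal (Localization.AtPrime q')) := by
  classical
  obtain ⟨Λ, hΛring, n, f, hΛ, hfinj, hffin, hfres⟩ := Groth.Agent.S0581.result A'
  letI algPA : Algebra (MvPowerSeries (Fin n) Λ) A' := f.toAlgebra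
  haveI hfin : Module.Finite (MvPowerSeries (Fin n) Λ) A' := hffin
  have hinj : Function.Injective (algebraMap (MvPowerSeries (Fin n) Λ) A') := hfinj
  have hres : Function.Surjective ((IsLocalRing.residue A').comp
      (algebraMap (MvPowerSeries (Fin n) Λ) A')) := hfres
  rcases hΛ with hfield | hcohen
  · letI := hfield.toField
    haveI : IsDomain (MvPowerSeries (Fin n) Λ) := NoZeroDivisors.to_isDomain _
    haveI := Groth.Agent.Lib.Helper49.FSRegular.isRegularLocalRing_mvPowerSeries Λ n
    exact fs_generic_aux hinj hres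
      (fun C _ _ _ _ _ _ hC => generic_fibre_geomReg_field Λ n C hC) hfs q' KB hK
  · haveI : CharZero Λ := Groth.Agent.S4583.charZero_of_isCohenRing Λ hcohen
    obtain ⟨hdom, hdvr, hcompl, pp, hpp, hmax⟩ := hcohen
    haveI : IsDomain (MvPowerSeries (Fin n) Λ) := NoZeroDivisors.to_isDomain _
    haveI := Groth.Agent.Lib.Helper70.CohenFact.isRegularLocalRing_mvPowerSeries Λ n
    haveI : CharZero (MvPowerSeries (Fin n) Λ) :=
      charZero_of_injective_ringHom (MvPowerSeries.C_injective (σ := Fin n) (R := Λ))
    exact fs_generic_aux hinj hres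
      (fun C _ _ _ _ _ _ hC => generic_fibre_geomReg_charZero hC) hfs q' KB hK

end Generic

section Fibre

variable {A B : Type u} [CommRing A] [IsLocalRing A] [IsNoetherianRing A]
  [IsAdicComplete (maximalIdeal A) A]
  [CommRing B] [IsLocalRing B] [IsNoetherianRing B] [IsAdicComplete (maximalIdeal B) B]
  [Algebra A B] [IsLocalHom (algebraMap A B)]

theorem fibre_fs (hfs : CAlgX.IsAdicFormallySmooth A B (maximalIdeal B))
    (r₀ : Ideal A) [r₀.IsPrime] (q : Ideal B) [q.IsPrime]
    (hq : q.comap (algebraMap A B) = r₀)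
    (I : Ideal (Localization.AtPrime q))
    (hI : I = (r₀.map (algebraMap A B)).map (algebraMap B (Localization.AtPrime q)))
    (K' : Type u) [Field K'] [Algebra (A ⧸ r₀) K'] [IsFractionRing (A ⧸ r₀) K']
    [Algebra K' (Localization.AtPrime q ⧸ I)]
    (hcompat : ∀ a : A, algebraMap K' (Localization.AtPrime q ⧸ I)
        (algebraMap (A ⧸ r₀) K' (Ideal.Quotient.mk r₀ a)) =
      Ideal.Quotient.mk I (algebraMap B (Localization.AtPrime q) (algebraMap A B a))) :
    CAlgX.IsAdicFormallySmooth K' (Localization.AtPrime q ⧸ I)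
      ((maximalIdeal (Localization.AtPrime q)).map (Ideal.Quotient.mk I)) := by
  classical
  haveI hdom : IsDomain (A ⧸ r₀) := Ideal.Quotient.isDomain r₀
  haveI hloc : IsLocalRing (A ⧸ r₀) :=
    IsLocalRing.of_surjective' (Ideal.Quotient.mk r₀) Ideal.Quotient.mk_surjective
  haveI hcompl : IsAdicComplete (maximalIdeal (A ⧸ r₀)) (A ⧸ r₀) :=
    Groth.Agent.Lib.Helper38.ComplNagata.isAdicComplete_quotient A r₀
  have hr₀m : r₀ ≤ maximalIdeal A := IsLocalRing.le_maximalIdeal (Ideal.IsPrime.ne_top inferInstance)
  have hle : r₀.map (algebraMap A B) ≤ maximalIdeal B :=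
    (Ideal.map_mono hr₀m).trans (IsLocalRing.map_maximalIdeal_le (algebraMap A B))
  haveI hnt : Nontrivial (B ⧸ r₀.map (algebraMap A B)) :=
    Ideal.Quotient.nontrivial_iff.mpr
      (fun h => (maximalIdeal.isMaximal B).ne_top (top_le_iff.mp (h ▸ hle)))
  haveI hlocB : IsLocalRing (B ⧸ r₀.map (algebraMap A B)) :=
    IsLocalRing.of_surjective' (Ideal.Quotient.mk _) Ideal.Quotient.mk_surjective
  haveI hcplB : IsAdicComplete (maximalIdeal (B ⧸ r₀.map (algebraMap A B)))
      (B ⧸ r₀.map (algebraMap A B)) :=
    Groth.Agent.Lib.Helper38.ComplNagata.isAdicComplete_quotient B _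
  let ψ : B →+* B ⧸ r₀.map (algebraMap A B) := Ideal.Quotient.mk _
  have hψs : Function.Surjective ψ := Ideal.Quotient.mk_surjective
  have hψk : RingHom.ker ψ = r₀.map (algebraMap A B) := Ideal.mk_ker
  haveI hψloc : IsLocalHom ψ := IsLocalHom.of_surjective ψ hψs
  have halgA'B' : ∀ a : A, algebraMap (A ⧸ r₀) (B ⧸ r₀.map (algebraMap A B))
      (Ideal.Quotient.mk r₀ a) = ψ (algebraMap A B a) := fun a => rfl
  haveI hlocA'B' : IsLocalHom (algebraMap (A ⧸ r₀) (B ⧸ r₀.map (algebraMap A B))) := by
    refine ⟨fun x hx => ?_⟩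
    obtain ⟨a, rfl⟩ := Ideal.Quotient.mk_surjective x
    rw [halgA'B'] at hx
    have h1 : IsUnit a := (isUnit_map_iff (algebraMap A B) a).mp ((isUnit_map_iff ψ _).mp hx)
    exact h1.map _
  have hfs' : CAlgX.IsAdicFormallySmooth (A ⧸ r₀) (B ⧸ r₀.map (algebraMap A B))
      (maximalIdeal (B ⧸ r₀.map (algebraMap A B))) := by
    have := Groth.Agent.S7134.isAdicFormallySmooth_quotient r₀ (maximalIdeal B) hfs
    rwa [IsLocalRing.map_maximalIdeal_of_surjective _ Ideal.Quotient.mk_surjective] at this
  have hkq : RingHom.ker ψ ≤ q := by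
    rw [hψk, Ideal.map_le_iff_le_comap, hq]
  let q' := q.map ψ
  haveI hq'p : q'.IsPrime := Ideal.map_isPrime_of_surjective hψs hkq
  have hq'c : q'.comap ψ = q := by
    show (q.map ψ).comap ψ = q
    rw [Ideal.comap_map_of_surjective' _ hψs]
    exact sup_eq_left.mpr hkq
  obtain ⟨τ, hτ⟩ := Groth.Agent.Lib.Helper49.CplQuot.exists_equiv_loc ψ hψs q q' hq'c
  have hI' : I = (RingHom.ker ψ).map (algebraMap _ (Localization.AtPrime q)) := by
    rw [hψk]
    exact hI
  let τ' : (Localization.AtPrime q ⧸ I) ≃+* Localization.AtPrime q' :=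
    (Ideal.quotEquivOfEq hI').trans τ
  have hτ' : ∀ x, τ' (Ideal.Quotient.mk I (algebraMap _ (Localization.AtPrime q) x)) =
      algebraMap _ (Localization.AtPrime q') (ψ x) := by
    intro x
    show τ ((Ideal.quotEquivOfEq hI') (Ideal.Quotient.mk I (algebraMap _ _ x))) = _
    rw [Ideal.quotEquivOfEq_mk, hτ]
  letI algKE : Algebra K' (Localization.AtPrime q') :=
    (τ'.toRingHom.comp (algebraMap K' (Localization.AtPrime q ⧸ I))).toAlgebra
  have halgKE : ∀ x : K', algebraMap K' (Localization.AtPrime q') x =
      τ' (algebraMap K' (Localization.AtPrime q ⧸ I) x) := fun x => rfl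
  have hK : ∀ a' : A ⧸ r₀, algebraMap K' (Localization.AtPrime q') (algebraMap (A ⧸ r₀) K' a') =
      algebraMap (B ⧸ r₀.map (algebraMap A B)) (Localization.AtPrime q')
        (algebraMap (A ⧸ r₀) (B ⧸ r₀.map (algebraMap A B)) a') := by
    intro a'
    obtain ⟨a, rfl⟩ := Ideal.Quotient.mk_surjective a'
    rw [halgKE, hcompat, hτ', halgA'B']
  have h1 : CAlgX.IsAdicFormallySmooth K' (Localization.AtPrime q')
      (maximalIdeal (Localization.AtPrime q')) :=
    fs_generic hfs' q' K' hK
  let e : Localization.AtPrime q' ≃ₐ[K'] (Localization.AtPrime q ⧸ I) :=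
    { τ'.symm with
      commutes' := fun x => by
        show τ'.symm (algebraMap K' (Localization.AtPrime q') x) = _
        rw [halgKE, RingEquiv.symm_apply_apply] }
  have h𝔫 : (maximalIdeal (Localization.AtPrime q')).map
      (e : Localization.AtPrime q' →+* Localization.AtPrime q ⧸ I) ≤
      (maximalIdeal (Localization.AtPrime q)).map (Ideal.Quotient.mk I) := by
    rw [Ideal.map_le_iff_le_comap]
    intro y hy
    rw [Ideal.mem_comap]
    obtain ⟨z, hz⟩ := Ideal.Quotient.mk_surjective (e y)
    have hz' : (e : Localization.AtPrime q' →+* Localization.AtPrime q ⧸ I) y =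
        Ideal.Quotient.mk I z := hz.symm
    rw [hz']
    apply Ideal.mem_map_of_mem
    by_contra hzu
    have hzu' : IsUnit z := by
      by_contra hnu
      exact hzu ((mem_maximalIdeal _).mpr hnu)
    have h2 : IsUnit (e y) := by
      rw [← hz]
      exact hzu'.map (Ideal.Quotient.mk I)
    have h3 : IsUnit (e.symm (e y)) := h2.map e.symm
    rw [AlgEquiv.symm_apply_apply] at h3
    exact ((mem_maximalIdeal _).mp hy) h3
  exact Groth.Agent.Lib.Helper49.FSRegular.isAdicFormallySmooth_of_algEquiv e
    (maximalIdeal (Localization.AtPrime q'))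
    ((maximalIdeal (Localization.AtPrime q)).map (Ideal.Quotient.mk I)) h𝔫 h1

theorem fs_localization (hfs : CAlgX.IsAdicFormallySmooth A B (maximalIdeal B))
    (q : Ideal B) [q.IsPrime] (r : Ideal A) [r.IsPrime] (hr : r = q.comap (algebraMap A B))
    [Algebra (Localization.AtPrime r) (Localization.AtPrime q)]
    (hcompat : ∀ a : A, algebraMap (Localization.AtPrime r) (Localization.AtPrime q)
        (algebraMap A (Localization.AtPrime r) a) =
      algebraMap B (Localization.AtPrime q) (algebraMap A B a)) :
    CAlgX.IsAdicFormallySmooth (Localization.AtPrime r) (Localization.AtPrime q)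
      (maximalIdeal (Localization.AtPrime q)) := by
  classical
  let Ar := Localization.AtPrime r
  let Eq := Localization.AtPrime q
  haveI hArN : IsNoetherianRing Ar := IsLocalization.isNoetherianRing r.primeCompl _ inferInstance
  haveI hEN : IsNoetherianRing Eq := IsLocalization.isNoetherianRing q.primeCompl _ inferInstance
  have hmemr : ∀ a : A, a ∈ r ↔ algebraMap A B a ∈ q := by
    intro a
    rw [hr, Ideal.mem_comap]
  haveI hloc : IsLocalHom (algebraMap Ar Eq) := by
    constructor
    intro x hx
    obtain ⟨⟨a, s⟩, rfl⟩ := IsLocalization.mk'_surjective r.primeCompl x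
    rw [IsLocalization.AtPrime.isUnit_mk'_iff Ar r]
    intro ha
    have h1 : algebraMap Ar Eq (IsLocalization.mk' Ar a s) * algebraMap Ar Eq (algebraMap A Ar s.1) =
        algebraMap Ar Eq (algebraMap A Ar a) := by
      rw [← map_mul, IsLocalization.mk'_spec]
    rw [hcompat, hcompat] at h1
    have h2 : IsUnit (algebraMap B Eq (algebraMap A B s.1)) := by
      rw [IsLocalization.AtPrime.isUnit_to_map_iff Eq q]
      exact fun h => s.2 ((hmemr _).mpr h)
    have h3 : IsUnit (algebraMap B Eq (algebraMap A B a)) := by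
      rw [← h1]
      exact hx.mul h2
    rw [IsLocalization.AtPrime.isUnit_to_map_iff Eq q] at h3
    exact h3 ((hmemr a).mp ha)
  haveI hflatAB : Module.Flat A B :=
    Groth.Agent.Lib.Helper49.FlatFS.flat_of_isAdicFormallySmooth hfs
  haveI : IsScalarTower A B Eq := inferInstance
  have halgAE : ∀ a : A, algebraMap A Eq a = algebraMap B Eq (algebraMap A B a) := fun a =>
    IsScalarTower.algebraMap_apply A B Eq a
  haveI : IsScalarTower A Ar Eq := by
    have h : @IsScalarTower A Ar Eq Algebra.toSMul Algebra.toSMul Algebra.toSMul :=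
      IsScalarTower.of_algebraMap_eq (fun a => by rw [halgAE, hcompat])
    exact h
  haveI : Module.Flat B Eq := IsLocalization.flat _ q.primeCompl
  haveI : Module.Flat A Eq := Module.Flat.trans A B Eq
  haveI hflat : Module.Flat Ar Eq := by
    rw [Module.flat_iff_of_isLocalization Ar r.primeCompl]
    infer_instance
  have hringhom : (algebraMap Ar Eq).comp (algebraMap A Ar) =
      (algebraMap B Eq).comp (algebraMap A B) := RingHom.ext fun a => hcompat a
  have hI : (maximalIdeal Ar).map (algebraMap Ar Eq) =
      (r.map (algebraMap A B)).map (algebraMap B Eq) := by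
    have h1 : maximalIdeal Ar = r.map (algebraMap A Ar) :=
      (Localization.AtPrime.map_eq_maximalIdeal (I := r)).symm
    rw [h1, Ideal.map_map, Ideal.map_map, hringhom]
  letI fK : Field (Ar ⧸ maximalIdeal Ar) := Ideal.Quotient.field (maximalIdeal Ar)
  letI algAK : Algebra (A ⧸ r) (Ar ⧸ maximalIdeal Ar) :=
    (inferInstance : Algebra (A ⧸ r) r.ResidueField)
  haveI hfrac : IsFractionRing (A ⧸ r) (Ar ⧸ maximalIdeal Ar) :=
    (inferInstance : IsFractionRing (A ⧸ r) r.ResidueField)
  refine Groth.Agent.Lib.Helper49.FlatFS.isAdicFormallySmooth_of_flat_of_fibre ?_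
  refine fibre_fs hfs r q hr.symm _ hI (Ar ⧸ maximalIdeal Ar) ?_
  intro a
  show Ideal.Quotient.mk _ (algebraMap Ar Eq (algebraMap A Ar a)) = _
  rw [hcompat]

theorem fibre_geomReg (hfs : CAlgX.IsAdicFormallySmooth A B (maximalIdeal B))
    (r : Ideal A) [r.IsPrime] (Q : Ideal (r.Fiber B)) [Q.IsPrime] :
    CAlgX.IsAdicFormallySmooth r.ResidueField (Localization.AtPrime Q)
      (maximalIdeal (Localization.AtPrime Q)) := by
  classical
  let q : Ideal B := Q.comap (Algebra.TensorProduct.includeRight : B →ₐ[A] r.Fiber B)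
  haveI hqp : q.IsPrime := Ideal.comap_isPrime _ _
  haveI hlo : q.LiesOver r := inferInstance
  letI algBrEq : Algebra (Localization.AtPrime r) (Localization.AtPrime q) :=
    Localization.AtPrime.algebraOfLiesOver r q
  haveI hlia : Localization.AtPrime.IsLiesOverAlgebra r q := inferInstance
  have hr : r = q.comap (algebraMap A B) := Ideal.LiesOver.over
  have hcompat : ∀ a : A, algebraMap (Localization.AtPrime r) (Localization.AtPrime q)
      (algebraMap A (Localization.AtPrime r) a) =
      algebraMap B (Localization.AtPrime q) (algebraMap A B a) := fun a =>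
    Localization.localRingHom_to_map _ _ _ _ _
  have h := fs_localization hfs q r hr hcompat
  have h0 := Groth.Agent.S7134.isAdicFormallySmooth_quotient
    (maximalIdeal (Localization.AtPrime r)) (maximalIdeal (Localization.AtPrime q)) h
  let e := Ideal.Fiber.localizationAlgEquivQuotient r Q
  have hIeq : r.map (algebraMap A (Localization.AtPrime q)) =
      (maximalIdeal (Localization.AtPrime r)).map
        (algebraMap (Localization.AtPrime r) (Localization.AtPrime q)) := by
    rw [← Localization.AtPrime.map_eq_maximalIdeal (I := r), Ideal.map_map,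
      ← IsScalarTower.algebraMap_eq]
  let e' := e.trans (Ideal.quotientEquivAlgOfEq (Localization.AtPrime r) hIeq)
  letI algκF : Algebra r.ResidueField (Localization.AtPrime q ⧸
      (maximalIdeal (Localization.AtPrime r)).map
        (algebraMap (Localization.AtPrime r) (Localization.AtPrime q))) :=
    (inferInstance : Algebra (Localization.AtPrime r ⧸ maximalIdeal (Localization.AtPrime r))
      (Localization.AtPrime q ⧸ (maximalIdeal (Localization.AtPrime r)).map
        (algebraMap (Localization.AtPrime r) (Localization.AtPrime q))))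
  haveI : IsScalarTower (Localization.AtPrime r) r.ResidueField (Localization.AtPrime Q) :=
    inferInstance
  haveI : IsScalarTower (Localization.AtPrime r) r.ResidueField (Localization.AtPrime q ⧸
      (maximalIdeal (Localization.AtPrime r)).map
        (algebraMap (Localization.AtPrime r) (Localization.AtPrime q))) :=
    IsScalarTower.of_algebraMap_eq (fun _ => rfl)
  let e'' : Localization.AtPrime Q ≃ₐ[r.ResidueField] (Localization.AtPrime q ⧸
      (maximalIdeal (Localization.AtPrime r)).map
        (algebraMap (Localization.AtPrime r) (Localization.AtPrime q))) :=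
    AlgEquiv.extendScalarsOfSurjective (IsLocalRing.residue_surjective) e'
  haveI hFloc : IsLocalRing (Localization.AtPrime q ⧸
      (maximalIdeal (Localization.AtPrime r)).map
        (algebraMap (Localization.AtPrime r) (Localization.AtPrime q))) :=
    e''.toRingEquiv.isLocalRing
  have h𝔫eq : (maximalIdeal (Localization.AtPrime q)).map (Ideal.Quotient.mk
      ((maximalIdeal (Localization.AtPrime r)).map
        (algebraMap (Localization.AtPrime r) (Localization.AtPrime q)))) = maximalIdeal _ :=
    map_maximalIdeal_of_surjective _ Ideal.Quotient.mk_surjective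
  have h0' : CAlgX.IsAdicFormallySmooth r.ResidueField (Localization.AtPrime q ⧸
      (maximalIdeal (Localization.AtPrime r)).map
        (algebraMap (Localization.AtPrime r) (Localization.AtPrime q)))
      (maximalIdeal _) := by
    rw [← h𝔫eq]
    exact h0
  refine Groth.Agent.Lib.Helper49.FSRegular.isAdicFormallySmooth_of_algEquiv
    (R := r.ResidueField) (S' := Localization.AtPrime Q) e''.symm
    (maximalIdeal _) (maximalIdeal (Localization.AtPrime Q)) ?_ h0'
  rw [Ideal.map_le_iff_le_comap]
  intro y hy
  rw [Ideal.mem_comap, mem_maximalIdeal, mem_nonunits_iff]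
  intro hu
  have h3 : IsUnit (e'' (e''.symm y)) := hu.map e''
  rw [AlgEquiv.apply_symm_apply] at h3
  exact ((mem_maximalIdeal _).mp hy) h3

theorem isRegularHom_of_fs (hfs : CAlgX.IsAdicFormallySmooth A B (maximalIdeal B)) :
    CAlg.IsRegularHom A B := by
  refine ⟨Groth.Agent.Lib.Helper49.FlatFS.flat_of_isAdicFormallySmooth hfs, fun r _ => ?_⟩
  haveI hΦN : IsNoetherianRing (r.Fiber B) :=
    Groth.Agent.Lib.Helper56.isNoetherianRing_fiber _ _ r
  refine ⟨hΦN, ?_⟩
  apply Groth.Agent.Lib.Helper49.GeomRegFS.isGeometricallyRegular_of_localization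
  intro Q _
  haveI : IsNoetherianRing (Localization.AtPrime Q) :=
    IsLocalization.isNoetherianRing Q.primeCompl _ inferInstance
  exact Groth.Agent.Lib.Helper49.GeomRegFS.isGeometricallyRegular_iff_isAdicFormallySmooth.mpr
    (fibre_geomReg hfs r Q)

end Fibre

end Groth.Agent.Lib.Helper49.FSReg
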