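import Mathlib
import Groth.Agent.S9314
import Groth.Agent.S2047
import Groth.Agent.S7414
import Groth.Agent.Lib.Helper49.GRingLocal
import Groth.Agent.Lib.Helper49.HpFibre
import Groth.Agent.Lib.Helper49.CplQuot
import Groth.Agent.Lib.Helper70.RegHomFS
import Groth.Agent.Lib.Helper67.RegHomLocal
import Groth.Agent.Lib.Helper61.FSAdicCompl
import Groth.Agent.Lib.Helper56.FormalQuot

set_option autoImplicit false
set_option linter.style.haveILetI false
set_option linter.unusedSectionVars false
universe u

namespace Groth.Agent.Lib.Helper49.GRingFT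

open IsLocalRing Polynomial Groth.Agent.Lib.Helper56

section Base

theorem fs_of_formallySmooth {A B : Type u} [CommRing A] [CommRing B] [Algebra A B]
    [Algebra.FormallySmooth A B] (𝔫 : Ideal B) : CAlgX.IsAdicFormallySmooth A B 𝔫 := by
  intro C _ _ J hJ ψ _
  obtain ⟨χ, hχ⟩ := Algebra.FormallySmooth.exists_lift J ⟨2, hJ⟩ ψ
  exact ⟨χ, hχ⟩

theorem fs_change_base_unramified {A B C : Type u} [CommRing A] [CommRing B] [CommRing C]
    [Algebra A B] [Algebra B C] [Algebra A C] [IsScalarTower A B C]
    [Algebra.FormallyUnramified A B] (𝔫 : Ideal C) (h : CAlgX.IsAdicFormallySmooth A C 𝔫) :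
    CAlgX.IsAdicFormallySmooth B C 𝔫 := by
  intro D _ _ J hJ ψ hψ
  letI : Algebra A D := ((algebraMap B D).comp (algebraMap A B)).toAlgebra
  haveI : IsScalarTower A B D := IsScalarTower.of_algebraMap_eq (fun _ => rfl)
  obtain ⟨χ, hχ⟩ := h D J hJ (ψ.restrictScalars A) hψ
  have hχ' : ∀ c, Ideal.Quotient.mk J (χ c) = ψ c := fun c => DFunLike.congr_fun hχ c
  have key : χ.comp (IsScalarTower.toAlgHom A B C) = IsScalarTower.toAlgHom A B D := by
    apply Algebra.FormallyUnramified.lift_unique J ⟨2, hJ⟩
    refine AlgHom.ext fun b => ?_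
    show Ideal.Quotient.mk J (χ (algebraMap B C b)) = Ideal.Quotient.mk J (algebraMap B D b)
    rw [hχ', ψ.commutes]
    rfl
  refine ⟨{ (χ : C →+* D) with commutes' := fun b => DFunLike.congr_fun key b }, ?_⟩
  exact AlgHom.ext fun x => hχ' x

theorem fs_loc_base {A A' X : Type u} [CommRing A] [CommRing A'] [CommRing X] [Algebra A A']
    [Algebra A X] [Algebra A' X] [IsScalarTower A A' X] (M : Submonoid A) [IsLocalization M A']
    (𝔫 : Ideal X) (h : CAlgX.IsAdicFormallySmooth A X 𝔫) :
    CAlgX.IsAdicFormallySmooth A' X 𝔫 := by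
  haveI : Algebra.FormallyUnramified A A' := Algebra.FormallyUnramified.of_isLocalization M
  exact fs_change_base_unramified 𝔫 h

theorem fs_unloc_base {A A' X : Type u} [CommRing A] [CommRing A'] [CommRing X] [Algebra A A']
    [Algebra A X] [Algebra A' X] [IsScalarTower A A' X] (M : Submonoid A) [IsLocalization M A']
    (𝔫 : Ideal X) (h : CAlgX.IsAdicFormallySmooth A' X 𝔫) :
    CAlgX.IsAdicFormallySmooth A X 𝔫 := by
  intro T _ _ J hJ ψ hψ
  have hunit : ∀ s : M, IsUnit (algebraMap A T s) := by
    intro s
    have h1 : IsUnit (Ideal.Quotient.mk J (algebraMap A T s)) := by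
      have h2 : Ideal.Quotient.mk J (algebraMap A T s) = ψ (algebraMap A X s) := by
        rw [ψ.commutes]
        rfl
      rw [h2, IsScalarTower.algebraMap_apply A A' X]
      exact ((IsLocalization.map_units A' s).map (algebraMap A' X)).map ψ
    exact (IsNilpotent.isUnit_quotient_mk_iff ⟨2, hJ⟩).mp h1
  letI algA'T : Algebra A' T := (IsLocalization.lift hunit).toAlgebra
  haveI : IsScalarTower A A' T := IsScalarTower.of_algebraMap_eq (fun a =>
    (IsLocalization.lift_eq hunit a).symm)
  have key : (ψ : X →+* T ⧸ J).comp (algebraMap A' X) = algebraMap A' (T ⧸ J) := by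
    apply IsLocalization.ringHom_ext M
    refine RingHom.ext fun a => ?_
    show ψ (algebraMap A' X (algebraMap A A' a)) = algebraMap A' (T ⧸ J) (algebraMap A A' a)
    rw [← IsScalarTower.algebraMap_apply, ψ.commutes, IsScalarTower.algebraMap_apply A A' (T ⧸ J)]
  let ψ' : X →ₐ[A'] T ⧸ J := { (ψ : X →+* T ⧸ J) with commutes' := fun c => DFunLike.congr_fun key c }
  obtain ⟨χ, hχ⟩ := h T J hJ ψ' hψ
  refine ⟨χ.restrictScalars A, AlgHom.ext fun x => ?_⟩
  exact DFunLike.congr_fun hχ x

theorem adicFS_gen (A B : Type u) [CommRing A] [CommRing B] [Algebra A B] [IsNoetherianRing A]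
    [IsNoetherianRing B] (h : CAlg.IsRegularHom A B) (Q : Ideal B) [Q.IsPrime]
    (p₀ : Ideal A) [p₀.IsPrime] (hp : p₀ = Ideal.comap (algebraMap A B) Q) :
    letI := (Localization.localRingHom p₀ Q (algebraMap A B) hp).toAlgebra
    CAlgX.IsAdicFormallySmooth (Localization.AtPrime p₀) (Localization.AtPrime Q)
      (maximalIdeal (Localization.AtPrime Q)) := by
  subst hp
  exact Groth.Agent.Lib.Helper70.RegHomFS.adicFS_of_isRegularHom A B h Q

end Base

section Poly

theorem fs_polynomial_of_derivation {A C : Type u} [CommRing A] [CommRing C] [Algebra A C]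
    [Algebra A[X] C] [IsScalarTower A A[X] C] (𝔫 : Ideal C)
    (D : C →+ C) (hD : ∀ x y, D (x * y) = x * D y + y * D x)
    (hDg : ∀ g : A[X], D (algebraMap A[X] C g) = algebraMap A[X] C (derivative g))
    (h : CAlgX.IsAdicFormallySmooth A C 𝔫) : CAlgX.IsAdicFormallySmooth A[X] C 𝔫 := by
  intro T _ _ J hJ ψ hψ
  letI : Algebra A T := ((algebraMap A[X] T).comp (algebraMap A A[X])).toAlgebra
  haveI : IsScalarTower A A[X] T := IsScalarTower.of_algebraMap_eq (fun _ => rfl)
  obtain ⟨χ₀, hχ₀⟩ := h T J hJ (ψ.restrictScalars A) hψ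
  have hχ₀' : ∀ c, Ideal.Quotient.mk J (χ₀ c) = ψ c := fun c => DFunLike.congr_fun hχ₀ c
  let xC : C := algebraMap A[X] C X
  let t₀ : T := algebraMap A[X] T X
  let t₁ : T := χ₀ xC
  let ε : T := t₀ - t₁
  have hε : ε ∈ J := by
    rw [← Ideal.Quotient.eq_zero_iff_mem, map_sub, sub_eq_zero, hχ₀', ψ.commutes]
    rfl
  have hε2 : ε * ε = 0 := by
    have h1 : ε * ε ∈ J ^ 2 := by
      rw [pow_two]
      exact Ideal.mul_mem_mul hε hε
    rw [hJ] at h1
    exact h1
  have hD1 : D 1 = 0 := by
    have h1 := hD 1 1
    rw [mul_one, one_mul] at h1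
    have h2 : D 1 + D 1 = D 1 + 0 := by rw [add_zero]; exact h1.symm
    exact add_left_cancel h2
  have halgC : ∀ g : A[X], algebraMap A[X] C g = aeval xC g := by
    intro g
    have h1 : (IsScalarTower.toAlgHom A A[X] C) = aeval xC := by
      apply Polynomial.algHom_ext
      rw [aeval_X]
      rfl
    exact DFunLike.congr_fun h1 g
  have halgT : ∀ g : A[X], algebraMap A[X] T g = aeval t₀ g := by
    intro g
    have h1 : (IsScalarTower.toAlgHom A A[X] T) = aeval t₀ := by
      apply Polynomial.algHom_ext
      rw [aeval_X]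
      rfl
    exact DFunLike.congr_fun h1 g
  let χr : C →+* T :=
    { toFun := fun c => χ₀ c + χ₀ (D c) * ε
      map_one' := by rw [map_one, hD1, map_zero, zero_mul, add_zero]
      map_mul' := fun c c' => by
        rw [hD, map_mul, map_add, map_mul, map_mul]
        linear_combination (-(χ₀ (D c) * χ₀ (D c'))) * hε2
      map_zero' := by rw [map_zero, map_zero, map_zero, zero_mul, add_zero]
      map_add' := fun c c' => by
        rw [map_add, map_add, map_add]
        ring }
  have hχr : ∀ c, χr c = χ₀ c + χ₀ (D c) * ε := fun c => rfl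
  refine ⟨{ χr with
    commutes' := fun g => by
      show χr (algebraMap A[X] C g) = algebraMap A[X] T g
      rw [hχr, hDg, halgC, halgC, halgT, ← aeval_algHom_apply, ← aeval_algHom_apply]
      have h1 : t₀ = t₁ + ε := by
        show t₀ = t₁ + (t₀ - t₁)
        ring
      rw [h1, aeval_add_of_sq_eq_zero g t₁ ε (by rw [pow_two]; exact hε2)] }, ?_⟩
  refine AlgHom.ext fun c => ?_
  show Ideal.Quotient.mk J (χr c) = ψ c
  rw [hχr, map_add, map_mul, Ideal.Quotient.eq_zero_iff_mem.mpr hε, mul_zero, add_zero, hχ₀']

end Poly

section Core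

open Groth.Agent.Lib.Helper49.HpFibre

theorem isRegularHom_cpl_polynomial_localization (R : Type u) [CommRing R] (hR : CAlg.IsGRing R)
    (m : Ideal R[X]) [m.IsPrime] :
    CAlg.IsRegularHom (Localization.AtPrime m) (EGA4.Cpl (Localization.AtPrime m)) := by
  classical
  haveI hRN : IsNoetherianRing R := hR.1
  haveI hBN : IsNoetherianRing (Localization.AtPrime m) :=
    IsLocalization.isNoetherianRing m.primeCompl _ inferInstance
  haveI hBhN : IsNoetherianRing (EGA4.Cpl (Localization.AtPrime m)) := Groth.Agent.S0543.result _ _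
  haveI hpN : IsNoetherianRing (Localization.AtPrime (Ideal.comap (algebraMap R R[X]) m)) :=
    IsLocalization.isNoetherianRing (Ideal.comap (algebraMap R R[X]) m).primeCompl _ inferInstance
  letI algpB : Algebra (Localization.AtPrime (Ideal.comap (algebraMap R R[X]) m))
      (Localization.AtPrime m) :=
    (Localization.localRingHom (Ideal.comap (algebraMap R R[X]) m) m (algebraMap R R[X]) rfl).toAlgebra
  haveI towRpB : IsScalarTower R (Localization.AtPrime (Ideal.comap (algebraMap R R[X]) m))
      (Localization.AtPrime m) :=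
    Groth.Agent.Lib.Helper67.RegHomLocal.isScalarTower_localRingHom R R[X] m
  haveI locpB : IsLocalHom (algebraMap (Localization.AtPrime (Ideal.comap (algebraMap R R[X]) m))
      (Localization.AtPrime m)) :=
    Localization.isLocalHom_localRingHom _ m (algebraMap R R[X]) rfl
  haveI fs1 : Algebra.FormallySmooth R[X] (Localization.AtPrime m) :=
    Algebra.FormallySmooth.of_isLocalization m.primeCompl
  haveI fs2 : Algebra.FormallySmooth R (Localization.AtPrime m) :=
    Algebra.FormallySmooth.comp R R[X] (Localization.AtPrime m)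
  have h1 : CAlgX.IsAdicFormallySmooth R (Localization.AtPrime m)
      (maximalIdeal (Localization.AtPrime m)) := fs_of_formallySmooth _
  have h2 : CAlgX.IsAdicFormallySmooth
      (Localization.AtPrime (Ideal.comap (algebraMap R R[X]) m)) (Localization.AtPrime m)
      (maximalIdeal (Localization.AtPrime m)) :=
    fs_loc_base (Ideal.comap (algebraMap R R[X]) m).primeCompl _ h1
  haveI towpBBh := isScalarTower_cpl_base
    (Localization.AtPrime (Ideal.comap (algebraMap R R[X]) m)) (Localization.AtPrime m)
  have h3 : CAlgX.IsAdicFormallySmooth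
      (Localization.AtPrime (Ideal.comap (algebraMap R R[X]) m))
      (EGA4.Cpl (Localization.AtPrime m)) (maximalIdeal (EGA4.Cpl (Localization.AtPrime m))) := by
    have := Groth.Agent.Lib.Helper61.FSCompl.to_completion (maximalIdeal (Localization.AtPrime m))
      (IsNoetherian.noetherian _) h2
    rwa [← AdicCompletion.maximalIdeal_eq_map] at this
  haveI locBBh : IsLocalHom (algebraMap (Localization.AtPrime m)
      (EGA4.Cpl (Localization.AtPrime m))) := inferInstance
  haveI locpBh : IsLocalHom (algebraMap (Localization.AtPrime (Ideal.comap (algebraMap R R[X]) m))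
      (EGA4.Cpl (Localization.AtPrime m))) := by
    rw [IsScalarTower.algebraMap_eq (Localization.AtPrime (Ideal.comap (algebraMap R R[X]) m))
      (Localization.AtPrime m) (EGA4.Cpl (Localization.AtPrime m))]
    exact RingHom.isLocalHom_comp _ _
  have h4 : CAlg.IsRegularHom (Localization.AtPrime (Ideal.comap (algebraMap R R[X]) m))
      (EGA4.Cpl (Localization.AtPrime m)) :=
    Groth.Agent.S9314.result (hR.2 _) h3
  apply Groth.Agent.Lib.Helper70.RegHomFS.isRegularHom_of_forall_adicFS
  intro Q _
  have h5 := Groth.Agent.Lib.Helper70.RegHomFS.adicFS_of_isRegularHom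
    (Localization.AtPrime (Ideal.comap (algebraMap R R[X]) m))
    (EGA4.Cpl (Localization.AtPrime m)) h4 Q
  letI algp₀Q : Algebra (Localization.AtPrime (Ideal.comap (algebraMap
      (Localization.AtPrime (Ideal.comap (algebraMap R R[X]) m))
      (EGA4.Cpl (Localization.AtPrime m))) Q)) (Localization.AtPrime Q) :=
    (Localization.localRingHom _ Q (algebraMap
      (Localization.AtPrime (Ideal.comap (algebraMap R R[X]) m))
      (EGA4.Cpl (Localization.AtPrime m))) rfl).toAlgebra
  haveI tow1 := Groth.Agent.Lib.Helper67.RegHomLocal.isScalarTower_localRingHom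
    (Localization.AtPrime (Ideal.comap (algebraMap R R[X]) m))
    (EGA4.Cpl (Localization.AtPrime m)) Q
  have h6 : CAlgX.IsAdicFormallySmooth (Localization.AtPrime (Ideal.comap (algebraMap R R[X]) m))
      (Localization.AtPrime Q) (maximalIdeal (Localization.AtPrime Q)) :=
    fs_unloc_base (Ideal.comap (algebraMap
      (Localization.AtPrime (Ideal.comap (algebraMap R R[X]) m))
      (EGA4.Cpl (Localization.AtPrime m))) Q).primeCompl _ h5
  haveI towRBBh := isScalarTower_cpl_base R (Localization.AtPrime m)
  haveI towRpBh : IsScalarTower R (Localization.AtPrime (Ideal.comap (algebraMap R R[X]) m))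
      (EGA4.Cpl (Localization.AtPrime m)) :=
    IsScalarTower.of_algebraMap_eq (fun r => by
      rw [IsScalarTower.algebraMap_apply R (Localization.AtPrime m)
        (EGA4.Cpl (Localization.AtPrime m)),
        IsScalarTower.algebraMap_apply R (Localization.AtPrime (Ideal.comap (algebraMap R R[X]) m))
          (Localization.AtPrime m),
        ← IsScalarTower.algebraMap_apply (Localization.AtPrime (Ideal.comap (algebraMap R R[X]) m))
          (Localization.AtPrime m) (EGA4.Cpl (Localization.AtPrime m))])
  haveI towRpQ : IsScalarTower R (Localization.AtPrime (Ideal.comap (algebraMap R R[X]) m))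
      (Localization.AtPrime Q) := by
    have h : @IsScalarTower R (Localization.AtPrime (Ideal.comap (algebraMap R R[X]) m))
        (Localization.AtPrime Q) Algebra.toSMul Algebra.toSMul Algebra.toSMul :=
      IsScalarTower.of_algebraMap_eq (fun r => by
        rw [IsScalarTower.algebraMap_apply R (EGA4.Cpl (Localization.AtPrime m))
          (Localization.AtPrime Q),
          IsScalarTower.algebraMap_apply R
            (Localization.AtPrime (Ideal.comap (algebraMap R R[X]) m))
            (EGA4.Cpl (Localization.AtPrime m)),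
          ← IsScalarTower.algebraMap_apply
            (Localization.AtPrime (Ideal.comap (algebraMap R R[X]) m))
            (EGA4.Cpl (Localization.AtPrime m)) (Localization.AtPrime Q)])
    exact h
  have h7 : CAlgX.IsAdicFormallySmooth R (Localization.AtPrime Q)
      (maximalIdeal (Localization.AtPrime Q)) :=
    fs_unloc_base (Ideal.comap (algebraMap R R[X]) m).primeCompl _ h6
  let D0 : R[X] →+ R[X] := (derivative : R[X] →ₗ[R] R[X]).toAddMonoidHom
  have hD0 : ∀ x y, D0 (x * y) = x * D0 y + y * D0 x := fun x y => by
    show derivative (x * y) = x * derivative y + y * derivative x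
    rw [derivative_mul]
    ring
  obtain ⟨D1, hD1L, hD1⟩ := exists_leibniz_localization (A := R[X]) (Localization.AtPrime m)
    m.primeCompl D0 hD0
  obtain ⟨D2, hD2L, hD2⟩ := exists_leibniz_completion (maximalIdeal (Localization.AtPrime m))
    D1 hD1L
  obtain ⟨D3, hD3L, hD3⟩ := exists_leibniz_localization
    (A := EGA4.Cpl (Localization.AtPrime m)) (Localization.AtPrime Q) Q.primeCompl D2 hD2L
  haveI towXBBh := isScalarTower_cpl_base R[X] (Localization.AtPrime m)
  have halg : ∀ g : R[X], algebraMap R[X] (Localization.AtPrime Q) g =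
      algebraMap (EGA4.Cpl (Localization.AtPrime m)) (Localization.AtPrime Q)
        (algebraMap (Localization.AtPrime m) (EGA4.Cpl (Localization.AtPrime m))
          (algebraMap R[X] (Localization.AtPrime m) g)) := fun g => by
    rw [IsScalarTower.algebraMap_apply R[X] (EGA4.Cpl (Localization.AtPrime m))
      (Localization.AtPrime Q),
      IsScalarTower.algebraMap_apply R[X] (Localization.AtPrime m)
        (EGA4.Cpl (Localization.AtPrime m))]
  have hD3g : ∀ g : R[X], D3 (algebraMap R[X] (Localization.AtPrime Q) g) =
      algebraMap R[X] (Localization.AtPrime Q) (derivative g) := fun g => by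
    rw [halg, halg, hD3, hD2, hD1]
    rfl
  haveI towRXQ : IsScalarTower R R[X] (Localization.AtPrime Q) := by
    have h : @IsScalarTower R R[X] (Localization.AtPrime Q) Algebra.toSMul Algebra.toSMul
        Algebra.toSMul :=
      IsScalarTower.of_algebraMap_eq (fun r => by
        rw [halg, IsScalarTower.algebraMap_apply R (EGA4.Cpl (Localization.AtPrime m))
          (Localization.AtPrime Q),
          IsScalarTower.algebraMap_apply R (Localization.AtPrime m)
            (EGA4.Cpl (Localization.AtPrime m)),
          IsScalarTower.algebraMap_apply R R[X] (Localization.AtPrime m)])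
    exact h
  have h8 : CAlgX.IsAdicFormallySmooth R[X] (Localization.AtPrime Q)
      (maximalIdeal (Localization.AtPrime Q)) :=
    fs_polynomial_of_derivation _ D3 hD3L hD3g h7
  letI algrQ : Algebra (Localization.AtPrime (Ideal.comap (algebraMap (Localization.AtPrime m)
      (EGA4.Cpl (Localization.AtPrime m))) Q)) (Localization.AtPrime Q) :=
    (Localization.localRingHom _ Q (algebraMap (Localization.AtPrime m)
      (EGA4.Cpl (Localization.AtPrime m))) rfl).toAlgebra
  haveI tow3 : IsScalarTower R[X] (Localization.AtPrime (Ideal.comap (algebraMap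
      (Localization.AtPrime m) (EGA4.Cpl (Localization.AtPrime m))) Q))
      (Localization.AtPrime Q) := by
    have h : @IsScalarTower R[X] (Localization.AtPrime (Ideal.comap (algebraMap
        (Localization.AtPrime m) (EGA4.Cpl (Localization.AtPrime m))) Q))
        (Localization.AtPrime Q) Algebra.toSMul Algebra.toSMul Algebra.toSMul :=
      IsScalarTower.of_algebraMap_eq (fun g => by
        rw [halg, IsScalarTower.algebraMap_apply R[X] (Localization.AtPrime m)
          (Localization.AtPrime (Ideal.comap (algebraMap
            (Localization.AtPrime m) (EGA4.Cpl (Localization.AtPrime m))) Q))]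
        exact (Localization.localRingHom_to_map _ _ _ _ _).symm)
    exact h
  haveI hu1 : Algebra.FormallyUnramified R[X] (Localization.AtPrime m) :=
    Algebra.FormallyUnramified.of_isLocalization m.primeCompl
  haveI hu2 : Algebra.FormallyUnramified (Localization.AtPrime m)
      (Localization.AtPrime (Ideal.comap (algebraMap
        (Localization.AtPrime m) (EGA4.Cpl (Localization.AtPrime m))) Q)) :=
    Algebra.FormallyUnramified.of_isLocalization (Ideal.comap (algebraMap
        (Localization.AtPrime m) (EGA4.Cpl (Localization.AtPrime m))) Q).primeCompl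
  haveI hu3 : Algebra.FormallyUnramified R[X]
      (Localization.AtPrime (Ideal.comap (algebraMap
        (Localization.AtPrime m) (EGA4.Cpl (Localization.AtPrime m))) Q)) :=
    Algebra.FormallyUnramified.comp R[X] (Localization.AtPrime m) _
  exact fs_change_base_unramified _ h8

end Core

section Assembly

theorem isGRing_polynomial (R : Type u) [CommRing R] (hR : CAlg.IsGRing R) : CAlg.IsGRing R[X] := by
  haveI := hR.1
  exact Groth.Agent.S2047.result.mpr
    (fun m _ => isRegularHom_cpl_polynomial_localization R hR m)

theorem isGRing_of_surjective {A B : Type u} [CommRing A] [CommRing B] (f : A →+* B)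
    (hf : Function.Surjective f) (hA : CAlg.IsGRing A) : CAlg.IsGRing B := by
  haveI := hA.1
  refine ⟨isNoetherianRing_of_surjective A B f hf, fun P _ => ?_⟩
  let p : Ideal A := P.comap f
  haveI : p.IsPrime := Ideal.comap_isPrime _ _
  obtain ⟨τ, -⟩ := Groth.Agent.Lib.Helper49.CplQuot.exists_equiv_loc f hf p P rfl
  haveI hpN : IsNoetherianRing (Localization.AtPrime p) :=
    IsLocalization.isNoetherianRing p.primeCompl _ inferInstance
  haveI : Nontrivial (Localization.AtPrime p ⧸
      (RingHom.ker f).map (algebraMap A (Localization.AtPrime p))) := τ.symm.injective.nontrivial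
  have h1 := isRegularHom_cpl_quot (Localization.AtPrime p)
    ((RingHom.ker f).map (algebraMap A (Localization.AtPrime p))) (hA.2 p)
  exact Groth.Agent.S7414.isRegularHom_completion_of_ringEquiv τ h1

theorem isGRing_mvPolynomial (R : Type u) [CommRing R] (hR : CAlg.IsGRing R) (n : ℕ) :
    CAlg.IsGRing (MvPolynomial (Fin n) R) := by
  induction n with
  | zero =>
    exact isGRing_of_surjective (MvPolynomial.isEmptyAlgEquiv R (Fin 0)).symm.toRingEquiv.toRingHom
      (MvPolynomial.isEmptyAlgEquiv R (Fin 0)).symm.surjective hR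
  | succ n ih =>
    exact isGRing_of_surjective (MvPolynomial.finSuccEquiv R n).symm.toRingEquiv.toRingHom
      (MvPolynomial.finSuccEquiv R n).symm.surjective (isGRing_polynomial _ ih)

theorem isGRing_of_finiteType (R : Type u) [CommRing R] (hR : CAlg.IsGRing R) (S : Type u)
    [CommRing S] [Algebra R S] [Algebra.FiniteType R S] : CAlg.IsGRing S := by
  obtain ⟨n, f, hf⟩ := Algebra.FiniteType.iff_quotient_mvPolynomial''.mp
    (inferInstance : Algebra.FiniteType R S)
  exact isGRing_of_surjective f.toRingHom hf (isGRing_mvPolynomial R hR n)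

end Assembly

end Groth.Agent.Lib.Helper49.GRingFT
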