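import Mathlib
import Groth.Prelude.Def_Found
import Groth.Agent.Lib.Helper49.GRingFT
import Groth.Agent.Lib.Helper58.ExcellentLoc

set_option autoImplicit false
universe u
open IsLocalRing CategoryTheory AlgebraicGeometry

namespace Groth.Agent.Lib.Helper49.AA7202GA

open TensorProduct

attribute [local instance] Algebra.TensorProduct.rightAlgebra in
theorem ga {Λ₀ A₀ : Type u} [CommRing Λ₀] [CommRing A₀] [Algebra Λ₀ A₀]
    [IsNoetherianRing Λ₀] [Algebra.FiniteType Λ₀ A₀]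
    (p : Ideal A₀) [p.IsPrime] (r : Ideal Λ₀) [r.IsPrime]
    (Λ : Type u) [CommRing Λ] [Algebra Λ₀ Λ] [IsLocalization.AtPrime Λ r] (hG : CAlg.IsGRing Λ)
    (A : Type u) [CommRing A] [IsLocalRing A] [Algebra A₀ A] [IsLocalization.AtPrime A p]
    (ρ : Λ →+* A) [IsLocalHom ρ]
    (hρ : ∀ l : Λ₀, ρ (algebraMap Λ₀ Λ l) = algebraMap A₀ A (algebraMap Λ₀ A₀ l)) :
    CAlg.IsGRing A := by
  have hT : CAlg.IsGRing (Λ ⊗[Λ₀] A₀) :=
    Groth.Agent.Lib.Helper49.GRingFT.isGRing_of_finiteType Λ hG (Λ ⊗[Λ₀] A₀)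
  have hloc : IsLocalization (Algebra.algebraMapSubmonoid A₀ r.primeCompl) (Λ ⊗[Λ₀] A₀) :=
    IsLocalization.tensorRight (S := A₀) Λ r.primeCompl
  have hle : Algebra.algebraMapSubmonoid A₀ r.primeCompl ≤ p.primeCompl := by
    rintro _ ⟨l, hl, rfl⟩
    have h1 : IsUnit (algebraMap Λ₀ Λ l) := IsLocalization.map_units Λ (⟨l, hl⟩ : r.primeCompl)
    have h2 : IsUnit (algebraMap A₀ A (algebraMap Λ₀ A₀ l)) := by
      rw [← hρ]; exact h1.map ρ
    intro hmem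
    exact (IsLocalization.AtPrime.isUnit_to_map_iff A p _).mp h2 hmem
  have hunit : ∀ y : Algebra.algebraMapSubmonoid A₀ r.primeCompl, IsUnit (algebraMap A₀ A y) :=
    fun y => IsLocalization.map_units A (⟨y.1, hle y.2⟩ : p.primeCompl)
  let _ : Algebra (Λ ⊗[Λ₀] A₀) A :=
    (IsLocalization.lift (M := Algebra.algebraMapSubmonoid A₀ r.primeCompl)
      (S := Λ ⊗[Λ₀] A₀) (g := algebraMap A₀ A) hunit).toAlgebra
  have : IsScalarTower A₀ (Λ ⊗[Λ₀] A₀) A :=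
    IsScalarTower.of_algebraMap_eq (fun x => (IsLocalization.lift_eq hunit x).symm)
  have := IsLocalization.isLocalization_of_submonoid_le (Λ ⊗[Λ₀] A₀) A
    (Algebra.algebraMapSubmonoid A₀ r.primeCompl) p.primeCompl hle
  exact Groth.Agent.Lib.Helper58.ExcellentLoc.isGRing_localization (Λ ⊗[Λ₀] A₀) hT
    (p.primeCompl.map (algebraMap A₀ (Λ ⊗[Λ₀] A₀))) A

end Groth.Agent.Lib.Helper49.AA7202GA
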