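import Mathlib
import Groth.Prelude.Def_Found
import Groth.Agent.Lib.Helper58.ExcellentLoc

set_option autoImplicit false
universe u
open IsLocalRing CategoryTheory AlgebraicGeometry

namespace Groth.Agent.Lib.Helper49.AA7202GEQ

theorem isGRing_of_ringEquiv {A B : Type u} [CommRing A] [CommRing B] (e : A ≃+* B)
    (hA : CAlg.IsGRing A) : CAlg.IsGRing B := by
  let _ : Algebra A B := e.toRingHom.toAlgebra
  have h0 : IsLocalization (⊥ : Submonoid A) A :=
    IsLocalization.self (by rintro x hx; rw [Submonoid.mem_bot] at hx; subst hx; exact isUnit_one)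
  have h1 : IsLocalization (⊥ : Submonoid A) B :=
    IsLocalization.isLocalization_of_algEquiv (⊥ : Submonoid A)
      (AlgEquiv.ofRingEquiv (f := e) (fun _ => rfl) : A ≃ₐ[A] B)
  exact Groth.Agent.Lib.Helper58.ExcellentLoc.isGRing_localization A hA ⊥ B

end Groth.Agent.Lib.Helper49.AA7202GEQ
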