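import Groth.Prelude.Def_EGA41
import Groth.Agent.S2466
import Groth.Agent.S2467
import Groth.Agent.S2468
import Groth.Agent.Lib.Helper49.PBasisField
import Mathlib.RingTheory.Flat.Basic
import Mathlib.FieldTheory.IntermediateField.Adjoin.Basic
import Mathlib.LinearAlgebra.TensorProduct.Basis
import Mathlib.RingTheory.TensorProduct.Free

set_option autoImplicit false
universe u
open EGA41

namespace Groth.Agent.Lib.Helper49.Admissible
open TensorProduct Groth.Agent.Lib.Helper49.PBasis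

section

variable (p : ℕ) [Fact p.Prime] {k₀ K : Type u} [Field k₀] [Field K] [Algebra k₀ K] [CharP K p]

def subK (B : Set K) (B₀ : Set K) : IntermediateField k₀ K :=
  IntermediateField.adjoin k₀ ((Set.range fun y : K => y ^ p) ∪ (B \ B₀))

theorem pow_mem_subK (B B₀ : Set K) (y : K) : y ^ p ∈ subK (k₀ := k₀) p B B₀ :=
  IntermediateField.subset_adjoin _ _ (Or.inl ⟨y, rfl⟩)

theorem restrict_adjoin_subK (B B₀ T : Set K) :
    (IntermediateField.adjoin (subK (k₀ := k₀) p B B₀) T).restrictScalars k₀ =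
      IntermediateField.adjoin k₀ (((Set.range fun y : K => y ^ p) ∪ (B \ B₀)) ∪ T) :=
  IntermediateField.adjoin_adjoin_left k₀ _ T

theorem finite_subK (B B₀ : Set K) (hB₀ : B₀ ⊆ B) (hfin : B₀.Finite)
    (hB : IsPGenerating p k₀ (Subtype.val : ↥B → K)) :
    Module.Finite (subK (k₀ := k₀) p B B₀) K := by
  have hint : ∀ x ∈ B₀, IsIntegral (subK (k₀ := k₀) p B B₀) x := by
    intro x _
    refine IsIntegral.of_pow (Fact.out : p.Prime).pos ?_
    exact (isIntegral_algebraMap (x := (⟨x ^ p, pow_mem_subK p B B₀ x⟩ : subK (k₀ := k₀) p B B₀)))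
  have : Finite B₀ := hfin
  have hfd := IntermediateField.finiteDimensional_adjoin hint
  have htop : IntermediateField.adjoin (subK (k₀ := k₀) p B B₀) B₀ = ⊤ := by
    rw [eq_top_iff]
    intro y _
    have h1 : y ∈ (IntermediateField.adjoin (subK (k₀ := k₀) p B B₀) B₀).restrictScalars k₀ := by
      rw [restrict_adjoin_subK]
      have h2 := (gen_set_iff (p := p) (k := k₀) B).mp hB
      have h3 : y ∈ IntermediateField.adjoin k₀ ((Set.range fun y : K => y ^ p) ∪ B) := by
        rw [h2]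
        trivial
      refine IntermediateField.adjoin.mono k₀ _ _ ?_ h3
      rintro z (hz | hz)
      · exact Or.inl (Or.inl hz)
      · by_cases hz0 : z ∈ B₀
        · exact Or.inr hz0
        · exact Or.inl (Or.inr ⟨hz, hz0⟩)
    exact h1
  rw [htop] at hfd
  exact Module.Finite.equiv (IntermediateField.topEquiv (F := subK (k₀ := k₀) p B B₀) (E := K)).toLinearEquiv

theorem indep_subK (B : Set K) (B₀ : Set K) (hB₀ : B₀ ⊆ B)
    (hB : IsPIndependent p k₀ (Subtype.val : ↥B → K)) :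
    IsPIndependent p (subK (k₀ := k₀) p B B₀) (Subtype.val : ↥B₀ → K) := by
  rw [indep_set_iff]
  intro t ht hmem
  have h1 : t ∈ (IntermediateField.adjoin (subK (k₀ := k₀) p B B₀)
      ((Set.range fun y : K => y ^ p) ∪ (B₀ \ {t}))).restrictScalars k₀ := hmem
  rw [restrict_adjoin_subK] at h1
  have h2 := (indep_set_iff (p := p) (k := k₀) B).mp hB t (hB₀ ht)
  apply h2
  refine IntermediateField.adjoin.mono k₀ _ _ ?_ h1
  rintro z ((hz | hz) | (hz | hz))
  · exact Or.inl hz
  · refine Or.inr ⟨hz.1, fun h => ?_⟩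
    rw [Set.mem_singleton_iff] at h
    exact hz.2 (h ▸ ht)
  · exact Or.inl hz
  · exact Or.inr ⟨hB₀ hz.1, hz.2⟩

end

section Main

variable (p : ℕ) [Fact p.Prime] {k₀ K L : Type u} [Field k₀] [Field K] [Field L]
    [Algebra k₀ K] [Algebra K L] [Algebra k₀ L] [IsScalarTower k₀ K L] [CharP K p]

theorem exists_pBasis_kaehler :
    ∃ (B : Set K) (b : Module.Basis ↥B K (Ω[K⁄k₀])), IsPBasis p k₀ (Subtype.val : ↥B → K) ∧
      ∀ i, b i = KaehlerDifferential.D k₀ K (i : K) := by
  have hind : IsPIndependent p k₀ (Subtype.val : ↥(∅ : Set K) → K) := by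
    rw [indep_set_iff]
    intro t ht
    exact absurd ht (Set.notMem_empty t)
  obtain ⟨B, -, -, hB⟩ := Groth.Agent.S2467.result p (Set.univ : Set K) ∅ (Set.empty_subset _)
    Groth.Agent.S2468.gen_univ hind
  obtain ⟨b, hb⟩ := Groth.Agent.S2466.result p (Subtype.val : ↥B → K) hB
  exact ⟨B, b, hB, hb⟩

theorem exists_finite_support (B : Set K) (bL : Module.Basis ↥B L (L ⊗[K] Ω[K⁄k₀]))
    (N : Submodule L (L ⊗[K] Ω[K⁄k₀])) (hN : N.FG) :
    ∃ B₀ : Finset ↥B, N ≤ Submodule.span L (bL '' (B₀ : Set ↥B)) := by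
  classical
  obtain ⟨s, hs⟩ := hN
  refine ⟨s.biUnion fun t => (bL.repr t).support, ?_⟩
  rw [← hs, Submodule.span_le]
  intro t ht
  rw [SetLike.mem_coe, Module.Basis.mem_span_image]
  intro i hi
  rw [Finset.coe_biUnion, Set.mem_iUnion₂]
  exact ⟨t, ht, hi⟩

theorem exists_admissible [Module.Finite L (EGA41.imperfection k₀ K L)] :
    ∃ k : IntermediateField k₀ K, (∀ y : K, y ^ p ∈ k) ∧ Module.Finite k K ∧
      ∀ ω ∈ EGA41.imperfection k₀ K L,
        ((KaehlerDifferential.map k₀ k K K).restrictScalars K).baseChange L ω = 0 → ω = 0 := by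
  classical
  obtain ⟨B, b, hB, hb⟩ := exists_pBasis_kaehler p (k₀ := k₀) (K := K)
  let bL : Module.Basis ↥B L (L ⊗[K] Ω[K⁄k₀]) := b.baseChange L
  obtain ⟨B₀, hB₀⟩ := exists_finite_support B bL (EGA41.imperfection k₀ K L)
    (Module.Finite.iff_fg.mp inferInstance)
  let B₀' : Set K := Subtype.val '' (B₀ : Set ↥B)
  have hB₀B : B₀' ⊆ B := by
    rintro _ ⟨i, -, rfl⟩
    exact i.2
  have hfin : B₀'.Finite := (Finset.finite_toSet B₀).image _
  refine ⟨subK p B B₀', pow_mem_subK p B B₀', finite_subK p B B₀' hB₀B hfin hB.2, ?_⟩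
  intro ω hω hG
  have hindep := indep_subK p B B₀' hB₀B hB.1
  have hli := Groth.Agent.S2468.part1_mp (Subtype.val : ↥B₀' → K) hindep
  have hliL := Module.Flat.linearIndependent_one_tmul (S := L) hli
  have hmem := hB₀ hω
  rw [Finsupp.mem_span_image_iff_linearCombination] at hmem
  obtain ⟨l, hl, rfl⟩ := hmem
  suffices h : l = 0 by rw [h, map_zero]
  let v : ↥B → L ⊗[K] Ω[K⁄subK (k₀ := k₀) p B B₀'] := fun i =>
    (1 : L) ⊗ₜ[K] KaehlerDifferential.D (subK (k₀ := k₀) p B B₀') K (i : K)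
  let f : ↥(B₀ : Set ↥B) → ↥B₀' := fun i => ⟨i.1.1, ⟨i.1, i.2, rfl⟩⟩
  have hf : Function.Injective f := by
    intro i j hij
    have h1 : (f i).1 = (f j).1 := congrArg Subtype.val hij
    have h2 : i.1.1 = j.1.1 := h1
    exact Subtype.ext (Subtype.ext h2)
  have hon : LinearIndepOn L v (B₀ : Set ↥B) := hliL.comp f hf
  refine linearIndepOn_iff.mp hon l hl ?_
  have hv : v = ⇑(((KaehlerDifferential.map k₀ (subK (k₀ := k₀) p B B₀') K K).restrictScalars
      K).baseChange L) ∘ ⇑bL := by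
    funext i
    rw [Function.comp_apply, Module.Basis.baseChange_apply, LinearMap.baseChange_tmul, hb]
    change _ = (1 : L) ⊗ₜ[K] KaehlerDifferential.map k₀ (subK (k₀ := k₀) p B B₀') K K
      (KaehlerDifferential.D k₀ K (i : K))
    rw [KaehlerDifferential.map_D]
    rfl
  rw [← hG, Finsupp.apply_linearCombination, hv]

end Main

end Groth.Agent.Lib.Helper49.Admissible
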