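import Groth.Agent.Lib.Helper49.AdmissibleFam
import Mathlib.RingTheory.AdjoinRoot
import Mathlib.FieldTheory.KummerPolynomial

set_option autoImplicit false
universe u
open EGA41

namespace Groth.Agent.Lib.Helper49.AdmissibleExt
open TensorProduct Groth.Agent.Lib.Helper49.PBasis Groth.Agent.Lib.Helper49.Admissible
  Groth.Agent.Lib.Helper49.AdmissibleFam

section LemmaB

variable (p : ℕ) [Fact p.Prime] {k₀ K L : Type u} [Field k₀] [Field K] [Field L]
    [Algebra k₀ K] [Algebra K L] [Algebra k₀ L] [IsScalarTower k₀ K L] [CharP K p]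

theorem pow_mem_map (x : K) (y : L) (hy : y ^ p = algebraMap K L x)
    (hgen : Algebra.adjoin K ({y} : Set L) = ⊤) (z : L) :
    z ^ p ∈ (IntermediateField.adjoin k₀ ((Set.range fun c : K => c ^ p) ∪ {x})).map
      (IsScalarTower.toAlgHom k₀ K L) := by
  have : CharP L p := charP_of_injective_algebraMap (algebraMap K L).injective p
  have hz : z ∈ Algebra.adjoin K ({y} : Set L) := by
    rw [hgen]
    trivial
  induction hz using Algebra.adjoin_induction with
  | mem w hw =>
    rw [Set.mem_singleton_iff] at hw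
    rw [hw, hy]
    exact ⟨x, IntermediateField.subset_adjoin _ _ (Or.inr rfl), rfl⟩
  | algebraMap a =>
    rw [← map_pow]
    exact ⟨a ^ p, IntermediateField.subset_adjoin _ _ (Or.inl ⟨a, rfl⟩), rfl⟩
  | add a b _ _ ha hb =>
    rw [add_pow_char]
    exact add_mem ha hb
  | mul a b _ _ ha hb =>
    rw [mul_pow]
    exact mul_mem ha hb

theorem indep_in_ext (x : K) (y : L) (hy : y ^ p = algebraMap K L x)
    (hgen : Algebra.adjoin K ({y} : Set L) = ⊤) (B : Set K) (hxB : x ∈ B)
    (hB : IsPIndependent p k₀ (Subtype.val : ↥B → K)) :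
    IsPIndependent p k₀ (fun t : ↥(B \ {x}) => algebraMap K L (t : K)) := by
  have : CharP L p := charP_of_injective_algebraMap (algebraMap K L).injective p
  refine pIndependent_of_not_mem fun a hmem => ?_
  have hB' := (indep_set_iff (p := p) (k := k₀) B).mp hB (a : K) a.2.1
  apply hB'
  let φ : K →ₐ[k₀] L := IsScalarTower.toAlgHom k₀ K L
  have hle : IntermediateField.adjoin k₀ ((Set.range fun c : L => c ^ p) ∪
      (fun t : ↥(B \ {x}) => algebraMap K L (t : K)) '' {b | b ≠ a}) ≤
      (IntermediateField.adjoin k₀ ((Set.range fun c : K => c ^ p) ∪ (B \ {(a : K)}))).map φ := by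
    rw [IntermediateField.adjoin_le_iff]
    rintro z (⟨c, rfl⟩ | ⟨b, hb, rfl⟩)
    · have h1 := pow_mem_map (k₀ := k₀) p x y hy hgen c
      refine IntermediateField.map_mono φ ?_ h1
      refine IntermediateField.adjoin.mono k₀ _ _ ?_
      rintro w (hw | hw)
      · exact Or.inl hw
      · rw [Set.mem_singleton_iff] at hw
        refine Or.inr ⟨hw ▸ hxB, fun h => ?_⟩
        rw [Set.mem_singleton_iff] at h
        exact a.2.2 (by rw [← h, hw]; rfl)
    · refine ⟨(b : K), IntermediateField.subset_adjoin _ _ (Or.inr ⟨b.2.1, fun h => ?_⟩), rfl⟩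
      rw [Set.mem_singleton_iff] at h
      exact hb (Subtype.ext h)
  obtain ⟨c, hc, hca⟩ := hle hmem
  have : c = (a : K) := (algebraMap K L).injective hca
  rw [this] at hc
  exact hc

theorem D_pow_eq_zero [CharP L p] {M : Type*} [AddCommGroup M] [Module L M] [Module k₀ M]
    (D : Derivation k₀ L M) (y : L) : D (y ^ p) = 0 := by
  rw [Derivation.leibniz_pow, ← Nat.cast_smul_eq_nsmul L, CharP.cast_eq_zero, zero_smul]

theorem imperfection_le_span (x : K) (y : L) (hy : y ^ p = algebraMap K L x)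
    (hgen : Algebra.adjoin K ({y} : Set L) = ⊤)
    (hx : x ∉ IntermediateField.adjoin k₀ (Set.range fun c : K => c ^ p)) :
    EGA41.imperfection k₀ K L ≤
      Submodule.span L {(1 : L) ⊗ₜ[K] KaehlerDifferential.D k₀ K x} := by
  classical
  have : CharP L p := charP_of_injective_algebraMap (algebraMap K L).injective p
  have hsingle : IsPIndependent p k₀ (Subtype.val : ↥({x} : Set K) → K) := by
    rw [indep_set_iff]
    intro t ht hmem
    rw [Set.mem_singleton_iff] at ht
    subst ht
    rw [Set.diff_self, Set.union_empty] at hmem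
    exact hx hmem
  obtain ⟨B, hxB', -, hB⟩ := Groth.Agent.S2467.result p (Set.univ : Set K) {x}
    (Set.subset_univ _) Groth.Agent.S2468.gen_univ hsingle
  have hxB : x ∈ B := hxB' rfl
  obtain ⟨b, hb⟩ := Groth.Agent.S2466.result p (Subtype.val : ↥B → K) hB
  let bL : Module.Basis ↥B L (L ⊗[K] Ω[K⁄k₀]) := b.baseChange L
  have hind := indep_in_ext p x y hy hgen B hxB hB.1
  have hli := Groth.Agent.S2468.part1_mp _ hind
  let w : ↥B → Ω[L⁄k₀] := fun t => KaehlerDifferential.D k₀ L (algebraMap K L (t : K))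
  let x₀ : ↥B := ⟨x, hxB⟩
  have hwx : w x₀ = 0 := by
    change KaehlerDifferential.D k₀ L (algebraMap K L x) = 0
    rw [← hy]
    exact D_pow_eq_zero p _ y
  let f : ↥({t : ↥B | t ≠ x₀}) → ↥(B \ {x}) := fun t =>
    ⟨t.1.1, t.1.2, fun h => t.2 (Subtype.ext h)⟩
  have hf : Function.Injective f := by
    intro t t' htt
    have h1 : (f t).1 = (f t').1 := congrArg Subtype.val htt
    have h2 : t.1.1 = t'.1.1 := h1
    exact Subtype.ext (Subtype.ext h2)
  have hon : LinearIndepOn L w {t : ↥B | t ≠ x₀} := hli.comp f hf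
  have hmb : w = ⇑(KaehlerDifferential.mapBaseChange k₀ K L) ∘ ⇑bL := by
    funext t
    rw [Function.comp_apply, Module.Basis.baseChange_apply, KaehlerDifferential.mapBaseChange_tmul,
      one_smul, hb, KaehlerDifferential.map_D]
  intro ω hω
  have hω0 : KaehlerDifferential.mapBaseChange k₀ K L ω = 0 := hω
  have hl0 : Finsupp.linearCombination L w (bL.repr ω) = 0 := by
    rw [hmb, ← Finsupp.apply_linearCombination, Module.Basis.linearCombination_repr, hω0]
  have hsplit := Finsupp.single_add_erase x₀ (bL.repr ω)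
  have herase : Finsupp.erase x₀ (bL.repr ω) = 0 := by
    refine linearIndepOn_iff.mp hon _ ?_ ?_
    · rw [Finsupp.mem_supported]
      intro t ht
      rw [Finset.mem_coe, Finsupp.support_erase, Finset.mem_erase] at ht
      exact ht.1
    · have h1 := hl0
      rw [← hsplit, map_add, Finsupp.linearCombination_single, hwx, smul_zero, zero_add] at h1
      exact h1
  rw [herase, add_zero] at hsplit
  have hω' : ω = (bL.repr ω x₀) • bL x₀ := by
    conv_lhs => rw [← Module.Basis.linearCombination_repr bL ω, ← hsplit,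
      Finsupp.linearCombination_single]
  rw [hω', Module.Basis.baseChange_apply, hb]
  exact Submodule.smul_mem _ _ (Submodule.subset_span rfl)

end LemmaB

section LemmaA

variable (p : ℕ) [Fact p.Prime] {k₀ K L : Type u} [Field k₀] [Field K] [Field L]
    [Algebra k₀ K] [Algebra K L] [Algebra k₀ L] [IsScalarTower k₀ K L] [CharP K p]

theorem eq_zero_of_indep (B : Set K) (b : Module.Basis ↥B K (Ω[K⁄k₀]))
    (hb : ∀ i, b i = KaehlerDifferential.D k₀ K (i : K)) (B₀ : Finset ↥B)
    (k : IntermediateField k₀ K)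
    (hind : IsPIndependent p k (Subtype.val : ↥(Subtype.val '' (B₀ : Set ↥B)) → K))
    (ω : L ⊗[K] Ω[K⁄k₀]) (hω : ω ∈ Submodule.span L ((b.baseChange L) '' (B₀ : Set ↥B)))
    (hG : ((KaehlerDifferential.map k₀ k K K).restrictScalars K).baseChange L ω = 0) : ω = 0 := by
  classical
  have hli := Groth.Agent.S2468.part1_mp _ hind
  have hliL := Module.Flat.linearIndependent_one_tmul (S := L) hli
  rw [Finsupp.mem_span_image_iff_linearCombination] at hω
  obtain ⟨l, hl, rfl⟩ := hω
  suffices h : l = 0 by rw [h, map_zero]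
  let v : ↥B → L ⊗[K] Ω[K⁄k] := fun i => (1 : L) ⊗ₜ[K] KaehlerDifferential.D k K (i : K)
  let f : ↥(B₀ : Set ↥B) → ↥(Subtype.val '' (B₀ : Set ↥B)) := fun i => ⟨i.1.1, ⟨i.1, i.2, rfl⟩⟩
  have hf : Function.Injective f := by
    intro i j hij
    have h1 : (f i).1 = (f j).1 := congrArg Subtype.val hij
    have h2 : i.1.1 = j.1.1 := h1
    exact Subtype.ext (Subtype.ext h2)
  have hon : LinearIndepOn L v (B₀ : Set ↥B) := hliL.comp f hf
  refine linearIndepOn_iff.mp hon l hl ?_
  have hv : v = ⇑(((KaehlerDifferential.map k₀ k K K).restrictScalars K).baseChange L) ∘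
      ⇑(b.baseChange L) := by
    funext i
    rw [Function.comp_apply, Module.Basis.baseChange_apply, LinearMap.baseChange_tmul, hb]
    change _ = (1 : L) ⊗ₜ[K] KaehlerDifferential.map k₀ k K K (KaehlerDifferential.D k₀ K (i : K))
    rw [KaehlerDifferential.map_D]
    rfl
  rw [← hG, Finsupp.apply_linearCombination, hv]

end LemmaA

section Main

variable (p : ℕ) [Fact p.Prime] {k₀ K : Type u} [Field k₀] [Field K] [Algebra k₀ K] [CharP K p]
  {ι : Type u} [Preorder ι] [IsDirected ι (· ≤ ·)] [Nonempty ι]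

theorem forward (k : ι → IntermediateField k₀ K) (hk : Antitone k)
    (hinf : (⨅ i, k i ⊔ IntermediateField.adjoin k₀ (Set.range fun y : K => y ^ p)) =
      IntermediateField.adjoin k₀ (Set.range fun y : K => y ^ p))
    (L : Type u) [Field L] [Algebra K L] [Algebra k₀ L] [IsScalarTower k₀ K L]
    (hfin : Module.Finite L (EGA41.imperfection k₀ K L)) :
    ∃ i, ∀ ω ∈ EGA41.imperfection k₀ K L,
      ((KaehlerDifferential.map k₀ (k i) K K).restrictScalars K).baseChange L ω = 0 → ω = 0 := by
  classical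
  obtain ⟨B, b, hB, hb⟩ := exists_pBasis_kaehler p (k₀ := k₀) (K := K)
  obtain ⟨B₀, hB₀⟩ := exists_finite_support B (b.baseChange L) (EGA41.imperfection k₀ K L)
    (Module.Finite.iff_fg.mp hfin)
  have hB₀B : Subtype.val '' (B₀ : Set ↥B) ⊆ B := by
    rintro _ ⟨i, -, rfl⟩
    exact i.2
  have hfinB : (Subtype.val '' (B₀ : Set ↥B)).Finite := (Finset.finite_toSet B₀).image _
  have hind0 := indep_subset p B _ hB₀B hB.1
  have : Finite ↥(Subtype.val '' (B₀ : Set ↥B)) := hfinB
  obtain ⟨i, hi⟩ := exists_pIndependent p k hk hinf _ hind0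
  exact ⟨i, fun ω hω hG => eq_zero_of_indep p B b hb B₀ (k i) hi ω (hB₀ hω) hG⟩

open Polynomial in
theorem backward (k : ι → IntermediateField k₀ K)
    (H : ∀ (L : Type u) [Field L] [Algebra K L] [Algebra k₀ L] [IsScalarTower k₀ K L],
        Module.Finite L (EGA41.imperfection k₀ K L) →
          ∃ i, ∀ ω ∈ EGA41.imperfection k₀ K L,
            ((KaehlerDifferential.map k₀ (k i) K K).restrictScalars K).baseChange L ω = 0 → ω = 0) :
    (⨅ i, k i ⊔ IntermediateField.adjoin k₀ (Set.range fun y : K => y ^ p)) =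
      IntermediateField.adjoin k₀ (Set.range fun y : K => y ^ p) := by
  refine le_antisymm ?_ (le_iInf fun i => le_sup_right)
  intro x hx
  by_contra hx0
  have hne : ∀ b : K, b ^ p ≠ x := fun b hb =>
    hx0 (hb ▸ IntermediateField.subset_adjoin k₀ _ ⟨b, rfl⟩)
  have hirr : Irreducible (X ^ p - C x : K[X]) :=
    X_pow_sub_C_irreducible_of_prime (Fact.out : p.Prime) hne
  have : Fact (Irreducible (X ^ p - C x : K[X])) := ⟨hirr⟩
  have hy : (AdjoinRoot.root (X ^ p - C x : K[X])) ^ p =
      algebraMap K (AdjoinRoot (X ^ p - C x : K[X])) x := by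
    have h1 := AdjoinRoot.eval₂_root (X ^ p - C x : K[X])
    rw [eval₂_sub, eval₂_pow, eval₂_X, eval₂_C, sub_eq_zero] at h1
    exact h1
  have hgen : Algebra.adjoin K ({AdjoinRoot.root (X ^ p - C x : K[X])} : Set _) = ⊤ :=
    AdjoinRoot.adjoinRoot_eq_top
  have hle := imperfection_le_span (k₀ := k₀) p x _ hy hgen hx0
  have hfin : Module.Finite (AdjoinRoot (X ^ p - C x : K[X]))
      (EGA41.imperfection k₀ K (AdjoinRoot (X ^ p - C x : K[X]))) :=
    Submodule.finiteDimensional_of_le hle
  obtain ⟨i, hi⟩ := H _ hfin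
  have hmem : (1 : AdjoinRoot (X ^ p - C x : K[X])) ⊗ₜ[K] KaehlerDifferential.D k₀ K x ∈
      EGA41.imperfection k₀ K (AdjoinRoot (X ^ p - C x : K[X])) := by
    have : CharP (AdjoinRoot (X ^ p - C x : K[X])) p :=
      charP_of_injective_algebraMap (algebraMap K _).injective p
    change KaehlerDifferential.mapBaseChange k₀ K _ _ = 0
    rw [KaehlerDifferential.mapBaseChange_tmul, one_smul, KaehlerDifferential.map_D, ← hy]
    exact D_pow_eq_zero p _ _
  have hG : ((KaehlerDifferential.map k₀ (k i) K K).restrictScalars K).baseChange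
      (AdjoinRoot (X ^ p - C x : K[X]))
      ((1 : AdjoinRoot (X ^ p - C x : K[X])) ⊗ₜ[K] KaehlerDifferential.D k₀ K x) = 0 := by
    rw [LinearMap.baseChange_tmul]
    change (1 : AdjoinRoot (X ^ p - C x : K[X])) ⊗ₜ[K]
      KaehlerDifferential.map k₀ (k i) K K (KaehlerDifferential.D k₀ K x) = 0
    rw [KaehlerDifferential.map_D]
    have hxi := (iInf_le (fun i => k i ⊔
        IntermediateField.adjoin k₀ (Set.range fun y : K => y ^ p)) i) hx
    have h0 := D_eq_zero_of_mem p (k i) x hxi
    change (1 : AdjoinRoot (X ^ p - C x : K[X])) ⊗ₜ[K] KaehlerDifferential.D (k i) K x = 0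
    rw [h0, TensorProduct.tmul_zero]
  have h1 := hi _ hmem hG
  have h2 : KaehlerDifferential.D k₀ K x = 0 := by
    have hinj := Module.Flat.tensorProduct_mk_injective (R := K)
      (S := AdjoinRoot (X ^ p - C x : K[X])) (Ω[K⁄k₀])
    apply hinj
    rw [map_zero]
    exact h1
  exact hx0 (mem_of_D_eq_zero p x h2)

end Main

end Groth.Agent.Lib.Helper49.AdmissibleExt
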