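import Groth.Agent.Lib.Helper13.Beil.Defs
set_option autoImplicit false
universe w u u₁ v₁ u₂ v₂
open CategoryTheory CategoryTheory.Limits CategoryTheory.Pretriangulated Opposite
open Groth.Agent.Lib.Helper13.Beil Groth.Agent.Lib.Helper40.Cpt

namespace Groth.Agent.Lib.Helper49.BeilF3

theorem finite_of_exact {k X₁ X₂ X₃ : Type*} [Field k] [AddCommGroup X₁] [Module k X₁]
    [AddCommGroup X₂] [Module k X₂] [AddCommGroup X₃] [Module k X₃]
    (f : X₁ →ₗ[k] X₂) (g : X₂ →ₗ[k] X₃) (h : LinearMap.range f = LinearMap.ker g)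
    [Module.Finite k X₁] [Module.Finite k X₃] : Module.Finite k X₂ := by
  have h1 : Module.Finite k (LinearMap.ker g) := by
    rw [← h]; infer_instance
  have h2 : Module.Finite k (X₂ ⧸ LinearMap.ker g) :=
    Module.Finite.equiv g.quotKerEquivRange.symm
  exact Module.Finite.of_submodule_quotient (LinearMap.ker g)

variable (k : Type u) [Field k] (A : Type u) [Ring A] [Algebra k A]

theorem finite_restrictScalars_iff (H : Type u) [AddCommGroup H] [Module A H] :
    Module.Finite k (RestrictScalars k A H) ↔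
      @Module.Finite k H _ _ (Module.compHom H (algebraMap k A)) := by
  letI : Module k H := Module.compHom H (algebraMap k A)
  let e : RestrictScalars k A H ≃ₗ[k] H :=
    { RestrictScalars.addEquiv k A H with
      map_smul' := fun c x => RestrictScalars.addEquiv_map_smul k A H c x }
  exact ⟨fun h => Module.Finite.equiv e, fun h => Module.Finite.equiv e.symm⟩

theorem finite_restrictScalars_of_exact {H₁ H₂ H₃ : Type u} [AddCommGroup H₁] [Module A H₁]
    [AddCommGroup H₂] [Module A H₂] [AddCommGroup H₃] [Module A H₃]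
    (f : H₁ →ₗ[A] H₂) (g : H₂ →ₗ[A] H₃) (h : ∀ x₂, g x₂ = 0 → ∃ x₁, f x₁ = x₂)
    (hgf : ∀ x₁, g (f x₁) = 0)
    (h₁ : Module.Finite k (RestrictScalars k A H₁)) (h₃ : Module.Finite k (RestrictScalars k A H₃)) :
    Module.Finite k (RestrictScalars k A H₂) := by
  rw [finite_restrictScalars_iff] at h₁ h₃ ⊢
  letI : Module k H₁ := Module.compHom H₁ (algebraMap k A)
  letI : Module k H₂ := Module.compHom H₂ (algebraMap k A)
  letI : Module k H₃ := Module.compHom H₃ (algebraMap k A)
  haveI : IsScalarTower k A H₁ := IsScalarTower.of_algebraMap_smul (fun r x => rfl)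
  haveI : IsScalarTower k A H₂ := IsScalarTower.of_algebraMap_smul (fun r x => rfl)
  haveI : IsScalarTower k A H₃ := IsScalarTower.of_algebraMap_smul (fun r x => rfl)
  refine finite_of_exact (f.restrictScalars k) (g.restrictScalars k) ?_
  ext x
  constructor
  · rintro ⟨y, rfl⟩
    exact hgf y
  · intro hx
    obtain ⟨y, hy⟩ := h x hx
    exact ⟨y, hy⟩

variable [HasDerivedCategory.{w} (ModuleCat.{u} A)]

theorem pfin_ext (T : Triangle (DerivedCategory (ModuleCat.{u} A)))
    (hT : T ∈ distTriang (DerivedCategory (ModuleCat.{u} A))) (h₁ : Pfin k A T.obj₁)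
    (h₃ : Pfin k A T.obj₃) : Pfin k A T.obj₂ := by
  have hex : ∀ i : ℤ, ((shortComplexOfDistTriangle T hT).map
      (DerivedCategory.homologyFunctor (ModuleCat.{u} A) i)).Exact :=
    fun i => (DerivedCategory.homologyFunctor (ModuleCat.{u} A) i).map_distinguished_exact T hT
  have hex' : ∀ i : ℤ, ∀ x₂ : (DerivedCategory.homologyFunctor (ModuleCat.{u} A) i).obj T.obj₂,
      ((DerivedCategory.homologyFunctor (ModuleCat.{u} A) i).map T.mor₂).hom x₂ = 0 →
      ∃ x₁, ((DerivedCategory.homologyFunctor (ModuleCat.{u} A) i).map T.mor₁).hom x₁ = x₂ :=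
    fun i => (ShortComplex.moduleCat_exact_iff _).mp (hex i)
  have hzero : ∀ i : ℤ, ∀ x₁ : (DerivedCategory.homologyFunctor (ModuleCat.{u} A) i).obj T.obj₁,
      ((DerivedCategory.homologyFunctor (ModuleCat.{u} A) i).map T.mor₂).hom
        (((DerivedCategory.homologyFunctor (ModuleCat.{u} A) i).map T.mor₁).hom x₁) = 0 := by
    intro i x₁
    have := ((shortComplexOfDistTriangle T hT).map
      (DerivedCategory.homologyFunctor (ModuleCat.{u} A) i)).zero
    exact congrArg (fun φ => φ.hom x₁) this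
  refine ⟨fun i => ?_, ?_⟩
  · exact finite_restrictScalars_of_exact k A _ _ (hex' i) (hzero i) (h₁.1 i) (h₃.1 i)
  · refine (h₁.2.union h₃.2).subset ?_
    intro i hi
    by_contra hcon
    simp only [Set.mem_union, Set.mem_ofPred_eq, not_or, not_nontrivial_iff_subsingleton] at hcon
    obtain ⟨hs₁, hs₃⟩ := hcon
    have hi' : Nontrivial ((DerivedCategory.homologyFunctor (ModuleCat.{u} A) i).obj T.obj₂) := hi
    obtain ⟨x, y, hxy⟩ := hi'
    have key : ∀ z : (DerivedCategory.homologyFunctor (ModuleCat.{u} A) i).obj T.obj₂, z = 0 := by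
      intro z
      obtain ⟨x₁, hx₁⟩ := hex' i z (Subsingleton.elim _ _)
      rw [← hx₁, Subsingleton.elim x₁ 0, map_zero]
    exact hxy ((key x).trans (key y).symm)

end Groth.Agent.Lib.Helper49.BeilF3
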