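import Groth.Agent.Lib.Helper13.Beil.Defs
import Groth.Agent.Lib.Helper49.BeilF3
set_option autoImplicit false
universe w u u₁ v₁ u₂ v₂
open CategoryTheory CategoryTheory.Limits CategoryTheory.Pretriangulated Opposite
open Groth.Agent.Lib.Helper13.Beil Groth.Agent.Lib.Helper40.Cpt

namespace Groth.Agent.Lib.Helper49.BeilF2

open Groth.Agent.Lib.Helper49.BeilF3

variable (k : Type u) [Field k] (A : Type u) [Ring A] [Algebra k A]

theorem finite_restrictScalars_of_linearEquiv {H H' : Type u} [AddCommGroup H] [Module A H]
    [AddCommGroup H'] [Module A H'] (e : H ≃ₗ[A] H')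
    (h : Module.Finite k (RestrictScalars k A H)) : Module.Finite k (RestrictScalars k A H') := by
  rw [finite_restrictScalars_iff] at h ⊢
  letI : Module k H := Module.compHom H (algebraMap k A)
  letI : Module k H' := Module.compHom H' (algebraMap k A)
  haveI : IsScalarTower k A H := IsScalarTower.of_algebraMap_smul (fun r x => rfl)
  haveI : IsScalarTower k A H' := IsScalarTower.of_algebraMap_smul (fun r x => rfl)
  exact Module.Finite.equiv (e.restrictScalars k)

variable [HasDerivedCategory.{w} (ModuleCat.{u} A)]

noncomputable def shiftHomologyIso (K : DerivedCategory (ModuleCat.{u} A)) (n i : ℤ) :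
    (DerivedCategory.homologyFunctor (ModuleCat.{u} A) i).obj (K⟦n⟧) ≅
      (DerivedCategory.homologyFunctor (ModuleCat.{u} A) (n + i)).obj K :=
  ((DerivedCategory.homologyFunctor (ModuleCat.{u} A) 0).shiftIso n i (n + i) rfl).app K

theorem pfin_shift (K : DerivedCategory (ModuleCat.{u} A)) (n : ℤ) (h : Pfin k A K) :
    Pfin k A (K⟦n⟧) := by
  refine ⟨fun i => ?_, ?_⟩
  · exact finite_restrictScalars_of_linearEquiv k A (shiftHomologyIso A K n i).symm.toLinearEquiv
      (h.1 (n + i))
  · refine (h.2.preimage (f := fun i : ℤ => n + i) ?_).subset ?_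
    · intro a _ b _ hab
      exact add_left_cancel hab
    · intro i hi
      have hi' : Nontrivial ((DerivedCategory.homologyFunctor (ModuleCat.{u} A) i).obj (K⟦n⟧)) := hi
      change Nontrivial ((DerivedCategory.homologyFunctor (ModuleCat.{u} A) (n + i)).obj K)
      exact (shiftHomologyIso A K n i).toLinearEquiv.toEquiv.symm.nontrivial

end Groth.Agent.Lib.Helper49.BeilF2
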