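import Groth.Agent.Lib.Helper13.Beil.Defs
import Groth.Agent.Lib.Helper49.BeilF3
set_option autoImplicit false
universe w u u₁ v₁ u₂ v₂
open CategoryTheory CategoryTheory.Limits CategoryTheory.Pretriangulated Opposite
open Groth.Agent.Lib.Helper13.Beil Groth.Agent.Lib.Helper40.Cpt

namespace Groth.Agent.Lib.Helper49.BeilF5

open Groth.Agent.Lib.Helper49.BeilF3

variable (k : Type u) [Field k] (A : Type u) [Ring A] [Algebra k A]

theorem finite_restrictScalars_of_subsingleton (H : Type u) [AddCommGroup H] [Module A H]
    [Subsingleton H] : Module.Finite k (RestrictScalars k A H) := by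
  rw [finite_restrictScalars_iff]
  letI : Module k H := Module.compHom H (algebraMap k A)
  exact Module.Finite.of_finite

theorem finite_restrictScalars_of_equiv [Module.Finite k A] (H : Type u) [AddCommGroup H]
    [Module A H] (e : A ≃ₗ[A] H) : Module.Finite k (RestrictScalars k A H) := by
  rw [finite_restrictScalars_iff]
  letI : Module k H := Module.compHom H (algebraMap k A)
  haveI : IsScalarTower k A H := IsScalarTower.of_algebraMap_smul (fun r x => rfl)
  exact Module.Finite.equiv (e.restrictScalars k)

variable [HasDerivedCategory.{w} (ModuleCat.{u} A)]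

theorem pfin_single_self [Module.Finite k A] :
    Pfin k A ((DerivedCategory.singleFunctor (ModuleCat.{u} A) 0).obj (ModuleCat.of A A)) := by
  have hz : ∀ i : ℤ, i ≠ 0 → IsZero ((DerivedCategory.homologyFunctor (ModuleCat.{u} A) i).obj
      ((DerivedCategory.singleFunctor (ModuleCat.{u} A) 0).obj (ModuleCat.of A A))) := by
    intro i hi
    rcases lt_or_gt_of_ne hi with h | h
    · exact DerivedCategory.isZero_of_isGE _ 0 i h
    · exact DerivedCategory.isZero_of_isLE _ 0 i h
  refine ⟨fun i => ?_, ?_⟩
  · by_cases hi : i = 0
    · subst hi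
      let e := (DerivedCategory.singleFunctorCompHomologyFunctorIso (ModuleCat.{u} A) 0).app
        (ModuleCat.of A A)
      exact finite_restrictScalars_of_equiv k A _ e.symm.toLinearEquiv
    · haveI : Subsingleton ((DerivedCategory.homologyFunctor (ModuleCat.{u} A) i).obj
          ((DerivedCategory.singleFunctor (ModuleCat.{u} A) 0).obj (ModuleCat.of A A))) :=
        ModuleCat.subsingleton_of_isZero (hz i hi)
      exact finite_restrictScalars_of_subsingleton k A _
  · refine (Set.finite_singleton (0 : ℤ)).subset ?_
    intro i hi
    by_contra hne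
    have hi' : Nontrivial ((DerivedCategory.homologyFunctor (ModuleCat.{u} A) i).obj
        ((DerivedCategory.singleFunctor (ModuleCat.{u} A) 0).obj (ModuleCat.of A A))) := hi
    haveI : Subsingleton ((DerivedCategory.homologyFunctor (ModuleCat.{u} A) i).obj
        ((DerivedCategory.singleFunctor (ModuleCat.{u} A) 0).obj (ModuleCat.of A A))) :=
      ModuleCat.subsingleton_of_isZero (hz i hne)
    exact not_subsingleton _ ‹_›

end Groth.Agent.Lib.Helper49.BeilF5
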