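import Groth.Agent.Lib.Helper49.KaehlerResidue
import Groth.Agent.Lib.Helper49.FSRegular2
import Mathlib.Algebra.TrivSqZeroExt.Ideal

set_option autoImplicit false
universe u
namespace Groth.Agent.Lib.Helper49.FSJacobi

open TensorProduct KaehlerDifferential IsLocalRing Groth.Agent.Lib.Helper61.FSAdic
  Groth.Agent.Lib.Helper49.KaehlerResidue

section tsze

variable {k K : Type u} [Field k] [Field K] [Algebra k K]

theorem mem_kerIdeal_iff (t : TrivSqZeroExt K K) :
    t ∈ TrivSqZeroExt.kerIdeal K K ↔ t.fst = 0 := by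
  change t ∈ RingHom.ker _ ↔ _
  rw [RingHom.mem_ker]
  rfl

noncomputable def twist (δ : Derivation ℤ k K) : k →+* TrivSqZeroExt K K where
  toFun x := TrivSqZeroExt.inl (algebraMap k K x) + TrivSqZeroExt.inr (δ x)
  map_one' := by
    rw [map_one, Derivation.map_one_eq_zero, TrivSqZeroExt.inr_zero, add_zero,
      TrivSqZeroExt.inl_one]
  map_mul' x y := by
    apply TrivSqZeroExt.ext
    · simp only [TrivSqZeroExt.fst_add, TrivSqZeroExt.fst_inl, TrivSqZeroExt.fst_inr, add_zero,
        TrivSqZeroExt.fst_mul, map_mul]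
    · simp only [TrivSqZeroExt.snd_add, TrivSqZeroExt.snd_inl, TrivSqZeroExt.snd_inr,
        TrivSqZeroExt.snd_mul, TrivSqZeroExt.fst_add, TrivSqZeroExt.fst_inl,
        TrivSqZeroExt.fst_inr, add_zero, zero_add, Derivation.leibniz, smul_eq_mul,
        MulOpposite.smul_eq_mul_unop, MulOpposite.unop_op, Algebra.smul_def]
      ring
  map_zero' := by
    rw [map_zero, map_zero, TrivSqZeroExt.inr_zero, add_zero, TrivSqZeroExt.inl_zero]
  map_add' x y := by
    rw [map_add, map_add, TrivSqZeroExt.inl_add, TrivSqZeroExt.inr_add]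
    abel

theorem fst_twist (δ : Derivation ℤ k K) (x : k) : (twist δ x).fst = algebraMap k K x := by
  change (TrivSqZeroExt.inl (algebraMap k K x) + TrivSqZeroExt.inr (δ x)).fst = _
  rw [TrivSqZeroExt.fst_add, TrivSqZeroExt.fst_inl, TrivSqZeroExt.fst_inr, add_zero]

theorem snd_twist (δ : Derivation ℤ k K) (x : k) : (twist δ x).snd = δ x := by
  change (TrivSqZeroExt.inl (algebraMap k K x) + TrivSqZeroExt.inr (δ x)).snd = _
  rw [TrivSqZeroExt.snd_add, TrivSqZeroExt.snd_inl, TrivSqZeroExt.snd_inr, zero_add]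

end tsze

variable {k A : Type u} [Field k] [CommRing A] [IsLocalRing A] [Algebra k A]

theorem exists_derivation_of_lifts
    (hL : Lifts (⊥ : Ideal k) (algebraMap k A) (maximalIdeal A))
    (δ : Derivation ℤ k (ResidueField A)) :
    ∃ D' : Derivation ℤ A (ResidueField A), ∀ x, D' (algebraMap k A x) = δ x := by
  have hJ : TrivSqZeroExt.kerIdeal (ResidueField A) (ResidueField A) ^ 2 = ⊥ :=
    TrivSqZeroExt.kerIdeal_sq _ _
  let u : A →+* TrivSqZeroExt (ResidueField A) (ResidueField A) ⧸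
      TrivSqZeroExt.kerIdeal (ResidueField A) (ResidueField A) :=
    (Ideal.Quotient.mk _).comp
      ((TrivSqZeroExt.inlHom (ResidueField A) (ResidueField A)).comp (residue A))
  have hu : ∀ a, u a = Ideal.Quotient.mk _ (TrivSqZeroExt.inl (residue A a)) := fun a => rfl
  obtain ⟨v, hv1, hv2⟩ := hL (TrivSqZeroExt (ResidueField A) (ResidueField A))
    (TrivSqZeroExt.kerIdeal (ResidueField A) (ResidueField A)) ⟨2, hJ⟩ (twist δ) ⟨1, by simp⟩ u
    (by
      ext x
      simp only [RingHom.comp_apply]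
      rw [hu, Ideal.Quotient.eq, mem_kerIdeal_iff, TrivSqZeroExt.fst_sub, TrivSqZeroExt.fst_inl,
        fst_twist, sub_eq_zero]
      rfl)
    ⟨1, fun a ha => by
      rw [pow_one] at ha
      rw [hu, (residue_eq_zero_iff a).mpr ha, TrivSqZeroExt.inl_zero, map_zero]⟩
  have hfst : ∀ a, (v a).fst = residue A a := by
    intro a
    have h1 : Ideal.Quotient.mk _ (v a) = u a := DFunLike.congr_fun hv2 a
    rw [hu, Ideal.Quotient.eq, mem_kerIdeal_iff, TrivSqZeroExt.fst_sub, TrivSqZeroExt.fst_inl,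
      sub_eq_zero] at h1
    exact h1
  let D₀ : A →ₗ[ℤ] ResidueField A :=
    ((TrivSqZeroExt.sndHom (ResidueField A) (ResidueField A)).toAddMonoidHom.comp
      v.toAddMonoidHom).toIntLinearMap
  have hD₀ : ∀ a, D₀ a = (v a).snd := fun a => rfl
  refine ⟨Derivation.mk' D₀ (fun a b => ?_), fun x => ?_⟩
  · rw [hD₀, hD₀, hD₀, map_mul, TrivSqZeroExt.snd_mul, hfst, hfst]
    simp only [smul_eq_mul, MulOpposite.smul_eq_mul_unop, MulOpposite.unop_op, Algebra.smul_def]
    rw [mul_comm (v a).snd]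
    rfl
  · change (v (algebraMap k A x)).snd = δ x
    have h1 : v (algebraMap k A x) = twist δ x := DFunLike.congr_fun hv1 x
    rw [h1, snd_twist]

end Groth.Agent.Lib.Helper49.FSJacobi
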