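import Groth.Agent.Lib.Helper49.CoeffFieldPS
import Groth.Agent.Lib.Helper61.FSAdicComplete
import Groth.Agent.Lib.Helper61.MvPSComplete
import Groth.Agent.S4533
import Groth.Prelude.Def_CAlgX
import Mathlib.RingTheory.AdicCompletion.Completeness
import Mathlib.RingTheory.MvPowerSeries.Equiv

set_option autoImplicit false
universe u
namespace Groth.Agent.Lib.Helper49.FSRegular

open IsLocalRing Groth.Agent.Lib.Helper61.FSAdic

theorem maximalIdeal_mvPowerSeries_eq (K : Type u) [Field K] (d : ℕ) :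
    maximalIdeal (MvPowerSeries (Fin d) K) =
      Ideal.span (Set.range (MvPowerSeries.X : Fin d → MvPowerSeries (Fin d) K)) := by
  ext f
  have h1 := Groth.Agent.Lib.Helper61.MvPSComplete.mem_pow_iff (σ := Fin d) (R := K) (M := 1) (f := f)
  rw [pow_one] at h1
  rw [h1, Nat.cast_one, MvPowerSeries.one_le_order_iff_constCoeff_eq_zero,
    IsLocalRing.mem_maximalIdeal, mem_nonunits_iff, MvPowerSeries.isUnit_iff_constantCoeff,
    isUnit_iff_ne_zero, not_not]

theorem isAdicComplete_mvPowerSeries (K : Type u) [Field K] (d : ℕ) :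
    IsAdicComplete (maximalIdeal (MvPowerSeries (Fin d) K)) (MvPowerSeries (Fin d) K) := by
  rw [maximalIdeal_mvPowerSeries_eq]
  infer_instance

theorem isAdicFormallySmooth_mvPowerSeries {k K : Type u} [Field k] [Field K] [Algebra k K]
    [Algebra.FormallySmooth k K] (n : ℕ) :
    CAlgX.IsAdicFormallySmooth k (MvPowerSeries (Fin n) K)
      (maximalIdeal (MvPowerSeries (Fin n) K)) := by
  have h1 : Lifts (⊥ : Ideal k) (algebraMap k K) (⊥ : Ideal K) := by
    intro C _ J hJ φ _ u hu _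
    letI : Algebra k C := φ.toAlgebra
    let u' : K →ₐ[k] C ⧸ J := { u with commutes' := fun a => DFunLike.congr_fun hu a }
    obtain ⟨v, hv⟩ := Algebra.FormallySmooth.exists_lift J hJ u'
    refine ⟨v.toRingHom, RingHom.ext fun a => v.commutes a, RingHom.ext fun b => ?_⟩
    exact DFunLike.congr_fun hv b
  have hmax : (⊥ : Ideal K).map (MvPowerSeries.C : K →+* MvPowerSeries (Fin n) K) ⊔
      RingHom.ker (MvPowerSeries.constantCoeff : MvPowerSeries (Fin n) K →+* K) =
      maximalIdeal (MvPowerSeries (Fin n) K) := by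
    rw [Ideal.map_bot, bot_sup_eq]
    ext f
    rw [RingHom.mem_ker, IsLocalRing.mem_maximalIdeal, mem_nonunits_iff,
      MvPowerSeries.isUnit_iff_constantCoeff, isUnit_iff_ne_zero, not_not]
  have h2 := Groth.Agent.S4533.result K (⊥ : Ideal K) n
  rw [ega_iff, hmax] at h2
  have h3 := Lifts.comp (f := algebraMap k K)
    (g := algebraMap K (MvPowerSeries (Fin n) K)) ⟨1, by simp⟩ h1 h2
  rw [calgx_iff]
  rw [IsScalarTower.algebraMap_eq k K (MvPowerSeries (Fin n) K)]
  exact liftsSq_of_lifts h3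

theorem isAdicFormallySmooth_of_algEquiv {R S S' : Type u} [CommRing R] [CommRing S]
    [CommRing S'] [Algebra R S] [Algebra R S'] (e : S ≃ₐ[R] S') (𝔫 : Ideal S) (𝔫' : Ideal S')
    (h𝔫 : 𝔫.map (e : S →+* S') ≤ 𝔫') (h : CAlgX.IsAdicFormallySmooth R S 𝔫) :
    CAlgX.IsAdicFormallySmooth R S' 𝔫' := by
  intro C _ _ J hJ ψ hψ
  obtain ⟨j, hj⟩ := hψ
  obtain ⟨χ, hχ⟩ := h C J hJ (ψ.comp (e : S →ₐ[R] S')) ⟨j, fun x hx => by
    apply hj
    have h1 : (e : S →+* S') x ∈ (𝔫 ^ j).map (e : S →+* S') := Ideal.mem_map_of_mem _ hx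
    rw [Ideal.map_pow] at h1
    exact Ideal.pow_right_mono h𝔫 j h1⟩
  refine ⟨χ.comp (e.symm : S' →ₐ[R] S), AlgHom.ext fun y => ?_⟩
  have h2 := DFunLike.congr_fun hχ (e.symm y)
  simp only [AlgHom.comp_apply] at h2 ⊢
  rw [AlgEquiv.coe_algHom] at h2 ⊢
  rw [h2]
  simp

theorem sub_mem_pow_succ {P : Type*} [CommRing P] [IsLocalRing P] (θ : P →+* P)
    (h : ∀ x, θ x - x ∈ maximalIdeal P ^ 2) (r : ℕ) :
    ∀ x ∈ maximalIdeal P ^ (r + 1), θ x - x ∈ maximalIdeal P ^ (r + 2) := by
  induction r with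
  | zero =>
    intro x _
    exact h x
  | succ r ih =>
    intro x hx
    rw [pow_succ] at hx
    refine Submodule.mul_induction_on hx (fun a ha b hb => ?_) (fun a b ha hb => ?_)
    · have h1 : θ (a * b) - a * b = θ a * (θ b - b) + (θ a - a) * b := by
        rw [map_mul]; ring
      rw [h1]
      have h2 : θ a ∈ maximalIdeal P ^ (r + 1) := by
        have : θ a = (θ a - a) + a := by ring
        rw [this]
        exact Ideal.add_mem _ (Ideal.pow_le_pow_right (by omega) (ih a ha)) ha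
      refine Ideal.add_mem _ ?_ ?_
      · have h3 := Ideal.mul_mem_mul h2 (h b)
        rw [← pow_add] at h3
        exact Ideal.pow_le_pow_right (by omega) h3
      · have h3 := Ideal.mul_mem_mul (ih a ha) hb
        rw [← pow_succ] at h3
        exact h3
    · have h1 : θ (a + b) - (a + b) = (θ a - a) + (θ b - b) := by
        rw [map_add]; ring
      rw [h1]
      exact Ideal.add_mem _ ha hb

theorem injective_of_sub_mem_sq {P : Type*} [CommRing P] [IsLocalRing P]
    (hK : ⨅ i, maximalIdeal P ^ i = ⊥) (θ : P →+* P)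
    (h : ∀ x, θ x - x ∈ maximalIdeal P ^ 2) : Function.Injective θ := by
  rw [injective_iff_map_eq_zero]
  intro x hx
  by_contra hne
  have hex : ∃ i, x ∉ maximalIdeal P ^ i := by
    by_contra hcon
    push_neg at hcon
    apply hne
    have : x ∈ ⨅ i, maximalIdeal P ^ i := by
      rw [Ideal.mem_iInf]
      exact hcon
    rwa [hK, Ideal.mem_bot] at this
  classical
  let N := Nat.find hex
  have hN : x ∉ maximalIdeal P ^ N := Nat.find_spec hex
  have hN1 : 1 ≤ N := by
    by_contra hlt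
    push_neg at hlt
    apply hN
    have : N = 0 := by omega
    rw [this]
    simp
  rcases Nat.lt_or_ge N 2 with hlt | hge
  · have hN' : N = 1 := by omega
    rw [hN', pow_one] at hN
    have hu : IsUnit x := IsLocalRing.notMem_maximalIdeal.mp hN
    have := hu.map θ
    rw [hx] at this
    exact not_isUnit_zero this
  · have hmem : x ∈ maximalIdeal P ^ (N - 2 + 1) := by
      have := Nat.find_min hex (show N - 2 + 1 < N by omega)
      push_neg at this
      exact this
    have h1 := sub_mem_pow_succ θ h (N - 2) x hmem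
    rw [hx, zero_sub, neg_mem_iff] at h1
    apply hN
    have h2 : N - 2 + 2 = N := by omega
    rwa [h2] at h1

theorem isHausdorff_quotient {C : Type*} [CommRing C] [IsLocalRing C] [IsNoetherianRing C]
    (J : Ideal C) (hJ : J ≠ ⊤) :
    IsHausdorff ((maximalIdeal C).map (Ideal.Quotient.mk J)) (C ⧸ J) := by
  have hJm : J ≤ maximalIdeal C := IsLocalRing.le_maximalIdeal hJ
  haveI : Nontrivial (C ⧸ J) := Ideal.Quotient.nontrivial_iff.mpr hJ
  haveI : IsLocalRing (C ⧸ J) :=
    IsLocalRing.of_surjective' (Ideal.Quotient.mk J) Ideal.Quotient.mk_surjective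
  have hne : (maximalIdeal C).map (Ideal.Quotient.mk J) ≠ ⊤ := by
    intro h
    have h2 := congrArg (Ideal.comap (Ideal.Quotient.mk J)) h
    rw [Ideal.comap_map_of_surjective _ Ideal.Quotient.mk_surjective, Ideal.comap_top,
      ← RingHom.ker_eq_comap_bot, Ideal.mk_ker, sup_eq_left.mpr hJm] at h2
    exact (maximalIdeal.isMaximal C).ne_top h2
  exact IsHausdorff.of_isLocalRing _ _ hne

section main

variable {k K R : Type u} [Field k] [Field K] [Algebra k K] [Algebra.FormallySmooth k K]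
  [CommRing R] [IsLocalRing R] [IsNoetherianRing R] [IsAdicComplete (maximalIdeal R) R]
  [Algebra k R]

theorem exists_presentation_alg (f : K →ₐ[k] R ⧸ maximalIdeal R) (hf : Function.Surjective f) :
    ∃ (d : ℕ) (ψ : MvPowerSeries (Fin d) K →ₐ[k] R),
      Function.Surjective ψ ∧
      RingHom.ker ψ.toRingHom ≤ maximalIdeal (MvPowerSeries (Fin d) K) ^ 2 ∧
      (IsRegularLocalRing R ↔ Function.Bijective ψ) := by
  obtain ⟨σ, hσ⟩ := Algebra.FormallySmooth.exists_mkₐ_comp_eq_of_isAdicComplete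
    (I := maximalIdeal R) f
  letI : Algebra K R := σ.toRingHom.toAlgebra
  have hR : Function.Surjective ((residue R).comp (algebraMap K R)) := by
    intro y
    obtain ⟨x, hx⟩ := hf y
    refine ⟨x, ?_⟩
    rw [← hx]
    exact DFunLike.congr_fun hσ x
  obtain ⟨d, ψ, -, h1, h2, h3⟩ := Groth.Agent.Lib.Helper49.CoeffField.exists_presentation
    (K := K) (A := R) hR
  refine ⟨d, { ψ.toRingHom with commutes' := fun x => ?_ }, h1, h2, h3⟩
  change ψ (algebraMap k (MvPowerSeries (Fin d) K) x) = algebraMap k R x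
  rw [IsScalarTower.algebraMap_apply k K (MvPowerSeries (Fin d) K), ψ.commutes]
  exact σ.commutes x

theorem isRegularLocalRing_of_isAdicFormallySmooth (f : K →ₐ[k] R ⧸ maximalIdeal R)
    (hf : Function.Surjective f) (h : CAlgX.IsAdicFormallySmooth k R (maximalIdeal R)) :
    IsRegularLocalRing R := by
  obtain ⟨d, ψ, hsurj, hker, hiff⟩ := exists_presentation_alg f hf
  rw [hiff]
  refine ⟨?_, hsurj⟩
  have hL : Lifts (⊥ : Ideal k) (algebraMap k R) (maximalIdeal R) :=
    lifts_of_liftsSq ((calgx_iff (maximalIdeal R)).mp h)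
  set P := MvPowerSeries (Fin d) K with hP
  set n := maximalIdeal P with hn
  have hker' : RingHom.ker ψ.toRingHom ≤ RingHom.ker (Ideal.Quotient.mk (n ^ 2)) := by
    rw [Ideal.mk_ker]
    exact hker
  let φ₂ : R →+* P ⧸ n ^ 2 :=
    ψ.toRingHom.liftOfSurjective hsurj ⟨Ideal.Quotient.mk (n ^ 2), hker'⟩
  have hφ₂ : ∀ t : P, φ₂ (ψ t) = Ideal.Quotient.mk (n ^ 2) t := fun t =>
    RingHom.liftOfRightInverse_comp_apply _ _ _ ⟨Ideal.Quotient.mk (n ^ 2), hker'⟩ t
  haveI : IsAdicComplete n P := isAdicComplete_mvPowerSeries K d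
  have hn2 : n ^ 2 ≠ ⊤ := by
    intro htop
    have h1 : n ^ 2 ≤ n := Ideal.pow_le_self (by norm_num)
    rw [htop] at h1
    exact (maximalIdeal.isMaximal P).ne_top (top_le_iff.mp h1)
  haveI : IsHausdorff (n.map (Ideal.Quotient.mk (n ^ 2))) (P ⧸ n ^ 2) :=
    isHausdorff_quotient (n ^ 2) hn2
  obtain ⟨v, -, hv, -⟩ := lift_to_complete hL n (algebraMap k P) ⟨1, by simp⟩ (n ^ 2)
    ⟨1, by rw [pow_one]; exact Ideal.pow_le_self (by norm_num)⟩ φ₂
    (by
      ext x
      simp only [RingHom.comp_apply]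
      rw [← ψ.commutes x]
      exact hφ₂ _)
    ⟨1, by
      rw [pow_one, Ideal.map_le_iff_le_comap]
      intro y hy
      obtain ⟨t, rfl⟩ := hsurj y
      rw [Ideal.mem_comap, hφ₂]
      apply Ideal.mem_map_of_mem
      rw [hn, IsLocalRing.mem_maximalIdeal, mem_nonunits_iff]
      intro hu
      exact (IsLocalRing.mem_maximalIdeal _).mp hy (hu.map ψ)⟩
  have hθ : ∀ x : P, (v.comp ψ.toRingHom) x - x ∈ maximalIdeal P ^ 2 := by
    intro x
    rw [← Ideal.Quotient.eq]
    have h1 := DFunLike.congr_fun hv (ψ x)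
    simp only [RingHom.comp_apply] at h1
    rw [hφ₂] at h1
    exact h1
  have hK : ⨅ i, maximalIdeal P ^ i = ⊥ :=
    Ideal.iInf_pow_eq_bot_of_isLocalRing _ (maximalIdeal.isMaximal P).ne_top
  have hinj := injective_of_sub_mem_sq hK (v.comp ψ.toRingHom) hθ
  exact Function.Injective.of_comp (f := v) hinj

theorem exists_algEquiv_of_isRegularLocalRing (f : K →ₐ[k] R ⧸ maximalIdeal R)
    (hf : Function.Surjective f) (h : IsRegularLocalRing R) :
    ∃ (d : ℕ), Nonempty (MvPowerSeries (Fin d) K ≃ₐ[k] R) := by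
  obtain ⟨d, ψ, -, -, hiff⟩ := exists_presentation_alg f hf
  exact ⟨d, ⟨AlgEquiv.ofBijective ψ (hiff.mp h)⟩⟩

theorem isAdicFormallySmooth_of_isRegularLocalRing (f : K →ₐ[k] R ⧸ maximalIdeal R)
    (hf : Function.Surjective f) (h : IsRegularLocalRing R) :
    CAlgX.IsAdicFormallySmooth k R (maximalIdeal R) := by
  obtain ⟨d, ⟨e⟩⟩ := exists_algEquiv_of_isRegularLocalRing f hf h
  refine isAdicFormallySmooth_of_algEquiv e (maximalIdeal (MvPowerSeries (Fin d) K)) _ ?_
    (isAdicFormallySmooth_mvPowerSeries d)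
  rw [Ideal.map_le_iff_le_comap]
  intro t ht
  rw [Ideal.mem_comap, IsLocalRing.mem_maximalIdeal, mem_nonunits_iff]
  intro hu
  apply (IsLocalRing.mem_maximalIdeal _).mp ht
  have h1 := hu.map (e.symm : R →+* MvPowerSeries (Fin d) K)
  simpa using h1

end main

end Groth.Agent.Lib.Helper49.FSRegular
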