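import Mathlib

set_option autoImplicit false
set_option linter.unusedSectionVars false
set_option linter.style.haveILetI false
universe u
open TensorProduct IsLocalRing Polynomial

namespace Groth.Agent.Lib.Helper49.GRingFree

theorem exists_finite_free_algHom (R : Type u) [CommRing R] (n : ℕ) :
    ∀ (B : Type u) [CommRing B] [Algebra R B] (b : Fin n → B), (∀ i, IsIntegral R (b i)) →
      ∃ (S : Type u) (_ : CommRing S) (_ : Algebra R S), Module.Finite R S ∧ Module.Free R S ∧
        ∃ π : S →ₐ[R] B, ∀ i, b i ∈ π.range := by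
  induction n with
  | zero =>
    intro B _ _ b _
    exact ⟨R, inferInstance, inferInstance, inferInstance, inferInstance, Algebra.ofId R B,
      fun i => i.elim0⟩
  | succ n ih =>
    intro B _ _ b hb
    obtain ⟨S', _, _, hfin, hfree, π', hπ'⟩ := ih B (fun i => b i.castSucc) (fun i => hb _)
    obtain ⟨f, hfm, hf0⟩ := hb (Fin.last n)
    let g : S'[X] := f.map (algebraMap R S')
    have hgm : g.Monic := hfm.map _
    have hg0 : g.eval₂ (π' : S' →+* B) (b (Fin.last n)) = 0 := by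
      rw [Polynomial.eval₂_map]
      have : (π' : S' →+* B).comp (algebraMap R S') = algebraMap R B := by
        ext r
        exact π'.commutes r
      rw [this]
      exact hf0
    haveI : Module.Finite S' (AdjoinRoot g) := hgm.finite_adjoinRoot
    haveI : Module.Free S' (AdjoinRoot g) := hgm.free_adjoinRoot
    refine ⟨AdjoinRoot g, inferInstance, inferInstance, Module.Finite.trans S' _,
      Module.Free.trans (R := R) (S := S') (M := AdjoinRoot g),
      AdjoinRoot.liftAlgHom g π' (b (Fin.last n)) hg0, ?_⟩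
    intro i
    refine Fin.lastCases ?_ (fun j => ?_) i
    · exact ⟨AdjoinRoot.root g, AdjoinRoot.liftAlgHom_root g π' _ hg0⟩
    · obtain ⟨s, hs⟩ := hπ' j
      exact ⟨AdjoinRoot.of g s, (AdjoinRoot.liftAlgHom_of g π' _ hg0 s).trans hs⟩

end Groth.Agent.Lib.Helper49.GRingFree

namespace Groth.Agent.Lib.Helper49.GRingFree

open scoped nonZeroDivisors

theorem exists_finite_free_residue (R : Type u) [CommRing R] (P₀ : Ideal R) [P₀.IsPrime]
    (k' : Type u) [Field k'] [Algebra P₀.ResidueField k'] [Module.Finite P₀.ResidueField k']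
    [Algebra R k'] [IsScalarTower R P₀.ResidueField k'] :
    ∃ (S : Type u) (_ : CommRing S) (_ : Algebra R S), Module.Finite R S ∧ Module.Free R S ∧
      ∃ π : S →ₐ[R] k', ∀ z : k', ∃ s₁ s₂ : S, π s₂ ≠ 0 ∧ z * π s₂ = π s₁ := by
  classical
  let _ : Algebra (R ⧸ P₀) k' :=
    ((algebraMap P₀.ResidueField k').comp (algebraMap (R ⧸ P₀) P₀.ResidueField)).toAlgebra
  have : IsScalarTower (R ⧸ P₀) P₀.ResidueField k' := IsScalarTower.of_algebraMap_eq (fun _ => rfl)
  have : IsScalarTower R (R ⧸ P₀) k' := IsScalarTower.of_algebraMap_eq (fun r => by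
    rw [IsScalarTower.algebraMap_apply R P₀.ResidueField k',
      IsScalarTower.algebraMap_apply R (R ⧸ P₀) P₀.ResidueField]
    rfl)
  obtain ⟨s, b, hb⟩ := FiniteDimensional.exists_is_basis_integral (R ⧸ P₀) P₀.ResidueField k'
  have hbR : ∀ i, IsIntegral R (b i) := fun i => isIntegral_trans (A := R ⧸ P₀) _ (hb i)
  let E : Fin s.card ≃ s := s.equivFin.symm
  obtain ⟨S, _, _, hfin, hfree, π, hπ⟩ := exists_finite_free_algHom R s.card k' (fun j => b (E j))
    (fun j => hbR _)
  refine ⟨S, inferInstance, inferInstance, hfin, hfree, π, ?_⟩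
  intro z
  obtain ⟨d, hd⟩ := IsLocalization.exist_integer_multiples_of_finite ((R ⧸ P₀)⁰)
    (fun i : s => b.repr z i)
  choose a ha using hd
  obtain ⟨d₀, hd₀⟩ := Ideal.Quotient.mk_surjective (d : R ⧸ P₀)
  have hdne : algebraMap (R ⧸ P₀) k' (d : R ⧸ P₀) ≠ 0 := by
    rw [IsScalarTower.algebraMap_apply (R ⧸ P₀) P₀.ResidueField k']
    have h1 : algebraMap (R ⧸ P₀) P₀.ResidueField (d : R ⧸ P₀) ≠ 0 :=
      IsLocalization.to_map_ne_zero_of_mem_nonZeroDivisors P₀.ResidueField le_rfl d.2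
    exact (map_ne_zero_iff _ (algebraMap P₀.ResidueField k').injective).mpr h1
  have hsum : algebraMap (R ⧸ P₀) k' (d : R ⧸ P₀) * z =
      ∑ i, algebraMap (R ⧸ P₀) k' (a i) * b i := by
    conv_lhs => rw [← b.sum_repr z, Finset.mul_sum]
    refine Finset.sum_congr rfl (fun i _ => ?_)
    have := ha i
    rw [Algebra.smul_def] at this
    rw [Algebra.smul_def, ← mul_assoc,
      IsScalarTower.algebraMap_apply (R ⧸ P₀) P₀.ResidueField k' (d : R ⧸ P₀),
      ← map_mul, ← this, ← IsScalarTower.algebraMap_apply]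
  have hmem : algebraMap (R ⧸ P₀) k' (d : R ⧸ P₀) * z ∈ π.range := by
    rw [hsum]
    refine Subalgebra.sum_mem _ (fun i _ => ?_)
    refine Subalgebra.mul_mem _ ?_ ?_
    · obtain ⟨a₀, ha₀⟩ := Ideal.Quotient.mk_surjective (a i)
      rw [← ha₀]
      have : algebraMap (R ⧸ P₀) k' (Ideal.Quotient.mk P₀ a₀) = algebraMap R k' a₀ := by
        rw [IsScalarTower.algebraMap_apply R (R ⧸ P₀) k']
        rfl
      rw [this]
      exact Subalgebra.algebraMap_mem _ _
    · have := hπ (E.symm i)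
      rwa [Equiv.apply_symm_apply] at this
  obtain ⟨s₁, hs₁⟩ := hmem
  refine ⟨s₁, algebraMap R S d₀, ?_, ?_⟩
  · rw [AlgHom.commutes, IsScalarTower.algebraMap_apply R (R ⧸ P₀) k']
    have : algebraMap R (R ⧸ P₀) d₀ = (d : R ⧸ P₀) := hd₀
    rw [this]
    exact hdne
  · rw [AlgHom.commutes, IsScalarTower.algebraMap_apply R (R ⧸ P₀) k']
    have : algebraMap R (R ⧸ P₀) d₀ = (d : R ⧸ P₀) := hd₀
    rw [this, mul_comm]
    exact hs₁.symm

theorem exists_residue_equiv {R S k' : Type u} [CommRing R] [CommRing S] [Algebra R S] [Field k']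
    [Algebra R k'] (π : S →ₐ[R] k')
    (hπ : ∀ z : k', ∃ s₁ s₂ : S, π s₂ ≠ 0 ∧ z * π s₂ = π s₁) :
    ∃ (Q₀ : Ideal S) (_ : Q₀.IsPrime), Q₀ = RingHom.ker π ∧
      Nonempty (Q₀.ResidueField ≃ₐ[R] k') := by
  haveI hprime : (RingHom.ker π).IsPrime := RingHom.ker_isPrime π
  refine ⟨RingHom.ker π, hprime, rfl, ?_⟩
  have hunits : (RingHom.ker π).primeCompl ≤ (IsUnit.submonoid k').comap π := by
    intro s hs
    show IsUnit (π s)
    rw [isUnit_iff_ne_zero]
    exact fun h => hs (RingHom.mem_ker.mpr h)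
  let φ : (RingHom.ker π).ResidueField →ₐ[R] k' :=
    Ideal.ResidueField.liftₐ (RingHom.ker π) π le_rfl hunits
  refine ⟨AlgEquiv.ofBijective φ ⟨φ.toRingHom.injective, ?_⟩⟩
  intro z
  obtain ⟨s₁, s₂, h2, h12⟩ := hπ z
  refine ⟨algebraMap S _ s₁ / algebraMap S _ s₂, ?_⟩
  rw [map_div₀]
  have h1 : φ (algebraMap S _ s₁) = π s₁ := Ideal.ResidueField.liftₐ_algebraMap _ _ _ hunits _
  have h2' : φ (algebraMap S _ s₂) = π s₂ := Ideal.ResidueField.liftₐ_algebraMap _ _ _ hunits _
  rw [h1, h2', ← h12]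
  field_simp

end Groth.Agent.Lib.Helper49.GRingFree
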