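import Mathlib
import Groth.Agent.Lib.Helper56.FiberLoc
import Groth.Agent.Lib.Helper56.FibreCM

set_option autoImplicit false
set_option linter.unusedSectionVars false
set_option linter.style.haveILetI false
universe u
open TensorProduct IsLocalRing

namespace Groth.Agent.Lib.Helper49.GRingFree

theorem isRegularLocalRing_fibLocRing_of_fiber (A B : Type u) [CommRing A] [CommRing B]
    [Algebra A B] (r : Ideal B) [r.IsPrime]
    (h : IsRegularRing ((r.comap (algebraMap A B)).Fiber B)) :
    IsRegularLocalRing (EGA4.FibLocRing A B r) := by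
  obtain ⟨Q, hQ, hQr⟩ := Groth.Agent.Lib.Helper56.exists_fiber_prime A B r
  have h1 : IsRegularLocalRing (Localization.AtPrime Q) := inferInstance
  have h2 : IsRegularLocalRing (EGA4.FibLocRing A B
      (Q.comap (Algebra.TensorProduct.includeRight :
        B →ₐ[A] (r.comap (algebraMap A B)).Fiber B))) :=
    IsRegularLocalRing.of_ringEquiv (R := Localization.AtPrime Q)
      (Groth.Agent.Lib.Helper56.fiberLocEquiv A B _ Q)
  have key : ∀ (r' : Ideal B) [r'.IsPrime], r' = r →
      IsRegularLocalRing (EGA4.FibLocRing A B r') →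
      IsRegularLocalRing (EGA4.FibLocRing A B r) := by
    intro r' _ hr' hh
    subst hr'
    exact hh
  exact key _ hQr h2

theorem isRegularRing_fiber_of_fibLocRing (A B : Type u) [CommRing A] [CommRing B]
    [Algebra A B] [IsNoetherianRing B] (p : Ideal A) [p.IsPrime]
    (h : ∀ (r : Ideal B) [r.IsPrime], r.comap (algebraMap A B) = p →
      IsRegularLocalRing (EGA4.FibLocRing A B r)) :
    IsRegularRing (p.Fiber B) := by
  haveI := Groth.Agent.Lib.Helper56.isNoetherianRing_fiber A B p
  rw [isRegularRing_iff]
  intro Q _
  have h1 := h _ (Groth.Agent.Lib.Helper56.comap_includeRight_comap A B p Q)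
  exact IsRegularLocalRing.of_ringEquiv (Groth.Agent.Lib.Helper56.fiberLocEquiv A B p Q).symm

theorem nonempty_fibLocRing_equiv (A B A' B' : Type u) [CommRing A] [CommRing B] [Algebra A B]
    [CommRing A'] [CommRing B'] [Algebra A' B'] [Algebra A A'] (M : Submonoid A)
    [IsLocalization M A'] (β : B →+* B')
    (hβ : ∀ a : A, β (algebraMap A B a) = algebraMap A' B' (algebraMap A A' a))
    (r : Ideal B) [r.IsPrime] (r' : Ideal B') [r'.IsPrime] (hr : r = r'.comap β)
    (ε : Localization.AtPrime r ≃+* Localization.AtPrime r')
    (hε : ∀ b : B, ε (algebraMap B (Localization.AtPrime r) b) =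
      algebraMap B' (Localization.AtPrime r') (β b)) :
    Nonempty (EGA4.FibLocRing A B r ≃+* EGA4.FibLocRing A' B' r') := by
  refine ⟨Ideal.quotientEquiv _ _ ε ?_⟩
  have hcomap : (r'.comap (algebraMap A' B')).comap (algebraMap A A') =
      r.comap (algebraMap A B) := by
    ext a
    rw [Ideal.mem_comap, Ideal.mem_comap, Ideal.mem_comap, hr, Ideal.mem_comap, hβ]
  have h1 : r'.comap (algebraMap A' B') =
      (r.comap (algebraMap A B)).map (algebraMap A A') := by
    rw [← hcomap]
    exact (IsLocalization.map_comap M A' _).symm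
  have hcomp : (ε : Localization.AtPrime r →+* Localization.AtPrime r').comp
      (algebraMap A (Localization.AtPrime r)) =
      (algebraMap A' (Localization.AtPrime r')).comp (algebraMap A A') := by
    ext a
    simp only [RingHom.coe_comp, Function.comp_apply, RingHom.coe_coe]
    rw [IsScalarTower.algebraMap_apply A B (Localization.AtPrime r), hε, hβ,
      ← IsScalarTower.algebraMap_apply A' B' (Localization.AtPrime r')]
  rw [h1, Ideal.map_map]
  show _ = Ideal.map (ε : Localization.AtPrime r →+* Localization.AtPrime r') _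
  rw [Ideal.map_map, hcomp]

end Groth.Agent.Lib.Helper49.GRingFree
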