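import Mathlib
import Groth.Agent.Lib.Helper49.FormalFibre1
import Groth.Agent.Lib.Helper49.GRingFree2
import Groth.Agent.Lib.Helper87.HensNoeth
import Groth.Agent.S0543

set_option autoImplicit false
set_option linter.unusedSectionVars false
set_option linter.style.haveILetI false
universe u
open TensorProduct IsLocalRing

namespace Groth.Agent.Lib.Helper49.GRingFree

open Groth.Agent.Lib.Helper67.QFFormal

theorem nonempty_equiv_loc_compat {T TK : Type u} [CommRing T] [CommRing TK] [Algebra T TK]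
    (M : Submonoid T) [IsLocalization M TK] (Q : Ideal TK) [Q.IsPrime] :
    ∃ ε : Localization.AtPrime (Q.comap (algebraMap T TK)) ≃+* Localization.AtPrime Q,
      ∀ t : T, ε (algebraMap T _ t) = algebraMap TK (Localization.AtPrime Q) (algebraMap T TK t) := by
  have := IsLocalization.isLocalization_isLocalization_atPrime_isLocalization
    M (Localization.AtPrime Q) Q
  refine ⟨(IsLocalization.algEquiv (Q.comap (algebraMap T TK)).primeCompl _ _).toRingEquiv, ?_⟩
  intro t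
  show (IsLocalization.algEquiv (Q.comap (algebraMap T TK)).primeCompl
    (Localization.AtPrime (Q.comap (algebraMap T TK))) (Localization.AtPrime Q))
      (algebraMap T _ t) = _
  rw [AlgEquiv.commutes, IsScalarTower.algebraMap_apply T TK (Localization.AtPrime Q)]

theorem core (R : Type u) [CommRing R] [IsNoetherianRing R] (𝔭 : Ideal R) [𝔭.IsPrime]
    (S : Type u) [CommRing S] [Algebra R S] [Module.Finite R S]
    (HS : ∀ (𝔮 : Ideal S) [𝔮.IsPrime] (p : Ideal (Localization.AtPrime 𝔮)) [p.IsPrime],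
      IsRegularRing (EGA4.formalFibre (Localization.AtPrime 𝔮) p))
    (Q' : Ideal (S ⊗[R] AdicCompletion (maximalIdeal (Localization.AtPrime 𝔭))
      (Localization.AtPrime 𝔭))) [Q'.IsPrime] :
    IsRegularLocalRing (EGA4.FibLocRing S (S ⊗[R] AdicCompletion (maximalIdeal
      (Localization.AtPrime 𝔭)) (Localization.AtPrime 𝔭)) Q') := by
  classical
  let A := Localization.AtPrime 𝔭
  haveI hAN : IsNoetherianRing A := IsLocalization.isNoetherianRing 𝔭.primeCompl _ inferInstance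
  let Ah := AdicCompletion (maximalIdeal A) A
  haveI hAhN : IsNoetherianRing Ah := Groth.Agent.S0543.result A _
  haveI : HenselianLocalRing Ah := Groth.Agent.Lib.Helper87.Hens.henselianLocalRing_adicCompletion A
  let ρ₀ : Ah →ₐ[R] 𝔭.ResidueField :=
    { (AdicCompletion.evalOneₐ (IsLocalRing.maximalIdeal A)).toRingHom with
      commutes' := fun r => by
        show AdicCompletion.evalOneₐ (IsLocalRing.maximalIdeal A)
          (algebraMap A Ah (algebraMap R A r)) = _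
        rw [AlgHom.commutes]
        rfl }
  have hker₀ : RingHom.ker ρ₀.toRingHom = IsLocalRing.maximalIdeal Ah := by
    rw [AdicCompletion.maximalIdeal_eq_map,
      ← AdicCompletion.ker_evalOneₐ_eq_map _ (IsLocalRing.maximalIdeal A).fg_of_isNoetherianRing]
    rfl
  have hm₀ : IsLocalRing.maximalIdeal Ah = 𝔭.map (algebraMap R Ah) := by
    rw [AdicCompletion.maximalIdeal_eq_map]
    have h1 : IsLocalRing.maximalIdeal A = 𝔭.map (algebraMap R A) :=
      (Localization.AtPrime.map_eq_maximalIdeal (I := 𝔭)).symm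
    rw [congrArg (Ideal.map (algebraMap A Ah)) h1, Ideal.map_map]
    rfl
  haveI : IsScalarTower R A Ah := IsScalarTower.of_algebraMap_eq (fun _ => rfl)
  haveI : Module.Flat A Ah := AdicCompletion.flat_of_isNoetherian _
  haveI : Module.Flat R Ah := Module.Flat.trans R A Ah
  haveI hSN : IsNoetherianRing S := IsNoetherianRing.of_finite R S
  let T := Ah ⊗[R] S
  let c : T ≃+* S ⊗[R] Ah := (Algebra.TensorProduct.comm R Ah S).toRingEquiv
  let Q : Ideal T := Q'.comap c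
  haveI hQp : Q.IsPrime := Ideal.comap_isPrime _ _
  obtain ⟨𝔐, h𝔐max, hQ𝔐⟩ := Ideal.exists_le_maximal Q (Ideal.IsPrime.ne_top hQp)
  haveI := h𝔐max
  haveI h𝔐p : 𝔐.IsPrime := h𝔐max.isPrime
  let 𝔮 : Ideal S := 𝔐.comap (Algebra.TensorProduct.includeRight : S →ₐ[R] T).toRingHom
  haveI h𝔮p : 𝔮.IsPrime := Ideal.comap_isPrime _ _
  haveI : Algebra.IsIntegral Ah T := inferInstance
  have h𝔐Ah : 𝔐.comap (algebraMap Ah T) = maximalIdeal Ah :=
    IsLocalRing.eq_maximalIdeal (Ideal.isMaximal_comap_of_isIntegral_of_isMaximal (R := Ah) 𝔐)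
  have hmemAh : ∀ a : R, algebraMap R Ah a ∈ maximalIdeal Ah ↔ a ∈ 𝔭 := by
    intro a
    rw [← hker₀, RingHom.mem_ker]
    show ρ₀ (algebraMap R Ah a) = 0 ↔ _
    rw [AlgHom.commutes, Ideal.algebraMap_residueField_eq_zero]
  have h𝔮𝔭 : 𝔮.comap (algebraMap R S) = 𝔭 := by
    ext a
    rw [← hmemAh a, ← h𝔐Ah, Ideal.mem_comap, Ideal.mem_comap, Ideal.mem_comap]
    have : (Algebra.TensorProduct.includeRight : S →ₐ[R] T).toRingHom (algebraMap R S a) =
        algebraMap Ah T (algebraMap R Ah a) := by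
      show (Algebra.TensorProduct.includeRight : S →ₐ[R] T) (algebraMap R S a) = _
      rw [AlgHom.commutes, ← IsScalarTower.algebraMap_apply]
    rw [this]
  let ι : 𝔭.ResidueField →ₐ[R] (𝔮.comap (algebraMap R S)).ResidueField :=
    Ideal.ResidueField.mapₐ 𝔭 (𝔮.comap (algebraMap R S)) (AlgHom.id R R) (by
      rw [h𝔮𝔭]; rfl)
  let ρ : Ah →ₐ[R] (𝔮.comap (algebraMap R S)).ResidueField := ι.comp ρ₀
  have hker : RingHom.ker ρ.toRingHom = maximalIdeal Ah := by
    rw [← hker₀]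
    ext x
    rw [RingHom.mem_ker, RingHom.mem_ker]
    show ι (ρ₀ x) = 0 ↔ ρ₀ x = 0
    exact map_eq_zero_iff _ ι.toRingHom.injective
  have hm : maximalIdeal Ah = (𝔮.comap (algebraMap R S)).map (algebraMap R Ah) := by
    rw [h𝔮𝔭]; exact hm₀
  have hqeq := q_eq_map (R := R) (R' := S) (p' := 𝔮) (Ah := Ah) (ρ := ρ) hker hm
  have hqle : q R S 𝔮 Ah ρ ≤ 𝔐 := by
    rw [hqeq]; exact Ideal.map_comap_le
  have hqmax : (q R S 𝔮 Ah ρ).IsMaximal :=
    Ideal.isMaximal_of_isIntegral_of_isMaximal_comap (R := Ah) _ (by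
      rw [comap_algebraMap_q hker]; exact maximalIdeal.isMaximal Ah)
  have hq𝔐 : q R S 𝔮 Ah ρ = 𝔐 := hqmax.eq_of_le h𝔐max.ne_top hqle
  have hQq : Q ≤ q R S 𝔮 Ah ρ := hq𝔐 ▸ hQ𝔐
  obtain ⟨e, he⟩ := Groth.Agent.Lib.Helper49.FormalFibre.exists_equiv (R := R) (R' := S) (p' := 𝔮)
    (Ah := Ah) (ρ := ρ) hker hm
  have hdisj : Disjoint ((q R S 𝔮 Ah ρ).primeCompl : Set T) (Q : Set T) := by
    rw [Set.disjoint_left]
    intro x hx hxQ
    exact hx (hQq hxQ)
  let QD : Ideal (D R S 𝔮 Ah ρ) := Q.map (algebraMap T (D R S 𝔮 Ah ρ))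
  haveI hQD : QD.IsPrime :=
    IsLocalization.isPrime_of_isPrime_disjoint (q R S 𝔮 Ah ρ).primeCompl _ Q hQp hdisj
  have hQDc : QD.comap (algebraMap T (D R S 𝔮 Ah ρ)) = Q :=
    IsLocalization.under_map_of_isPrime_disjoint (q R S 𝔮 Ah ρ).primeCompl _ hQp hdisj
  let r' : Ideal (EGA4.Cpl (Localization.AtPrime 𝔮)) := QD.comap (e.symm : _ →+* _)
  haveI hr' : r'.IsPrime := Ideal.comap_isPrime _ _
  let ε₁ : Localization.AtPrime Q ≃+* Localization.AtPrime Q' :=
    Localization.localRingEquiv Q Q' c rfl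
  have hε₁ : ∀ t : T, ε₁ (algebraMap T _ t) = algebraMap _ (Localization.AtPrime Q') (c t) :=
    fun t => Localization.localRingHom_to_map Q Q' (c : T →+* S ⊗[R] Ah) rfl t
  have key : ∀ (Q₁ : Ideal T) [Q₁.IsPrime], Q₁ = Q →
      (∃ ε : Localization.AtPrime Q₁ ≃+* Localization.AtPrime QD, ∀ t : T,
        ε (algebraMap T _ t) = algebraMap (D R S 𝔮 Ah ρ) (Localization.AtPrime QD)
          (algebraMap T (D R S 𝔮 Ah ρ) t)) →
      (∃ ε : Localization.AtPrime Q ≃+* Localization.AtPrime QD, ∀ t : T,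
        ε (algebraMap T _ t) = algebraMap (D R S 𝔮 Ah ρ) (Localization.AtPrime QD)
          (algebraMap T (D R S 𝔮 Ah ρ) t)) := by
    intro Q₁ _ h hh
    subst h
    exact hh
  obtain ⟨ε₂, hε₂⟩ := key _ hQDc (nonempty_equiv_loc_compat (T := T) (TK := D R S 𝔮 Ah ρ)
    (q R S 𝔮 Ah ρ).primeCompl QD)
  have h3 : QD = r'.comap (e : D R S 𝔮 Ah ρ →+* EGA4.Cpl (Localization.AtPrime 𝔮)) := by
    show QD = (QD.comap (e.symm : EGA4.Cpl (Localization.AtPrime 𝔮) →+* D R S 𝔮 Ah ρ)).comap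
      (e : D R S 𝔮 Ah ρ →+* EGA4.Cpl (Localization.AtPrime 𝔮))
    rw [Ideal.comap_comap]
    have : (e.symm : EGA4.Cpl (Localization.AtPrime 𝔮) →+* D R S 𝔮 Ah ρ).comp
        (e : D R S 𝔮 Ah ρ →+* EGA4.Cpl (Localization.AtPrime 𝔮)) = RingHom.id _ :=
      RingHom.ext (fun x => e.symm_apply_apply x)
    rw [this, Ideal.comap_id]
  let ε₃ : Localization.AtPrime QD ≃+* Localization.AtPrime r' :=
    Localization.localRingEquiv QD r' e h3
  have hε₃ : ∀ d : D R S 𝔮 Ah ρ, ε₃ (algebraMap _ _ d) =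
      algebraMap _ (Localization.AtPrime r') (e d) :=
    fun d => Localization.localRingHom_to_map QD r'
      (e : D R S 𝔮 Ah ρ →+* EGA4.Cpl (Localization.AtPrime 𝔮)) h3 d
  let β : S ⊗[R] Ah →+* EGA4.Cpl (Localization.AtPrime 𝔮) :=
    (e : D R S 𝔮 Ah ρ →+* EGA4.Cpl (Localization.AtPrime 𝔮)).comp
      ((algebraMap T (D R S 𝔮 Ah ρ)).comp (c.symm : S ⊗[R] Ah →+* T))
  have hβ : ∀ s : S, β (algebraMap S (S ⊗[R] Ah) s) =
      algebraMap (Localization.AtPrime 𝔮) (EGA4.Cpl (Localization.AtPrime 𝔮))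
        (algebraMap S (Localization.AtPrime 𝔮) s) := by
    intro s
    show e (algebraMap T (D R S 𝔮 Ah ρ) (c.symm (algebraMap S (S ⊗[R] Ah) s))) = _
    have h1 : c.symm (algebraMap S (S ⊗[R] Ah) s) = (1 : Ah) ⊗ₜ[R] s := by
      rw [RingEquiv.symm_apply_eq]
      show _ = Algebra.TensorProduct.comm R Ah S ((1 : Ah) ⊗ₜ[R] s)
      rw [Algebra.TensorProduct.comm_tmul]
      rfl
    rw [h1, ← toD_algebraMap, he]
  have hr : Q' = r'.comap β := by
    show Q' = ((r'.comap (e : D R S 𝔮 Ah ρ →+* EGA4.Cpl (Localization.AtPrime 𝔮))).comap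
      (algebraMap T (D R S 𝔮 Ah ρ))).comap (c.symm : S ⊗[R] Ah →+* T)
    rw [← h3, hQDc]
    show Q' = (Q'.comap (c : T →+* S ⊗[R] Ah)).comap (c.symm : S ⊗[R] Ah →+* T)
    rw [Ideal.comap_comap]
    have : (c : T →+* S ⊗[R] Ah).comp (c.symm : S ⊗[R] Ah →+* T) = RingHom.id _ :=
      RingHom.ext (fun x => c.apply_symm_apply x)
    rw [this, Ideal.comap_id]
  let ε : Localization.AtPrime Q' ≃+* Localization.AtPrime r' := ε₁.symm.trans (ε₂.trans ε₃)
  have hε : ∀ b : S ⊗[R] Ah, ε (algebraMap _ (Localization.AtPrime Q') b) =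
      algebraMap _ (Localization.AtPrime r') (β b) := by
    intro b
    have h1 : ε₁.symm (algebraMap _ (Localization.AtPrime Q') b) =
        algebraMap T (Localization.AtPrime Q) (c.symm b) := by
      rw [RingEquiv.symm_apply_eq, hε₁, RingEquiv.apply_symm_apply]
    show ε₃ (ε₂ (ε₁.symm (algebraMap _ (Localization.AtPrime Q') b))) = _
    rw [h1, hε₂, hε₃]
    rfl
  obtain ⟨E⟩ := nonempty_fibLocRing_equiv S (S ⊗[R] Ah) (Localization.AtPrime 𝔮)
    (EGA4.Cpl (Localization.AtPrime 𝔮)) 𝔮.primeCompl β hβ Q' r' hr ε hε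
  have hreg : IsRegularLocalRing (EGA4.FibLocRing (Localization.AtPrime 𝔮)
      (EGA4.Cpl (Localization.AtPrime 𝔮)) r') :=
    isRegularLocalRing_fibLocRing_of_fiber _ _ r' (HS 𝔮 _)
  exact IsRegularLocalRing.of_ringEquiv E.symm

end Groth.Agent.Lib.Helper49.GRingFree
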