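import Mathlib
import Groth.Agent.Lib.Helper49.GeomRegFS3

set_option autoImplicit false
set_option linter.style.haveILetI false
set_option linter.unusedSectionVars false
universe u

namespace Groth.Agent.Lib.Helper49.GeomRegFS

open TensorProduct IsLocalRing KaehlerDifferential

section Rel

variable {A : Type u} [CommRing A] [IsLocalRing A]

theorem relation_of_tensor {J : Type*} (F : Finset J) (y : J → A) (c : J → A)
    (hw : ∑ j ∈ F, residue A (c j) • ((1 : ResidueField A) ⊗ₜ[A] D ℤ A (y j)) = 0)
    {R' : Type u} [CommRing R'] (ι : A →+* R') (V : Type u) [AddCommGroup V] [Module R' V]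
    (hV : ∀ m ∈ maximalIdeal A, ∀ v : V, ι m • v = 0) (D' : Derivation ℤ R' V) :
    ∑ j ∈ F, ι (c j) • D' (ι (y j)) = 0 := by
  letI modA : Module A V := Module.compHom V ι
  have hsmulA : ∀ (a : A) (v : V), a • v = ι a • v := fun a v => rfl
  have htors : Module.IsTorsionBySet A V (maximalIdeal A : Set A) := by
    intro v a
    rw [hsmulA]
    exact hV a a.2 v
  letI modK : Module (ResidueField A) V :=
    (htors.module : Module (A ⧸ maximalIdeal A) V)
  have hresK : ∀ (a : A) (v : V), (residue A a • v : V) = a • v := fun a v => rfl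
  haveI : IsScalarTower A (ResidueField A) V := by
    refine ⟨fun a c v => ?_⟩
    obtain ⟨b, rfl⟩ := residue_surjective c
    have e1 : a • residue A b = residue A (a * b) := by
      rw [Algebra.smul_def, map_mul]
      rfl
    rw [e1, hresK, hresK, mul_smul]
  let lin : A →ₗ[ℤ] V :=
    ({ toFun := fun a => D' (ι a)
       map_zero' := by rw [map_zero, map_zero]
       map_add' := fun a b => by rw [map_add, map_add] } : A →+ V).toIntLinearMap
  let Dd : Derivation ℤ A V := Derivation.mk' lin (fun a b => by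
    change D' (ι (a * b)) = a • D' (ι b) + b • D' (ι a)
    rw [map_mul, Derivation.leibniz, hsmulA, hsmulA])
  have hD : ∀ a, Dd a = D' (ι a) := fun a => rfl
  let ℓ : ResidueField A ⊗[A] Ω[A⁄ℤ] →ₗ[ResidueField A] V :=
    Dd.liftKaehlerDifferential.liftBaseChange (ResidueField A)
  have h := congrArg ℓ hw
  rw [map_zero, map_sum] at h
  rw [← h]
  refine Finset.sum_congr rfl fun j _ => ?_
  rw [map_smul, LinearMap.liftBaseChange_tmul, one_smul,
    Derivation.liftKaehlerDifferential_comp_D, hresK, hsmulA, hD]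

theorem linearIndependent_one_tmul_D (p : ℕ) [Fact p.Prime] [CharP A p] {N : ℕ} (x : Fin N → A)
    (hx : ∀ i, x i ∈ maximalIdeal A)
    (hli : LinearIndependent (ResidueField A)
      (fun i => (maximalIdeal A).toCotangent ⟨x i, hx i⟩)) :
    LinearIndependent (ResidueField A) (fun i => (1 : ResidueField A) ⊗ₜ[A] D ℤ A (x i)) := by
  have hpA : ((p : ℕ) : A) = 0 := CharP.cast_eq_zero A p
  haveI : CharP (ResidueField A) p := by
    obtain ⟨q, hq⟩ := CharP.exists (ResidueField A)
    have hpK : ((p : ℕ) : ResidueField A) = 0 := by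
      have := congrArg (residue A) hpA
      rwa [map_natCast, map_zero] at this
    have hdvd : q ∣ p := (CharP.cast_eq_zero_iff (ResidueField A) q p).mp hpK
    rcases (Nat.dvd_prime (Fact.out : p.Prime)).mp hdvd with h1 | h1
    · exact absurd h1 (CharP.char_ne_one (ResidueField A) q)
    · exact h1 ▸ hq
  rw [Fintype.linearIndependent_iff]
  intro g hg
  let ĝ : Fin N → A := fun i => Function.surjInv residue_surjective (g i)
  have hĝ : ∀ i, residue A (ĝ i) = g i := fun i => Function.surjInv_eq _ _
  have hmem : ∑ i, ĝ i * x i ∈ maximalIdeal A :=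
    Ideal.sum_mem _ fun i _ => Ideal.mul_mem_left _ _ (hx i)
  have hDK : DKills (∑ i, ĝ i * x i) := by
    intro V _ _ hV Dd
    have hrel := relation_of_tensor (A := A) Finset.univ x ĝ
      (by simpa only [hĝ] using hg) (RingHom.id A) V (fun m hm v => hV m hm v) Dd
    simp only [RingHom.id_apply] at hrel
    rw [map_sum, ← hrel]
    refine Finset.sum_congr rfl fun i _ => ?_
    rw [Derivation.leibniz, hV (x i) (hx i), add_zero]
  have hsq := mem_sq_of_dKills p hpA _ hmem hDK
  have h0 : (maximalIdeal A).toCotangent ⟨∑ i, ĝ i * x i, hmem⟩ = 0 :=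
    (Ideal.toCotangent_eq_zero _ _).mpr hsq
  have h1 : (⟨∑ i, ĝ i * x i, hmem⟩ : maximalIdeal A) = ∑ i, ĝ i • (⟨x i, hx i⟩ : maximalIdeal A) := by
    apply Subtype.ext
    rw [AddSubmonoidClass.coe_finset_sum]
    rfl
  rw [h1, map_sum] at h0
  have h2 : ∑ i, g i • (maximalIdeal A).toCotangent ⟨x i, hx i⟩ = 0 := by
    rw [← h0]
    refine Finset.sum_congr rfl fun i _ => ?_
    rw [map_smul, ← hĝ i]
    rfl
  exact Fintype.linearIndependent_iff.mp hli g h2

end Rel

end Groth.Agent.Lib.Helper49.GeomRegFS
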