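import Mathlib
import Groth.Agent.Lib.Helper49.FSJacobi2
import Groth.Agent.Lib.Helper49.FSRegular2
import Groth.Agent.Lib.Helper49.CoeffField
import Groth.Agent.Lib.Helper61.MvPSComplete
import Groth.Prelude.Def_EGA41
set_option autoImplicit false
set_option linter.style.haveILetI false
set_option linter.unusedSectionVars false
universe u
namespace Groth.Agent.Lib.Helper49.Imperf
open IsLocalRing TensorProduct KaehlerDifferential

section construct

variable {k K : Type u} [Field k] [Field K] [Algebra k K] {n : ℕ}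
  (Λ : K ⊗[k] Ω[k⁄ℤ] →ₗ[K] (Fin n → K))

theorem one_tmul_smul' (x : k) (ω : Ω[k⁄ℤ]) :
    (1 : K) ⊗ₜ[k] (x • ω) = algebraMap k K x • ((1 : K) ⊗ₜ[k] ω) := by
  rw [← TensorProduct.smul_tmul, TensorProduct.smul_tmul', Algebra.smul_def, mul_one, smul_eq_mul,
    mul_one]

noncomputable def Dc (i : Fin n) (x : k) : K := Λ ((1 : K) ⊗ₜ[k] D ℤ k x) i

theorem Dc_add (i : Fin n) (x y : k) : Dc Λ i (x + y) = Dc Λ i x + Dc Λ i y := by
  unfold Dc
  rw [map_add, TensorProduct.tmul_add, map_add, Pi.add_apply]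

theorem Dc_mul (i : Fin n) (x y : k) :
    Dc Λ i (x * y) = algebraMap k K x * Dc Λ i y + algebraMap k K y * Dc Λ i x := by
  unfold Dc
  rw [Derivation.leibniz, TensorProduct.tmul_add, one_tmul_smul', one_tmul_smul', map_add,
    map_smul, map_smul, Pi.add_apply, Pi.smul_apply, Pi.smul_apply, smul_eq_mul, smul_eq_mul]

theorem Dc_one (i : Fin n) : Dc Λ i 1 = 0 := by
  unfold Dc
  rw [Derivation.map_one_eq_zero, TensorProduct.tmul_zero, map_zero, Pi.zero_apply]

theorem Dc_zero (i : Fin n) : Dc Λ i 0 = 0 := by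
  unfold Dc
  rw [map_zero, TensorProduct.tmul_zero, map_zero, Pi.zero_apply]

noncomputable def S (x : k) : MvPowerSeries (Fin n) K :=
  ∑ i, MvPowerSeries.C (Dc Λ i x) * MvPowerSeries.X i

theorem S_add (x y : k) : S Λ (x + y) = S Λ x + S Λ y := by
  unfold S
  rw [← Finset.sum_add_distrib]
  refine Finset.sum_congr rfl fun i _ => ?_
  rw [Dc_add, map_add, add_mul]

theorem S_mul (x y : k) : S Λ (x * y) = MvPowerSeries.C (algebraMap k K x) * S Λ y +
    MvPowerSeries.C (algebraMap k K y) * S Λ x := by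
  unfold S
  rw [Finset.mul_sum, Finset.mul_sum, ← Finset.sum_add_distrib]
  refine Finset.sum_congr rfl fun i _ => ?_
  rw [Dc_mul, map_add, map_mul, map_mul]
  ring

theorem S_one : S Λ 1 = 0 := by
  unfold S
  refine Finset.sum_eq_zero fun i _ => ?_
  rw [Dc_one, map_zero, zero_mul]

theorem S_zero : S Λ 0 = 0 := by
  unfold S
  refine Finset.sum_eq_zero fun i _ => ?_
  rw [Dc_zero, map_zero, zero_mul]

theorem X_mem (i : Fin n) :
    (MvPowerSeries.X i : MvPowerSeries (Fin n) K) ∈ maximalIdeal (MvPowerSeries (Fin n) K) := by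
  rw [IsLocalRing.mem_maximalIdeal, mem_nonunits_iff, MvPowerSeries.isUnit_iff_constantCoeff,
    MvPowerSeries.constantCoeff_X]
  exact not_isUnit_zero

theorem S_mem (x : k) : S Λ x ∈ maximalIdeal (MvPowerSeries (Fin n) K) := by
  unfold S
  exact Ideal.sum_mem _ fun i _ => Ideal.mul_mem_left _ _ (X_mem i)

noncomputable def θ₁ (x : k) : MvPowerSeries (Fin n) K :=
  MvPowerSeries.C (algebraMap k K x) + S Λ x

noncomputable def θ₂ : k →+* MvPowerSeries (Fin n) K ⧸ maximalIdeal (MvPowerSeries (Fin n) K) ^ 2 where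
  toFun x := Ideal.Quotient.mk _ (θ₁ Λ x)
  map_one' := by
    unfold θ₁
    rw [S_one, add_zero, map_one, map_one, map_one]
  map_mul' x y := by
    rw [← map_mul, Ideal.Quotient.eq]
    have h1 : θ₁ Λ (x * y) - θ₁ Λ x * θ₁ Λ y = -(S Λ x * S Λ y) := by
      unfold θ₁
      rw [S_mul, map_mul, map_mul]
      ring
    rw [h1, pow_two]
    exact Ideal.neg_mem_iff _ |>.mpr (Ideal.mul_mem_mul (S_mem Λ x) (S_mem Λ y))
  map_zero' := by
    unfold θ₁
    rw [S_zero, add_zero, map_zero, map_zero, map_zero]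
  map_add' x y := by
    rw [← map_add]
    congr 1
    unfold θ₁
    rw [S_add, map_add, map_add]
    ring

theorem exists_theta : ∃ θ : k →+* MvPowerSeries (Fin n) K,
    ∀ x, θ x - θ₁ Λ x ∈ maximalIdeal (MvPowerSeries (Fin n) K) ^ 2 := by
  obtain ⟨p, hp⟩ := CharP.exists k
  have hpA : ((p : ℕ) : MvPowerSeries (Fin n) K) = 0 := by
    have h1 : ((p : ℕ) : k) = 0 := CharP.cast_eq_zero k p
    have h2 : ((p : ℕ) : MvPowerSeries (Fin n) K) =
        MvPowerSeries.C (algebraMap k K ((p : ℕ) : k)) := by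
      rw [map_natCast, map_natCast]
    rw [h2, h1, map_zero, map_zero]
  haveI : IsAdicComplete (maximalIdeal (MvPowerSeries (Fin n) K)) (MvPowerSeries (Fin n) K) :=
    Groth.Agent.Lib.Helper49.FSRegular.isAdicComplete_mvPowerSeries K n
  haveI : IsAdicComplete (maximalIdeal (MvPowerSeries (Fin n) K) ^ 2) (MvPowerSeries (Fin n) K) :=
    Groth.Agent.Lib.Helper49.CoeffField.isAdicComplete_pow _ (by norm_num)
  obtain ⟨θ, hθ⟩ := Groth.Agent.Lib.Helper49.CoeffField.exists_lift p hpA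
    (maximalIdeal (MvPowerSeries (Fin n) K) ^ 2) (θ₂ Λ)
  refine ⟨θ, fun x => ?_⟩
  rw [← Ideal.Quotient.eq]
  exact DFunLike.congr_fun hθ x

theorem constantCoeff_of_mem_sq {f : MvPowerSeries (Fin n) K}
    (hf : f ∈ maximalIdeal (MvPowerSeries (Fin n) K) ^ 2) :
    MvPowerSeries.constantCoeff f = 0 := by
  have h1 : f ∈ maximalIdeal (MvPowerSeries (Fin n) K) :=
    Ideal.pow_le_self (by norm_num) hf
  rw [IsLocalRing.mem_maximalIdeal, mem_nonunits_iff, MvPowerSeries.isUnit_iff_constantCoeff,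
    isUnit_iff_ne_zero, not_not] at h1
  exact h1

theorem coeff_single_of_mem_sq {f : MvPowerSeries (Fin n) K}
    (hf : f ∈ maximalIdeal (MvPowerSeries (Fin n) K) ^ 2) (i : Fin n) :
    MvPowerSeries.coeff (Finsupp.single i 1) f = 0 := by
  rw [Groth.Agent.Lib.Helper49.FSRegular.maximalIdeal_mvPowerSeries_eq,
    Groth.Agent.Lib.Helper61.MvPSComplete.mem_pow_iff] at hf
  apply MvPowerSeries.coeff_of_lt_order
  refine lt_of_lt_of_le ?_ hf
  rw [Finsupp.degree_single]
  norm_num

theorem constantCoeff_S (x : k) : MvPowerSeries.constantCoeff (S Λ x) = 0 := by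
  have h1 := S_mem Λ x
  rw [IsLocalRing.mem_maximalIdeal, mem_nonunits_iff, MvPowerSeries.isUnit_iff_constantCoeff,
    isUnit_iff_ne_zero, not_not] at h1
  exact h1

theorem coeff_single_S (x : k) (i : Fin n) :
    MvPowerSeries.coeff (Finsupp.single i 1) (S Λ x) = Dc Λ i x := by
  classical
  unfold S
  rw [map_sum, Finset.sum_eq_single i]
  · rw [MvPowerSeries.coeff_C_mul, MvPowerSeries.coeff_X, if_pos rfl, mul_one]
  · intro j _ hji
    rw [MvPowerSeries.coeff_C_mul, MvPowerSeries.coeff_X, if_neg, mul_zero]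
    intro h
    exact hji ((Finsupp.single_left_inj one_ne_zero).mp h).symm
  · intro h
    exact absurd (Finset.mem_univ i) h

theorem constantCoeff_theta (θ : k →+* MvPowerSeries (Fin n) K)
    (hθ : ∀ x, θ x - θ₁ Λ x ∈ maximalIdeal (MvPowerSeries (Fin n) K) ^ 2) (x : k) :
    MvPowerSeries.constantCoeff (θ x) = algebraMap k K x := by
  have h1 := constantCoeff_of_mem_sq (hθ x)
  rw [map_sub, sub_eq_zero] at h1
  rw [h1]
  unfold θ₁
  rw [map_add, constantCoeff_S, add_zero, MvPowerSeries.constantCoeff_C]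

theorem coeff_single_theta (θ : k →+* MvPowerSeries (Fin n) K)
    (hθ : ∀ x, θ x - θ₁ Λ x ∈ maximalIdeal (MvPowerSeries (Fin n) K) ^ 2) (x : k) (i : Fin n) :
    MvPowerSeries.coeff (Finsupp.single i 1) (θ x) = Dc Λ i x := by
  classical
  have h1 := coeff_single_of_mem_sq (hθ x) i
  rw [map_sub, sub_eq_zero] at h1
  rw [h1]
  unfold θ₁
  rw [map_add, coeff_single_S, MvPowerSeries.coeff_C, if_neg, zero_add]
  intro h
  have := DFunLike.congr_fun h i
  simp at this

end construct

end Groth.Agent.Lib.Helper49.Imperf
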