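import Mathlib
import Groth.Agent.Lib.Helper49.Imperf1
set_option autoImplicit false
set_option linter.style.haveILetI false
set_option linter.unusedSectionVars false
universe u
namespace Groth.Agent.Lib.Helper49.Imperf
open IsLocalRing TensorProduct KaehlerDifferential

theorem injective_of_coords {k K A : Type u} [Field k] [Field K] [Algebra k K] [CommRing A]
    [IsLocalRing A] [Algebra k A] {n : ℕ}
    (Λ : K ⊗[k] Ω[k⁄ℤ] →ₗ[K] (Fin n → K))
    (hΛ : ∀ v ∈ EGA41.imperfection ℤ k K, Λ v = 0 → v = 0)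
    (cc : A →+* K) (hcc : Function.Surjective cc) (hker : RingHom.ker cc = maximalIdeal A)
    (hcck : ∀ x, cc (algebraMap k A x) = algebraMap k K x)
    (c : Fin n → A →+ K) (hc : ∀ i a b, c i (a * b) = cc a * c i b + cc b * c i a)
    (hck : ∀ i x, c i (algebraMap k A x) = Dc Λ i x) :
    Function.Injective ((mapBaseChange ℤ k A).lTensor (ResidueField A)) := by
  classical
  apply Groth.Agent.Lib.Helper49.KaehlerResidue.injective_of_forall_exists_derivation
  intro δ
  let e : ResidueField A ≃+* K :=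
    (Ideal.quotEquivOfEq hker.symm).trans (RingHom.quotientKerEquivOfSurjective hcc)
  have he : ∀ a, e (residue A a) = cc a := by
    intro a
    show (RingHom.quotientKerEquivOfSurjective hcc) ((Ideal.quotEquivOfEq hker.symm)
      (Ideal.Quotient.mk _ a)) = _
    rw [Ideal.quotEquivOfEq_mk]
    exact RingHom.quotientKerEquivOfSurjective_apply_mk _ a
  have hek : ∀ (x : k) (y : ResidueField A), e (x • y) = algebraMap k K x * e y := by
    intro x y
    obtain ⟨a, rfl⟩ := residue_surjective y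
    have h1 : x • residue A a = residue A (algebraMap k A x * a) := by
      rw [Algebra.smul_def, map_mul]
      rfl
    rw [h1, he, he, map_mul, hcck]
  have heA : ∀ (a : A) (y : ResidueField A), e (a • y) = cc a * e y := by
    intro a y
    have h1 : a • y = residue A a * y := by
      rw [Algebra.smul_def]
      rfl
    rw [h1, map_mul, he]
  let δ' : Derivation ℤ k K := Derivation.mk'
    ({ toFun := fun x => e (δ x)
       map_zero' := by rw [map_zero, map_zero]
       map_add' := fun x y => by rw [map_add, map_add] } : k →+ K).toIntLinearMap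
    (fun x y => by
      show e (δ (x * y)) = x • e (δ y) + y • e (δ x)
      rw [Derivation.leibniz, map_add, hek, hek, Algebra.smul_def, Algebra.smul_def])
  have hδ' : ∀ x, δ' x = e (δ x) := fun x => rfl
  let ℓ : Ω[k⁄ℤ] →ₗ[k] K := δ'.liftKaehlerDifferential
  have hℓ : ∀ x, ℓ (D ℤ k x) = δ' x := fun x => Derivation.liftKaehlerDifferential_comp_D δ' x
  let ℓK : K ⊗[k] Ω[k⁄ℤ] →ₗ[K] K := ℓ.liftBaseChange K
  let P : K ⊗[k] Ω[k⁄ℤ] →ₗ[K] Ω[K⁄ℤ] × (Fin n → K) := (mapBaseChange ℤ k K).prod Λ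
  have hkerP : LinearMap.ker P = ⊥ := by
    rw [LinearMap.ker_eq_bot']
    intro v hv
    have h1 : mapBaseChange ℤ k K v = 0 := congrArg Prod.fst hv
    have h2 : Λ v = 0 := congrArg Prod.snd hv
    exact hΛ v (LinearMap.mem_ker.mpr h1) h2
  obtain ⟨g, hg⟩ := P.exists_leftInverse_of_injective hkerP
  let ℓ₁ : Ω[K⁄ℤ] →ₗ[K] K := ℓK ∘ₗ g ∘ₗ LinearMap.inl K _ _
  let ℓ₂ : (Fin n → K) →ₗ[K] K := ℓK ∘ₗ g ∘ₗ LinearMap.inr K _ _
  have key : ∀ v, ℓK v = ℓ₁ (mapBaseChange ℤ k K v) + ℓ₂ (Λ v) := by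
    intro v
    have h1 : g (P v) = v := LinearMap.congr_fun hg v
    have h2 : P v = LinearMap.inl K _ _ (mapBaseChange ℤ k K v) + LinearMap.inr K _ _ (Λ v) := by
      show (mapBaseChange ℤ k K v, Λ v) = (mapBaseChange ℤ k K v, 0) + (0, Λ v)
      rw [Prod.mk_add_mk, add_zero, zero_add]
    conv_lhs => rw [← h1, h2, map_add, map_add]
    rfl
  let ν : Fin n → K := fun i => ℓ₂ (fun j => if i = j then 1 else 0)
  have hℓ₂ : ∀ w : Fin n → K, ℓ₂ w = ∑ i, w i * ν i := by
    intro w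
    rw [LinearMap.pi_apply_eq_sum_univ ℓ₂ w]
    rfl
  let D₀ : A → K := fun a => ℓ₁ (D ℤ K (cc a)) + ∑ i, c i a * ν i
  have hD₀add : ∀ a b, D₀ (a + b) = D₀ a + D₀ b := by
    intro a b
    show ℓ₁ (D ℤ K (cc (a + b))) + ∑ i, c i (a + b) * ν i =
      (ℓ₁ (D ℤ K (cc a)) + ∑ i, c i a * ν i) + (ℓ₁ (D ℤ K (cc b)) + ∑ i, c i b * ν i)
    rw [map_add, map_add, map_add]
    have : ∑ i, c i (a + b) * ν i = ∑ i, c i a * ν i + ∑ i, c i b * ν i := by
      rw [← Finset.sum_add_distrib]
      refine Finset.sum_congr rfl fun i _ => ?_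
      rw [map_add, add_mul]
    rw [this]
    ring
  have hD₀mul : ∀ a b, D₀ (a * b) = cc a * D₀ b + cc b * D₀ a := by
    intro a b
    show ℓ₁ (D ℤ K (cc (a * b))) + ∑ i, c i (a * b) * ν i =
      cc a * (ℓ₁ (D ℤ K (cc b)) + ∑ i, c i b * ν i) + cc b * (ℓ₁ (D ℤ K (cc a)) + ∑ i, c i a * ν i)
    rw [map_mul, Derivation.leibniz, map_add, map_smul, map_smul, smul_eq_mul, smul_eq_mul]
    have : ∑ i, c i (a * b) * ν i = cc a * ∑ i, c i b * ν i + cc b * ∑ i, c i a * ν i := by
      rw [Finset.mul_sum, Finset.mul_sum, ← Finset.sum_add_distrib]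
      refine Finset.sum_congr rfl fun i _ => ?_
      rw [hc]
      ring
    rw [this]
    ring
  have hD₀zero : D₀ 0 = 0 := by
    have := hD₀add 0 0
    rw [add_zero] at this
    exact left_eq_add.mp this
  let D' : Derivation ℤ A (ResidueField A) := Derivation.mk'
    ({ toFun := fun a => e.symm (D₀ a)
       map_zero' := by rw [hD₀zero, map_zero]
       map_add' := fun a b => by rw [hD₀add, map_add] } : A →+ ResidueField A).toIntLinearMap
    (fun a b => by
      show e.symm (D₀ (a * b)) = a • e.symm (D₀ b) + b • e.symm (D₀ a)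
      apply e.injective
      rw [RingEquiv.apply_symm_apply, map_add, heA, heA, RingEquiv.apply_symm_apply,
        RingEquiv.apply_symm_apply, hD₀mul])
  refine ⟨D', fun x => ?_⟩
  show e.symm (D₀ (algebraMap k A x)) = δ x
  rw [RingEquiv.symm_apply_eq, ← hδ', ← hℓ]
  show ℓ₁ (D ℤ K (cc (algebraMap k A x))) + ∑ i, c i (algebraMap k A x) * ν i = _
  have h1 : ℓK ((1 : K) ⊗ₜ[k] D ℤ k x) = ℓ (D ℤ k x) := LinearMap.liftBaseChange_one_tmul K ℓ _
  rw [← h1, key, hℓ₂, hcck]
  congr 1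
  · rw [mapBaseChange_tmul, one_smul, KaehlerDifferential.map_D]
  · refine Finset.sum_congr rfl fun i _ => ?_
    rw [hck]
    rfl

end Groth.Agent.Lib.Helper49.Imperf
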