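import Mathlib
import Groth.Agent.Lib.Helper49.Imperf2
import Groth.Agent.S11741
set_option autoImplicit false
set_option linter.style.haveILetI false
set_option linter.unusedSectionVars false
universe u
namespace Groth.Agent.Lib.Helper49.Imperf
open IsLocalRing TensorProduct KaehlerDifferential

theorem coeff_single_mul {K : Type*} [CommRing K] {n : ℕ} (i : Fin n)
    (a b : MvPowerSeries (Fin n) K) :
    MvPowerSeries.coeff (Finsupp.single i 1) (a * b) =
      MvPowerSeries.constantCoeff a * MvPowerSeries.coeff (Finsupp.single i 1) b +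
        MvPowerSeries.constantCoeff b * MvPowerSeries.coeff (Finsupp.single i 1) a := by
  classical
  rw [MvPowerSeries.coeff_mul, Finsupp.antidiagonal_single, Finset.sum_map]
  have h1 : Finset.HasAntidiagonal.antidiagonal (1 : ℕ) = {((0 : ℕ), (1 : ℕ)), (1, 0)} := by decide
  rw [h1, Finset.sum_insert (by decide), Finset.sum_singleton]
  show MvPowerSeries.coeff (Finsupp.single i 0) a * MvPowerSeries.coeff (Finsupp.single i 1) b +
    MvPowerSeries.coeff (Finsupp.single i 1) a * MvPowerSeries.coeff (Finsupp.single i 0) b = _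
  rw [Finsupp.single_zero, MvPowerSeries.coeff_zero_eq_constantCoeff_apply,
    MvPowerSeries.coeff_zero_eq_constantCoeff_apply]
  ring

theorem exists_of_finrank_le {k K : Type u} [Field k] [Field K] [Algebra k K]
    (hfin : Module.Finite K (EGA41.imperfection ℤ k K)) (n : ℕ)
    (hn : Module.finrank K (EGA41.imperfection ℤ k K) ≤ n) :
    ∃ (A : Type u) (_ : CommRing A) (_ : IsLocalRing A) (_ : IsNoetherianRing A) (_ : Algebra k A),
        IsAdicComplete (maximalIdeal A) A ∧ CAlgX.IsAdicFormallySmooth k A (maximalIdeal A) ∧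
        Nonempty (ResidueField A ≃ₐ[k] K) ∧ ringKrullDim A = n := by
  have h1 : Module.finrank K (EGA41.imperfection ℤ k K) ≤ Module.finrank K (Fin n → K) := by
    rw [Module.finrank_fin_fun]
    exact hn
  haveI : Module.Free K (EGA41.imperfection ℤ k K) :=
    @Module.Free.of_divisionRing K (↥(EGA41.imperfection ℤ k K)) _ (Submodule.addCommGroup _)
      (Submodule.module _)
  obtain ⟨ι₀, hι₀⟩ := finrank_le_iff_exists_linearMap.mp h1
  obtain ⟨Λ, hΛ⟩ := LinearMap.exists_extend ι₀
  have hΛ' : ∀ v ∈ EGA41.imperfection ℤ k K, Λ v = 0 → v = 0 := by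
    intro v hv h0
    have h2 : ι₀ ⟨v, hv⟩ = 0 := by
      rw [← hΛ]
      exact h0
    have h3 := hι₀ (h2.trans (map_zero ι₀).symm)
    exact congrArg Subtype.val h3
  obtain ⟨θ, hθ⟩ := exists_theta Λ
  refine ⟨MvPowerSeries (Fin n) K, inferInstance, inferInstance, inferInstance, θ.toAlgebra, ?_⟩
  letI algθ : Algebra k (MvPowerSeries (Fin n) K) := θ.toAlgebra
  have hcc : Function.Surjective (MvPowerSeries.constantCoeff (σ := Fin n) (R := K)) :=
    fun y => ⟨MvPowerSeries.C y, MvPowerSeries.constantCoeff_C y⟩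
  have hker : RingHom.ker (MvPowerSeries.constantCoeff (σ := Fin n) (R := K)) =
      maximalIdeal (MvPowerSeries (Fin n) K) := by
    ext f
    rw [RingHom.mem_ker, IsLocalRing.mem_maximalIdeal, mem_nonunits_iff,
      MvPowerSeries.isUnit_iff_constantCoeff, isUnit_iff_ne_zero, not_not]
  have hcck : ∀ x, MvPowerSeries.constantCoeff (algebraMap k (MvPowerSeries (Fin n) K) x) =
      algebraMap k K x := fun x => constantCoeff_theta Λ θ hθ x
  have hinj := injective_of_coords (A := MvPowerSeries (Fin n) K) Λ hΛ'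
    MvPowerSeries.constantCoeff hcc hker hcck
    (fun i => (MvPowerSeries.coeff (R := K) (Finsupp.single i 1)).toAddMonoidHom)
    (fun i a b => coeff_single_mul i a b)
    (fun i x => coeff_single_theta Λ θ hθ x i)
  have hreg := Groth.Agent.Lib.Helper49.FSRegular.isRegularLocalRing_mvPowerSeries K n
  refine ⟨Groth.Agent.Lib.Helper49.FSRegular.isAdicComplete_mvPowerSeries K n,
    Groth.Agent.Lib.Helper49.FSJacobi.isAdicFormallySmooth_of_regular_of_injective hreg hinj, ?_,
    le_antisymm (Groth.Agent.S11741.ringKrullDim_mvPowerSeries_le K n)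
      (Groth.Agent.S11741.le_ringKrullDim_mvPowerSeries K n)⟩
  let e : ResidueField (MvPowerSeries (Fin n) K) ≃+* K :=
    (Ideal.quotEquivOfEq hker.symm).trans (RingHom.quotientKerEquivOfSurjective hcc)
  have he : ∀ a, e (residue _ a) = MvPowerSeries.constantCoeff a := by
    intro a
    show (RingHom.quotientKerEquivOfSurjective hcc) ((Ideal.quotEquivOfEq hker.symm)
      (Ideal.Quotient.mk _ a)) = _
    rw [Ideal.quotEquivOfEq_mk]
    exact RingHom.quotientKerEquivOfSurjective_apply_mk _ a
  exact ⟨AlgEquiv.ofRingEquiv (f := e) (fun x => by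
    have h2 : algebraMap k (ResidueField (MvPowerSeries (Fin n) K)) x =
        residue _ (algebraMap k (MvPowerSeries (Fin n) K) x) := rfl
    rw [h2, he, hcck])⟩

end Groth.Agent.Lib.Helper49.Imperf
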