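import Mathlib
import Groth.Agent.Lib.Helper49.Imperf3
set_option autoImplicit false
set_option linter.style.haveILetI false
set_option linter.unusedSectionVars false
universe u
namespace Groth.Agent.Lib.Helper49.Imperf
open IsLocalRing TensorProduct KaehlerDifferential

theorem one_tmul_mem_span_D {k K : Type u} [Field k] [Field K] [Algebra k K] (ω : Ω[k⁄ℤ]) :
    (1 : K) ⊗ₜ[k] ω ∈ Submodule.span K (Set.range fun x : k => (1 : K) ⊗ₜ[k] D ℤ k x) := by
  have hω : ω ∈ Submodule.span k (Set.range (D ℤ k)) := by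
    rw [span_range_derivation]
    trivial
  induction hω using Submodule.span_induction with
  | mem y hy =>
    obtain ⟨x, rfl⟩ := hy
    exact Submodule.subset_span ⟨x, rfl⟩
  | zero =>
    rw [TensorProduct.tmul_zero]
    exact Submodule.zero_mem _
  | add x y _ _ hx hy =>
    rw [TensorProduct.tmul_add]
    exact Submodule.add_mem _ hx hy
  | smul a x _ hx =>
    rw [one_tmul_smul']
    exact Submodule.smul_mem _ _ hx

theorem span_one_tmul_D {k K : Type u} [Field k] [Field K] [Algebra k K] :
    Submodule.span K (Set.range fun x : k => (1 : K) ⊗ₜ[k] D ℤ k x) = ⊤ := by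
  rw [eq_top_iff]
  rintro w -
  induction w using TensorProduct.induction_on with
  | zero => exact Submodule.zero_mem _
  | tmul c ω =>
    have h1 : c ⊗ₜ[k] ω = c • ((1 : K) ⊗ₜ[k] ω) := by
      rw [TensorProduct.smul_tmul', smul_eq_mul, mul_one]
    rw [h1]
    exact Submodule.smul_mem _ _ (one_tmul_mem_span_D ω)
  | add x y hx hy => exact Submodule.add_mem _ hx hy

theorem finite_of_exists {k K : Type u} [Field k] [Field K] [Algebra k K]
    (A : Type u) [CommRing A] [IsLocalRing A] [IsNoetherianRing A] [Algebra k A]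
    (hfs : CAlgX.IsAdicFormallySmooth k A (maximalIdeal A)) (e : ResidueField A ≃ₐ[k] K) :
    Module.Finite K (EGA41.imperfection ℤ k K) := by
  have hinj := (Groth.Agent.Lib.Helper49.FSJacobi.isAdicFormallySmooth_iff_regular_and_injective.mp
    hfs).2
  letI algAK : Algebra A K := ((e : ResidueField A →+* K).comp (residue A)).toAlgebra
  have halgAK : ∀ a, algebraMap A K a = e (residue A a) := fun a => rfl
  haveI towerkAK : IsScalarTower k A K := IsScalarTower.of_algebraMap_eq (fun x => by
    rw [halgAK]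
    have h1 : residue A (algebraMap k A x) = algebraMap k (ResidueField A) x := rfl
    rw [h1, e.commutes])
  have hsurj : Function.Surjective (algebraMap A K) := e.surjective.comp residue_surjective
  letI modκK : Module (ResidueField A) K := Module.compHom K (e : ResidueField A →+* K)
  have hκK : ∀ (c : ResidueField A) (y : K), c • y = e c * y := fun c y => rfl
  haveI towerAκK : IsScalarTower A (ResidueField A) K := ⟨fun a c y => by
    rw [hκK, hκK, Algebra.smul_def a (e c * y), halgAK, ← mul_assoc, ← map_mul]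
    congr 2⟩
  have hext : ∀ δ : Derivation ℤ k K, ∃ D' : Derivation ℤ A K,
      ∀ x, D' (algebraMap k A x) = δ x := fun δ =>
    Groth.Agent.Lib.Helper49.KaehlerResidue.exists_derivation_extension_of_injective hinj K δ
  let f : Ω[k⁄ℤ] →ₗ[k] K ⊗[A] Ω[A⁄ℤ] :=
    { toFun := fun ω => (1 : K) ⊗ₜ[A] (KaehlerDifferential.map ℤ ℤ k A ω)
      map_add' := fun x y => by rw [map_add, TensorProduct.tmul_add]
      map_smul' := fun c y => by
        rw [map_smul, RingHom.id_apply, ← algebraMap_smul A c, ← TensorProduct.smul_tmul,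
          TensorProduct.smul_tmul', algebraMap_smul] }
  let ψ : K ⊗[k] Ω[k⁄ℤ] →ₗ[K] K ⊗[A] Ω[A⁄ℤ] := f.liftBaseChange K
  have hψ : ∀ x : k, ψ ((1 : K) ⊗ₜ[k] D ℤ k x) = (1 : K) ⊗ₜ[A] D ℤ A (algebraMap k A x) := by
    intro x
    rw [LinearMap.liftBaseChange_tmul, one_smul]
    show (1 : K) ⊗ₜ[A] (KaehlerDifferential.map ℤ ℤ k A (D ℤ k x)) = _
    rw [KaehlerDifferential.map_D]
  have hψinj : Function.Injective ψ := by
    rw [injective_iff_map_eq_zero]
    intro v hv
    rw [← Module.forall_dual_apply_eq_zero_iff K v]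
    intro ℓ
    let ι : Ω[k⁄ℤ] →ₗ[k] K ⊗[k] Ω[k⁄ℤ] := TensorProduct.mk k K Ω[k⁄ℤ] 1
    let δ : Derivation ℤ k K := ((ℓ.restrictScalars k) ∘ₗ ι).compDer (D ℤ k)
    obtain ⟨D', hD'⟩ := hext δ
    let ℓ'' : K ⊗[A] Ω[A⁄ℤ] →ₗ[K] K := (D'.liftKaehlerDifferential).liftBaseChange K
    have hcomp : ℓ'' ∘ₗ ψ = ℓ := by
      apply LinearMap.ext_on (span_one_tmul_D (k := k) (K := K))
      rintro _ ⟨x, rfl⟩
      rw [LinearMap.comp_apply, hψ]
      show ℓ'' ((1 : K) ⊗ₜ[A] D ℤ A (algebraMap k A x)) = _
      rw [LinearMap.liftBaseChange_tmul, one_smul, Derivation.liftKaehlerDifferential_comp_D, hD']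
      rfl
    rw [← hcomp, LinearMap.comp_apply, hv, map_zero]
  have hcomm : ∀ v, mapBaseChange ℤ A K (ψ v) = mapBaseChange ℤ k K v := by
    intro v
    have h1 : (mapBaseChange ℤ A K) ∘ₗ ψ = mapBaseChange ℤ k K := by
      apply LinearMap.ext_on (span_one_tmul_D (k := k) (K := K))
      rintro _ ⟨x, rfl⟩
      rw [LinearMap.comp_apply, hψ, mapBaseChange_tmul, mapBaseChange_tmul, one_smul, one_smul,
        KaehlerDifferential.map_D, KaehlerDifferential.map_D, ← IsScalarTower.algebraMap_apply]
    exact LinearMap.congr_fun h1 v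
  have hexact := KaehlerDifferential.exact_kerCotangentToTensor_mapBaseChange ℤ A K hsurj
  haveI : Module.Finite A (RingHom.ker (algebraMap A K)) :=
    Module.Finite.iff_fg.mpr (IsNoetherian.noetherian _)
  haveI : Module.Finite A (RingHom.ker (algebraMap A K)).Cotangent :=
    Module.Finite.of_surjective (Ideal.toCotangent _) (Ideal.toCotangent_surjective _)
  obtain ⟨s, hs⟩ := (Module.finite_def.mp
    (inferInstance : Module.Finite A (RingHom.ker (algebraMap A K)).Cotangent))
  let W : Submodule K (K ⊗[A] Ω[A⁄ℤ]) :=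
    Submodule.span K ((kerCotangentToTensor ℤ A K) '' (s : Set _))
  have hW : ∀ t, t ∈ LinearMap.range (kerCotangentToTensor ℤ A K) → t ∈ W := by
    rintro _ ⟨g, rfl⟩
    have hg : g ∈ Submodule.span A (s : Set (RingHom.ker (algebraMap A K)).Cotangent) := by
      rw [hs]
      trivial
    induction hg using Submodule.span_induction with
    | mem y hy => exact Submodule.subset_span ⟨y, hy, rfl⟩
    | zero =>
      rw [map_zero]
      exact Submodule.zero_mem _
    | add x y _ _ hx hy =>
      rw [map_add]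
      exact Submodule.add_mem _ hx hy
    | smul a x _ hx =>
      rw [map_smul, ← algebraMap_smul K a]
      exact Submodule.smul_mem _ _ hx
  haveI : Module.Finite K W := Module.Finite.span_of_finite K (s.finite_toSet.image _)
  let ψΥ : EGA41.imperfection ℤ k K →ₗ[K] W :=
    LinearMap.codRestrict W (ψ ∘ₗ (EGA41.imperfection ℤ k K).subtype) (fun v => by
      apply hW
      rw [LinearMap.mem_range]
      apply (hexact _).mp
      rw [LinearMap.comp_apply, hcomm]
      exact v.2)
  have hψΥ : Function.Injective ψΥ := by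
    intro v w hvw
    have h1 : ψ v.1 = ψ w.1 := congrArg Subtype.val hvw
    exact Subtype.ext (hψinj h1)
  haveI : IsNoetherian K W := isNoetherian_of_isNoetherianRing_of_finite K W
  exact Module.Finite.of_injective ψΥ hψΥ

end Groth.Agent.Lib.Helper49.Imperf
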