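import Mathlib
import Groth.Agent.Lib.Helper67.RegHomLocal
import Groth.Agent.Lib.Helper67.RegLocus3
import Groth.Agent.Lib.Helper67.RegLocus2
import Groth.Agent.Lib.Helper77.RegularLocalization
import Groth.Agent.Lib.Helper56.HomBaseChange2
import Groth.Agent.Lib.Helper56.RegularHom

set_option autoImplicit false
set_option linter.style.haveILetI false
set_option linter.unusedSectionVars false
universe u

namespace Groth.Agent.Lib.Helper49.J2Desc

open TensorProduct IsLocalRing Groth.Agent.Lib.Helper56

section Aux

theorem isRegularLocalRing_of_isRegularRing' (R : Type u) [CommRing R] [IsRegularRing R]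
    [IsLocalRing R] : IsRegularLocalRing R := by
  have hu : ∀ x ∈ (maximalIdeal R).primeCompl, IsUnit x := by
    intro x hx
    by_contra hnu
    exact hx ((mem_maximalIdeal x).mpr hnu)
  have e : R ≃+* Localization.AtPrime (maximalIdeal R) :=
    (IsLocalization.atUnits R (maximalIdeal R).primeCompl
      (S := Localization.AtPrime (maximalIdeal R)) hu).toRingEquiv
  exact IsRegularLocalRing.of_ringEquiv e.symm

end Aux

section Locus

variable (C C' : Type u) [CommRing C] [CommRing C'] [Algebra C C'] [IsNoetherianRing C]
  [IsNoetherianRing C']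

theorem mem_regLocus_iff_of_isRegularHom (h : CAlg.IsRegularHom C C') (q' : PrimeSpectrum C') :
    q' ∈ EGA4.regLocus C' ↔ PrimeSpectrum.comap (algebraMap C C') q' ∈ EGA4.regLocus C := by
  haveI hflat : Module.Flat C C' := h.1
  constructor
  · intro h'
    have h'' : IsRegularLocalRing (Localization.AtPrime q'.asIdeal) := h'
    exact Groth.Agent.Lib.Helper67.RegLocus.isRegularLocalRing_of_flat_of_comap (algebraMap C C')
      (RingHom.flat_algebraMap_iff.mpr hflat) q'.asIdeal (q'.asIdeal.comap (algebraMap C C')) rfl h''
  · intro h'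
    have h'' : IsRegularLocalRing
        (Localization.AtPrime (q'.asIdeal.comap (algebraMap C C'))) := h'
    letI := (Localization.localRingHom (Ideal.comap (algebraMap C C') q'.asIdeal) q'.asIdeal
      (algebraMap C C') rfl).toAlgebra
    have hreg := Groth.Agent.Lib.Helper67.RegHomLocal.isRegularHom_localRingHom C C' q'.asIdeal h
    haveI : IsRegularRing (Localization.AtPrime (q'.asIdeal.comap (algebraMap C C'))) :=
      Groth.Agent.Lib.Helper77.RegularLocalization.isRegularRing_of_isRegularLocalRing _
    haveI : IsNoetherianRing (Localization.AtPrime q'.asIdeal) :=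
      IsLocalization.isNoetherianRing q'.asIdeal.primeCompl _ inferInstance
    haveI : IsRegularRing (Localization.AtPrime q'.asIdeal) :=
      isRegularRing_of_isRegularHom _ _ hreg
    exact isRegularLocalRing_of_isRegularRing' _

theorem isOpen_regLocus_of_isRegularHom [Module.FaithfullyFlat C C']
    (h : CAlg.IsRegularHom C C') (hopen : IsOpen (EGA4.regLocus C')) :
    IsOpen (EGA4.regLocus C) := by
  have hflat : Module.Flat C C' := h.1
  have hsurj : Function.Surjective (PrimeSpectrum.comap (algebraMap C C')) :=
    PrimeSpectrum.comap_surjective_of_faithfullyFlat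
  have hgen : GeneralizingMap (PrimeSpectrum.comap (algebraMap C C')) :=
    RingHom.Flat.generalizingMap_comap (RingHom.flat_algebraMap_iff.mpr hflat)
  have hq := PrimeSpectrum.isQuotientMap_of_generalizingMap hsurj hgen
  rw [← hq.isOpen_preimage]
  have : PrimeSpectrum.comap (algebraMap C C') ⁻¹' EGA4.regLocus C = EGA4.regLocus C' := by
    ext q'
    exact (mem_regLocus_iff_of_isRegularHom C C' h q').symm
  rw [this]
  exact hopen

end Locus

section J2

theorem isJ2_of_isRegularHom_faithfullyFlat (A A' : Type u) [CommRing A] [CommRing A']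
    [Algebra A A'] [IsNoetherianRing A] [IsNoetherianRing A'] [Module.FaithfullyFlat A A']
    (h : CAlg.IsRegularHom A A') (hJ : EGA4.IsJ2 A') : EGA4.IsJ2 A := by
  intro C _ _ hC
  haveI := hC
  haveI hCN : IsNoetherianRing C := Algebra.FiniteType.isNoetherianRing A C
  haveI hft : Algebra.FiniteType A' (A' ⊗[A] C) := inferInstance
  haveI hN1 : IsNoetherianRing (A' ⊗[A] C) := Algebra.FiniteType.isNoetherianRing A' _
  haveI hN2 : IsNoetherianRing (C ⊗[A] A') :=
    isNoetherianRing_of_ringEquiv _ (Algebra.TensorProduct.comm A A' C).toRingEquiv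
  have hopen1 : IsOpen (EGA4.regLocus (A' ⊗[A] C)) := hJ (A' ⊗[A] C) hft
  have hopen2 : IsOpen (EGA4.regLocus (C ⊗[A] A')) :=
    Groth.Agent.Lib.Helper67.RegLocus.isOpen_regLocus_of_ringEquiv
      (Algebra.TensorProduct.comm A A' C).toRingEquiv hopen1
  have hreg : CAlg.IsRegularHom C (C ⊗[A] A') := isRegularHom_baseChange A A' C h
  haveI : Module.FaithfullyFlat C (C ⊗[A] A') := inferInstance
  exact isOpen_regLocus_of_isRegularHom C (C ⊗[A] A') hreg hopen2

end J2

end Groth.Agent.Lib.Helper49.J2Desc
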