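import Mathlib
import Groth.Agent.Lib.Helper49.J2a

set_option autoImplicit false
set_option linter.style.haveILetI false
set_option linter.unusedSectionVars false
universe u

namespace Groth.Agent.Lib.Helper49.J2

open Polynomial

section GFBasics

variable (p : ℕ) {K₀ L : Type u} [Field K₀] [Field L] [Algebra K₀ L]

theorem GF_mono' {Kf Kf' : Subfield K₀} (h : Kf ≤ Kf') : GF p (L := L) Kf ≤ GF p Kf' := by
  apply Subfield.closure_mono
  rintro x (hx | ⟨y, hy, rfl⟩)
  · exact Or.inl hx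
  · exact Or.inr ⟨y, h hy, rfl⟩

theorem pow_mem_GF' (Kf : Subfield K₀) (y : L) : y ^ p ∈ GF p Kf :=
  Subfield.subset_closure (Or.inl ⟨y, rfl⟩)

theorem algebraMap_mem_GF' (Kf : Subfield K₀) (y : K₀) (hy : y ∈ Kf) :
    algebraMap K₀ L y ∈ GF p Kf :=
  Subfield.subset_closure (Or.inr ⟨y, hy, rfl⟩)

theorem GF_tower_le {M E : Type u} [Field M] [Field E] [Algebra K₀ M] [Algebra M E]
    [Algebra K₀ E] [IsScalarTower K₀ M E] (Kf : Subfield K₀) :
    GF p (L := E) Kf ≤ GF p (L := E) (GF p (L := M) Kf) := by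
  rw [GF, Subfield.closure_le]
  rintro x (⟨y, rfl⟩ | ⟨y, hy, rfl⟩)
  · exact pow_mem_GF' p _ y
  · rw [IsScalarTower.algebraMap_apply K₀ M E]
    exact algebraMap_mem_GF' p _ _ (algebraMap_mem_GF' p Kf y hy)

end GFBasics

section RFCore

theorem normalize_pair {k' E : Type*} [Field k'] [Field E] (φ : k' →+* E) (τ : E)
    (hφ : ∀ q : Polynomial k', Polynomial.eval₂ φ τ q = 0 → q = 0) (x : E) (r s : Polynomial k')
    (hs : s ≠ 0) (h : x * eval₂ φ τ s = eval₂ φ τ r) :
    ∃ r' s' : Polynomial k', s'.Monic ∧ IsCoprime r' s' ∧ x * eval₂ φ τ s' = eval₂ φ τ r' := by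
  classical
  obtain ⟨g, hg⟩ : ∃ g, g = EuclideanDomain.gcd r s := ⟨_, rfl⟩
  have hg0 : g ≠ 0 := by
    intro h0
    rw [hg, EuclideanDomain.gcd_eq_zero_iff] at h0
    exact hs h0.2
  obtain ⟨r₁, hr₁⟩ : g ∣ r := hg ▸ EuclideanDomain.gcd_dvd_left r s
  obtain ⟨s₁, hs₁⟩ : g ∣ s := hg ▸ EuclideanDomain.gcd_dvd_right r s
  have hbez : g = r * EuclideanDomain.gcdA r s + s * EuclideanDomain.gcdB r s := by
    rw [hg]; exact EuclideanDomain.gcd_eq_gcd_ab r s
  have hcop : IsCoprime r₁ s₁ := by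
    refine ⟨EuclideanDomain.gcdA r s, EuclideanDomain.gcdB r s, ?_⟩
    apply mul_left_cancel₀ hg0
    calc g * (EuclideanDomain.gcdA r s * r₁ + EuclideanDomain.gcdB r s * s₁)
        = (g * r₁) * EuclideanDomain.gcdA r s + (g * s₁) * EuclideanDomain.gcdB r s := by ring
      _ = r * EuclideanDomain.gcdA r s + s * EuclideanDomain.gcdB r s := by rw [← hr₁, ← hs₁]
      _ = g * 1 := by rw [← hbez, mul_one]
  have hs₁0 : s₁ ≠ 0 := by
    rintro rfl
    exact hs (by rw [hs₁, mul_zero])
  obtain ⟨c, hcdef⟩ : ∃ c, c = s₁.leadingCoeff := ⟨_, rfl⟩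
  have hc : c ≠ 0 := by rw [hcdef]; exact leadingCoeff_ne_zero.mpr hs₁0
  refine ⟨C c⁻¹ * r₁, C c⁻¹ * s₁,
    monic_C_mul_of_mul_leadingCoeff_eq_one (by rw [← hcdef]; exact inv_mul_cancel₀ hc), ?_, ?_⟩
  · obtain ⟨u, v, huv⟩ := hcop
    refine ⟨u * C c, v * C c, ?_⟩
    calc u * C c * (C c⁻¹ * r₁) + v * C c * (C c⁻¹ * s₁)
        = (C c * C c⁻¹) * (u * r₁ + v * s₁) := by ring
      _ = 1 := by rw [← C_mul, mul_inv_cancel₀ hc, C_1, one_mul, huv]
  · have hgτ : eval₂ φ τ g ≠ 0 := fun h0 => hg0 (hφ g h0)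
    have h2 : eval₂ φ τ g * (x * eval₂ φ τ s₁) = eval₂ φ τ g * eval₂ φ τ r₁ := by
      have h3 := h
      rw [hs₁, hr₁, eval₂_mul, eval₂_mul] at h3
      linear_combination h3
    have h4 := mul_left_cancel₀ hgτ h2
    rw [eval₂_mul, eval₂_mul, eval₂_C]
    linear_combination (φ c⁻¹) * h4

theorem rf_core {M E : Type u} [Field M] [Field E] [Algebra M E] {ι : Type*} [Nonempty ι]
    (Mf : ι → Subfield M) (τ : E) (hτ : Transcendental M τ) (x : E)
    (hx : ∀ i, ∃ r s : Polynomial (Mf i), s ≠ 0 ∧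
      x * eval₂ ((algebraMap M E).comp (Mf i).subtype) τ s =
        eval₂ ((algebraMap M E).comp (Mf i).subtype) τ r) :
    ∃ r₀ s₀ : Polynomial M, s₀ ≠ 0 ∧ x * aeval τ s₀ = aeval τ r₀ ∧
      ∀ i n, r₀.coeff n ∈ Mf i ∧ s₀.coeff n ∈ Mf i := by
  classical
  have hφ : ∀ i (q : Polynomial (Mf i)),
      eval₂ ((algebraMap M E).comp (Mf i).subtype) τ q = 0 → q = 0 := by
    intro i q hq
    have h1 : aeval τ (q.map (Mf i).subtype) = 0 := by
      rw [aeval_def, eval₂_map]; exact hq
    have h2 := (transcendental_iff.mp hτ) _ h1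
    exact map_injective (Mf i).subtype Subtype.val_injective (by rw [h2, Polynomial.map_zero])
  choose r s hs hrs using hx
  have hnorm := fun i => normalize_pair ((algebraMap M E).comp (Mf i).subtype) τ (hφ i) x
    (r i) (s i) (hs i) (hrs i)
  choose r' s' hmon hcop hrel using hnorm
  obtain ⟨R, hRdef⟩ : ∃ R : ι → Polynomial M, R = fun i => (r' i).map (Mf i).subtype := ⟨_, rfl⟩
  obtain ⟨S, hSdef⟩ : ∃ S : ι → Polynomial M, S = fun i => (s' i).map (Mf i).subtype := ⟨_, rfl⟩
  have hRel : ∀ i, x * aeval τ (S i) = aeval τ (R i) := by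
    intro i
    rw [hRdef, hSdef]
    simp only [aeval_def, eval₂_map]
    exact hrel i
  have hSmon : ∀ i, (S i).Monic := fun i => by rw [hSdef]; exact (hmon i).map _
  have hcopRS : ∀ i, IsCoprime (R i) (S i) := fun i => by
    rw [hRdef, hSdef]
    exact (hcop i).map (mapRingHom (Mf i).subtype)
  have hinj : Function.Injective (aeval τ : Polynomial M → E) := transcendental_iff_injective.mp hτ
  have hcross : ∀ i j, R i * S j = R j * S i := by
    intro i j
    apply hinj
    rw [map_mul, map_mul, ← hRel i, ← hRel j]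
    ring
  have hdvd : ∀ i j, S i ∣ S j := by
    intro i j
    have h1 : S i ∣ R i * S j := ⟨R j, by rw [hcross i j]; ring⟩
    exact (hcopRS i).symm.dvd_of_dvd_mul_left h1
  have hSeq : ∀ i j, S i = S j := fun i j =>
    eq_of_monic_of_associated (hSmon i) (hSmon j) (associated_of_dvd_dvd (hdvd i j) (hdvd j i))
  have hReq : ∀ i j, R i = R j := by
    intro i j
    have h := hcross i j
    rw [hSeq j i] at h
    exact mul_right_cancel₀ (hSmon i).ne_zero h
  obtain ⟨i₀⟩ := ‹Nonempty ι›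
  refine ⟨R i₀, S i₀, (hSmon i₀).ne_zero, hRel i₀, fun i n => ⟨?_, ?_⟩⟩
  · rw [hReq i₀ i, hRdef]
    simp only [coeff_map]
    exact ((r' i).coeff n).2
  · rw [hSeq i₀ i, hSdef]
    simp only [coeff_map]
    exact ((s' i).coeff n).2

end RFCore


section Simple

variable (p : ℕ) [hp : Fact p.Prime] {M E : Type u} [Field M] [Field E] [Algebra M E]
  [CharP M p] [CharP E p]

theorem aeval_pow_char (θ : E) (r : Polynomial M) :
    (aeval θ r) ^ p = aeval (θ ^ p) (r.map (frobenius M p)) := by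
  haveI : ExpChar E p := ExpChar.prime hp.out
  haveI : ExpChar M p := ExpChar.prime hp.out
  rw [aeval_def, aeval_def, eval₂_map]
  have h1 : (eval₂ (algebraMap M E) θ r) ^ p = frobenius E p (eval₂ (algebraMap M E) θ r) := rfl
  rw [h1, hom_eval₂]
  have h2 : (frobenius E p).comp (algebraMap M E) = (algebraMap M E).comp (frobenius M p) := by
    ext y
    simp only [RingHom.comp_apply, frobenius_def, map_pow]
  rw [h2]
  rfl

theorem exists_root_poly {ι : Type*} (Mf : ι → Subfield M)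
    (hinf : ∀ x : M, (∀ i, x ∈ Mf i) → ∃ y, y ^ p = x) (q : Polynomial M)
    (hq : ∀ i n, q.coeff n ∈ Mf i) : ∃ q₁ : Polynomial M, q₁.map (frobenius M p) = q := by
  classical
  haveI : ExpChar M p := ExpChar.prime hp.out
  have hc : ∀ n, ∃ y : M, y ^ p = q.coeff n := fun n => hinf _ (fun i => hq i n)
  choose c hc using hc
  refine ⟨∑ n ∈ q.support, monomial n (c n), ?_⟩
  ext n
  rw [coeff_map, finsetSum_coeff]
  simp only [coeff_monomial, Finset.sum_ite_eq', mem_support_iff]
  by_cases h0 : q.coeff n = 0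
  · rw [if_neg (not_not.mpr h0), map_zero, h0]
  · rw [if_pos h0, frobenius_def, hc]

theorem mem_fraction_of_mem_GF {ι : Type*} (Mf : ι → Subfield M)
    (hpow : ∀ i (y : M), y ^ p ∈ Mf i)
    (θ : E) (hgen : ∀ y : E, ∃ r s : Polynomial M, y = aeval θ r / aeval θ s) (i : ι)
    (x : E) (hx : x ∈ GF p (L := E) (Mf i)) :
    ∃ r s : Polynomial (Mf i),
      x = eval₂ ((algebraMap M E).comp (Mf i).subtype) (θ ^ p) r /
        eval₂ ((algebraMap M E).comp (Mf i).subtype) (θ ^ p) s := by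
  haveI : ExpChar M p := ExpChar.prime hp.out
  letI : Algebra (Mf i) E := ((algebraMap M E).comp (Mf i).subtype).toAlgebra
  let J : IntermediateField (Mf i) E := IntermediateField.adjoin (Mf i) {θ ^ p}
  have hθJ : θ ^ p ∈ J := IntermediateField.mem_adjoin_simple_self _ _
  have haevalJ : ∀ q : Polynomial (Mf i), aeval (θ ^ p) q ∈ J := by
    intro q
    have h := aeval_algHom_apply J.val (⟨θ ^ p, hθJ⟩ : J) q
    rw [show J.val (⟨θ ^ p, hθJ⟩ : J) = θ ^ p from rfl] at h
    rw [h]
    exact (aeval (⟨θ ^ p, hθJ⟩ : J) q).2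
  let frob : M →+* Mf i := (frobenius M p).codRestrict (Mf i) (fun y => hpow i y)
  have key : ∀ r : Polynomial M, (aeval θ r) ^ p ∈ J := by
    intro r
    rw [aeval_pow_char p θ r]
    have h2 : aeval (θ ^ p) (r.map (frobenius M p)) = aeval (θ ^ p) (r.map frob) := by
      rw [aeval_def, aeval_def, eval₂_map, eval₂_map]
      rfl
    rw [h2]
    exact haevalJ _
  have hle : GF p (L := E) (Mf i) ≤ J.toSubfield := by
    rw [GF, Subfield.closure_le]
    rintro z (⟨y, rfl⟩ | ⟨y, hy, rfl⟩)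
    · obtain ⟨r, s, rfl⟩ := hgen y
      show (aeval θ r / aeval θ s) ^ p ∈ J
      rw [div_pow]
      exact J.div_mem (key r) (key s)
    · show algebraMap M E y ∈ J
      exact J.algebraMap_mem ⟨y, hy⟩
  have hxJ : x ∈ J := hle hx
  obtain ⟨r, s, hrs⟩ := (IntermediateField.mem_adjoin_simple_iff (Mf i) x).mp hxJ
  exact ⟨r, s, hrs⟩

theorem good_of_transcendental {ι : Type*} [Nonempty ι] (Mf : ι → Subfield M)
    (hpow : ∀ i (y : M), y ^ p ∈ Mf i)
    (hinf : ∀ x : M, (∀ i, x ∈ Mf i) → ∃ y, y ^ p = x)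
    (θ : E) (hθ : Transcendental M θ)
    (hgen : ∀ y : E, ∃ r s : Polynomial M, y = aeval θ r / aeval θ s)
    (x : E) (hx : ∀ i, x ∈ GF p (L := E) (Mf i)) : ∃ y : E, y ^ p = x := by
  have hτ : Transcendental M (θ ^ p) := hθ.pow hp.out.pos
  have h1 : ∀ i, ∃ r s : Polynomial (Mf i), s ≠ 0 ∧
      x * eval₂ ((algebraMap M E).comp (Mf i).subtype) (θ ^ p) s =
        eval₂ ((algebraMap M E).comp (Mf i).subtype) (θ ^ p) r := by
    intro i
    obtain ⟨r, s, hrs⟩ := mem_fraction_of_mem_GF p Mf hpow θ hgen i x (hx i)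
    by_cases hs0 : eval₂ ((algebraMap M E).comp (Mf i).subtype) (θ ^ p) s = 0
    · rw [hs0, div_zero] at hrs
      refine ⟨0, 1, one_ne_zero, ?_⟩
      rw [hrs, zero_mul, eval₂_zero]
    · refine ⟨r, s, ?_, ?_⟩
      · rintro rfl
        exact hs0 (eval₂_zero _ _)
      · rw [hrs, div_mul_cancel₀ _ hs0]
  obtain ⟨r₀, s₀, hs₀, hrel, hcoef⟩ := rf_core Mf (θ ^ p) hτ x h1
  obtain ⟨r₁, hr₁⟩ := exists_root_poly p Mf hinf r₀ (fun i n => (hcoef i n).1)
  obtain ⟨s₁, hs₁⟩ := exists_root_poly p Mf hinf s₀ (fun i n => (hcoef i n).2)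
  have hr : (aeval θ r₁) ^ p = aeval (θ ^ p) r₀ := by rw [aeval_pow_char p θ r₁, hr₁]
  have hs : (aeval θ s₁) ^ p = aeval (θ ^ p) s₀ := by rw [aeval_pow_char p θ s₁, hs₁]
  have hs0 : aeval (θ ^ p) s₀ ≠ 0 := fun h0 => hs₀ ((transcendental_iff.mp hτ) _ h0)
  refine ⟨aeval θ r₁ / aeval θ s₁, ?_⟩
  rw [div_pow, hr, hs, ← hrel, mul_div_assoc, div_self hs0, mul_one]

end Simple

section Induction

variable (p : ℕ) [hp : Fact p.Prime]

theorem good_step {M E : Type u} [Field M] [Field E] [Algebra M E] [CharP M p] [CharP E p]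
    {ι : Type u} [Preorder ι] [IsDirected ι (· ≤ ·)] [Nonempty ι]
    (Mf : ι → Subfield M) (hanti : Antitone Mf) (hpow : ∀ i (y : M), y ^ p ∈ Mf i)
    (hinf : ∀ x : M, (∀ i, x ∈ Mf i) → ∃ y, y ^ p = x)
    (θ : E) (hgen : ∀ y : E, ∃ r s : Polynomial M, y = aeval θ r / aeval θ s)
    (x : E) (hx : ∀ i, x ∈ GF p (L := E) (Mf i)) : ∃ y : E, y ^ p = x := by
  by_cases hθ : Transcendental M θ
  · exact good_of_transcendental p Mf hpow hinf θ hθ hgen x hx
  · have halg : IsAlgebraic M θ := by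
      rw [Transcendental, not_not] at hθ
      exact hθ
    have hint : IsIntegral M θ := halg.isIntegral
    have hadj : IntermediateField.adjoin M {θ} = ⊤ := by
      rw [eq_top_iff]
      intro y _
      exact (IntermediateField.mem_adjoin_simple_iff M y).mpr (hgen y)
    haveI h1 : FiniteDimensional M (IntermediateField.adjoin M {θ}) :=
      IntermediateField.adjoin.finiteDimensional hint
    haveI h2 : FiniteDimensional M (⊤ : IntermediateField M E) := hadj ▸ h1
    haveI : FiniteDimensional M E :=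
      Module.Finite.equiv (IntermediateField.topEquiv (F := M) (E := E)).toLinearEquiv
    exact stab p Mf hanti hpow hinf x hx

theorem good_of_fg : ∀ (n : ℕ) (M E : Type u) [Field M] [Field E] [Algebra M E] [CharP M p]
    [CharP E p] (ι : Type u) [Preorder ι] [IsDirected ι (· ≤ ·)] [Nonempty ι]
    (Mf : ι → Subfield M) (_ : Antitone Mf) (_ : ∀ i (y : M), y ^ p ∈ Mf i)
    (_ : ∀ x : M, (∀ i, x ∈ Mf i) → ∃ y, y ^ p = x)
    (s : Fin n → E) (_ : IntermediateField.adjoin M (Set.range s) = ⊤)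
    (x : E) (_ : ∀ i, x ∈ GF p (L := E) (Mf i)), ∃ y : E, y ^ p = x := by
  intro n
  induction n with
  | zero =>
    intro M E _ _ _ _ _ ι _ _ _ Mf hanti hpow hinf s hs x hx
    have hbot : (⊥ : IntermediateField M E) = ⊤ := by
      rw [← hs, Set.range_eq_empty, IntermediateField.adjoin_empty]
    refine good_step p Mf hanti hpow hinf (0 : E) (fun y => ?_) x hx
    have hy : y ∈ (⊥ : IntermediateField M E) := by rw [hbot]; trivial
    obtain ⟨m, rfl⟩ := IntermediateField.mem_bot.mp hy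
    exact ⟨C m, 1, by rw [aeval_C, aeval_one, div_one]⟩
  | succ n ih =>
    intro M E _ _ _ _ _ ι _ _ _ Mf hanti hpow hinf s hs x hx
    let M' : IntermediateField M E := IntermediateField.adjoin M {s 0}
    haveI : CharP M' p := charP_of_injective_algebraMap (algebraMap M M').injective p
    let Mf' : ι → Subfield M' := fun i => GF p (L := M') (Mf i)
    have hanti' : Antitone Mf' := fun i j hij => GF_mono' p (hanti hij)
    have hpow' : ∀ i (y : M'), y ^ p ∈ Mf' i := fun i y => pow_mem_GF' p (Mf i) y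
    have hinf' : ∀ x : M', (∀ i, x ∈ Mf' i) → ∃ y, y ^ p = x := by
      intro z hz
      refine good_step p Mf hanti hpow hinf (IntermediateField.AdjoinSimple.gen M (s 0))
        (fun y => ?_) z hz
      obtain ⟨r, t, hrt⟩ := (IntermediateField.mem_adjoin_simple_iff M (y : E)).mp y.2
      refine ⟨r, t, ?_⟩
      apply Subtype.ext
      rw [hrt, IntermediateField.coe_div]
      have h1 : ∀ q : Polynomial M,
          ((aeval (IntermediateField.AdjoinSimple.gen M (s 0)) q : M') : E) = aeval (s 0) q := by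
        intro q
        exact (aeval_algHom_apply M'.val (IntermediateField.AdjoinSimple.gen M (s 0)) q).symm
      rw [h1, h1]
    have hs' : IntermediateField.adjoin M' (Set.range fun j : Fin n => s j.succ) = ⊤ := by
      have h1 := IntermediateField.adjoin_adjoin_left M ({s 0} : Set E)
        (Set.range fun j : Fin n => s j.succ)
      have h2 : ({s 0} : Set E) ∪ (Set.range fun j : Fin n => s j.succ) = Set.range s := by
        ext y
        constructor
        · rintro (hy | ⟨j, rfl⟩)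
          · exact ⟨0, hy.symm⟩
          · exact ⟨j.succ, rfl⟩
        · rintro ⟨j, rfl⟩
          refine Fin.cases ?_ (fun j => ?_) j
          · exact Or.inl rfl
          · exact Or.inr ⟨j, rfl⟩
      rw [h2, hs] at h1
      rw [eq_top_iff]
      intro y _
      have : y ∈ IntermediateField.restrictScalars M
          (IntermediateField.adjoin M' (Set.range fun j : Fin n => s j.succ)) := by
        rw [h1]; trivial
      exact this
    refine ih M' E ι Mf' hanti' hpow' hinf' (fun j => s j.succ) hs' x (fun i => ?_)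
    exact GF_tower_le p (Mf i) (hx i)

end Induction

section DLfg

open MvPowerSeries Groth.Agent.Lib.Helper49.PSFam Groth.Agent.Lib.Helper49.FieldFam
  Groth.Agent.Lib.Helper49.FamCrit Groth.Agent.Lib.Helper49.GeomRegFS
  Groth.Agent.Lib.Helper49.AdmissibleFam

variable (p : ℕ) [hp : Fact p.Prime] {k : Type u} [Field k] [CharP k p] (n : ℕ)
  (K₀ : Type u) [Field K₀] [Algebra (MvPowerSeries (Fin n) k) K₀]
  [IsFractionRing (MvPowerSeries (Fin n) k) K₀]
  (F : Type u) [Field F] [Algebra (MvPowerSeries (Fin n) k) F] [Algebra K₀ F]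
  [IsScalarTower (MvPowerSeries (Fin n) k) K₀ F]

include K₀ in
theorem exists_field_derivation_fg {m : ℕ} (s : Fin m → F)
    (hs : IntermediateField.adjoin K₀ (Set.range s) = ⊤) (a : F) (ha : ∀ y : F, y ^ p ≠ a) :
    ∃ (Fs : Subfield k) (_ : Module.Finite Fs k) (δ : Derivation ℤ F F), δ a = 1 ∧
      ∀ f ∈ RF p Fs (σ := Fin n), δ (algebraMap (MvPowerSeries (Fin n) k) F f) = 0 := by
  classical
  haveI : CharP F p := charP_F p k n K₀ F
  haveI : CharP K₀ p := RingHom.charP (algebraMap K₀ F) (algebraMap K₀ F).injective p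
  haveI : Finite (Ex p (Fin n)) := finite_Ex p (Fin n)
  haveI : Fintype (Ex p (Fin n)) := Fintype.ofFinite _
  obtain ⟨Γ, δ₀, hδ₀, hgen, hinfk⟩ := exists_gamma p k
  let Kf : Finset Γ → Subfield K₀ := fun S => KF p (Fin n) K₀ (kS p Γ S)
  have hKfanti : Antitone Kf := fun S S' h => KF_mono p (Fin n) K₀ (kS_antitone p Γ h)
  have hKfpow : ∀ S (y : K₀), y ^ p ∈ Kf S := fun S y =>
    pow_mem_KF p (Fin n) K₀ (kS p Γ S) (pow_mem_kS p Γ S) y
  have hKfinf : ∀ x : K₀, (∀ S, x ∈ Kf S) → ∃ y, y ^ p = x := by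
    intro x hx
    refine exists_pow_of_forall_mem p (Fin n) K₀ (fun S => kS p Γ S) (fun S => pow_mem_kS p Γ S)
      (exists_pow_of_forall_mem_kS p Γ δ₀ hδ₀ hinfk) (fun S => ?_) x hx
    haveI := finite_kS p Γ hgen S
    exact exists_basis_one
  let G : Finset Γ → Subfield F := fun S => GF p (L := F) (Kf S)
  have hGanti : Antitone G := fun S S' h => GF_mono' p (hKfanti h)
  have hGpow : ∀ S (y : F), y ^ p ∈ G S := fun S y => pow_mem_GF' p (Kf S) y
  have hGinf : ∀ x : F, (∀ S, x ∈ G S) → ∃ y, y ^ p = x :=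
    fun x hx => good_of_fg p m K₀ F (Finset Γ) Kf hKfanti hKfpow hKfinf s hs x hx
  have hL : PInd p F {a} := by
    intro t ht
    rw [Set.mem_singleton_iff] at ht
    subst ht
    intro hcon
    have hle : Subfield.closure ((Set.range fun z : F => z ^ p) ∪ ({t} \ {t})) ≤
        (frobenius F p).fieldRange := by
      rw [Subfield.closure_le]
      rintro z (⟨w, rfl⟩ | hz)
      · exact ⟨w, rfl⟩
      · exact absurd hz.1 hz.2
    obtain ⟨w, hw⟩ := hle hcon
    exact ha w hw
  obtain ⟨S, hS⟩ := exists_derivations p G hGanti hGpow hGinf {a} (Set.finite_singleton a) hL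
  obtain ⟨δ, hδ1, hδ2, -⟩ := hS a rfl
  refine ⟨kS p Γ S, finite_kS p Γ hgen S, δ, hδ2, fun f hf => ?_⟩
  apply hδ1
  rw [IsScalarTower.algebraMap_apply (MvPowerSeries (Fin n) k) K₀ F]
  exact algebraMap_mem_GF' p (Kf S) _ (algebraMap_mem_KF p (Fin n) K₀ (kS p Γ S) hf)

include K₀ in
theorem exists_fg_of_finiteType (R : Type u) [CommRing R]
    [Algebra (MvPowerSeries (Fin n) k) R] [Algebra R F]
    [IsScalarTower (MvPowerSeries (Fin n) k) R F] [Algebra.FiniteType (MvPowerSeries (Fin n) k) R]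
    [IsFractionRing R F] :
    ∃ (m : ℕ) (s : Fin m → F), IntermediateField.adjoin K₀ (Set.range s) = ⊤ := by
  classical
  obtain ⟨t, ht⟩ := (Algebra.FiniteType.out : (⊤ : Subalgebra (MvPowerSeries (Fin n) k) R).FG)
  refine ⟨t.card, fun j => algebraMap R F (t.equivFin.symm j : R), ?_⟩
  set J : IntermediateField K₀ F :=
    IntermediateField.adjoin K₀ (Set.range fun j : Fin t.card =>
      algebraMap R F (t.equivFin.symm j : R)) with hJ
  have hgenJ : ∀ r ∈ t, algebraMap R F r ∈ J := by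
    intro r hr
    apply IntermediateField.subset_adjoin
    refine ⟨t.equivFin ⟨r, hr⟩, ?_⟩
    simp only [Equiv.symm_apply_apply]
  have hall : ∀ r : R, algebraMap R F r ∈ J := by
    intro r
    have hr : r ∈ Algebra.adjoin (MvPowerSeries (Fin n) k) (t : Set R) := by
      rw [ht]; trivial
    induction hr using Algebra.adjoin_induction with
    | mem x hx => exact hgenJ x hx
    | algebraMap f =>
      rw [← IsScalarTower.algebraMap_apply (MvPowerSeries (Fin n) k) R F,
        IsScalarTower.algebraMap_apply (MvPowerSeries (Fin n) k) K₀ F]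
      exact J.algebraMap_mem _
    | add x y _ _ hx hy => rw [map_add]; exact J.add_mem hx hy
    | mul x y _ _ hx hy => rw [map_mul]; exact J.mul_mem hx hy
  rw [eq_top_iff]
  intro y _
  obtain ⟨b, c, -, rfl⟩ := IsFractionRing.div_surjective (A := R) y
  exact J.div_mem (hall b) (hall c)

include K₀ in
theorem exists_derivation_ne_zero_of_finiteType' (R : Type u) [CommRing R]
    [Algebra (MvPowerSeries (Fin n) k) R] [Algebra R F]
    [IsScalarTower (MvPowerSeries (Fin n) k) R F] [Algebra.FiniteType (MvPowerSeries (Fin n) k) R]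
    [IsFractionRing R F] (a₀ : R) (ha : ∀ y : F, y ^ p ≠ algebraMap R F a₀) :
    ∃ D : Derivation ℤ R R, D a₀ ≠ 0 := by
  classical
  haveI : Finite (Ex p (Fin n)) := finite_Ex p (Fin n)
  haveI : Fintype (Ex p (Fin n)) := Fintype.ofFinite _
  have hinjR : Function.Injective (algebraMap R F) := IsFractionRing.injective R F
  haveI : IsDomain R := hinjR.isDomain (algebraMap R F)
  obtain ⟨m, sgen, hsgen⟩ := exists_fg_of_finiteType (k := k) n K₀ F R
  obtain ⟨Fs, hfin, δ, hδa, hδ0⟩ :=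
    exists_field_derivation_fg p (k := k) n K₀ F sgen hsgen (algebraMap R F a₀) ha
  obtain ⟨𝒜, _, β, a₁, h₁⟩ := exists_basis_one (F := Fs)
  obtain ⟨s, hs⟩ := (Algebra.FiniteType.out : (⊤ : Subalgebra (MvPowerSeries (Fin n) k) R).FG)
  let W : Finset R := s ∪ Finset.image (fun x : 𝒜 × Ex p (Fin n) =>
    algebraMap (MvPowerSeries (Fin n) k) R (monomial x.2.1 (β x.1))) Finset.univ
  obtain ⟨⟨c, hc⟩, hcW⟩ := IsLocalization.exist_integer_multiples_of_finset (nonZeroDivisors R)
    (Finset.image (fun w => δ (algebraMap R F w)) W)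
  have hc0 : c ≠ 0 := nonZeroDivisors.ne_zero hc
  have hcW' : ∀ w ∈ W, ∃ r' : R, algebraMap R F r' = algebraMap R F c * δ (algebraMap R F w) := by
    intro w hw
    obtain ⟨r', hr'⟩ := hcW _ (Finset.mem_image_of_mem _ hw)
    refine ⟨r', ?_⟩
    rw [hr', Algebra.smul_def]
  let T : Subring R :=
    { carrier := {r | ∃ r' : R, algebraMap R F r' = algebraMap R F c * δ (algebraMap R F r)}
      mul_mem' := by
        rintro x y ⟨x', hx'⟩ ⟨y', hy'⟩
        refine ⟨x * y' + y * x', ?_⟩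
        rw [map_add, map_mul, map_mul, hx', hy', map_mul, Derivation.leibniz, smul_eq_mul,
          smul_eq_mul]
        ring
      one_mem' := ⟨0, by rw [map_zero, map_one, Derivation.map_one_eq_zero, mul_zero]⟩
      add_mem' := by
        rintro x y ⟨x', hx'⟩ ⟨y', hy'⟩
        refine ⟨x' + y', ?_⟩
        rw [map_add, hx', hy', map_add, map_add, mul_add]
      zero_mem' := ⟨0, by rw [map_zero, map_zero, mul_zero]⟩
      neg_mem' := by
        rintro x ⟨x', hx'⟩
        refine ⟨-x', ?_⟩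
        rw [map_neg, hx', map_neg, map_neg, mul_neg] }
  have hTmem : ∀ r, r ∈ T ↔ ∃ r' : R, algebraMap R F r' = algebraMap R F c * δ (algebraMap R F r) :=
    fun r => Iff.rfl
  have hWT : ∀ w ∈ W, w ∈ T := fun w hw => (hTmem w).mpr (hcW' w hw)
  have hRFT : ∀ f ∈ RF p Fs (σ := Fin n), algebraMap (MvPowerSeries (Fin n) k) R f ∈ T := by
    intro f hf
    refine (hTmem _).mpr ⟨0, ?_⟩
    rw [← IsScalarTower.algebraMap_apply, hδ0 f hf, mul_zero, map_zero]
  have hAT : ∀ f : MvPowerSeries (Fin n) k, algebraMap (MvPowerSeries (Fin n) k) R f ∈ T := by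
    intro f
    rw [decomp p Fs β f, map_sum]
    refine T.sum_mem fun x _ => ?_
    rw [map_mul]
    refine T.mul_mem (hRFT _ ((mem_RF_iff p Fs _).mpr (isF_comp p Fs β f _ _))) ?_
    exact hWT _ (Finset.mem_union_right _ (Finset.mem_image_of_mem _ (Finset.mem_univ x)))
  have hall : ∀ r : R, r ∈ T := by
    intro r
    have hr : r ∈ Algebra.adjoin (MvPowerSeries (Fin n) k) (s : Set R) := by
      rw [hs]; trivial
    induction hr using Algebra.adjoin_induction with
    | mem x hx => exact hWT x (Finset.mem_union_left _ hx)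
    | algebraMap f => exact hAT f
    | add x y _ _ hx hy => exact T.add_mem hx hy
    | mul x y _ _ hx hy => exact T.mul_mem hx hy
  choose D₀ hD₀ using fun r => (hTmem r).mp (hall r)
  let D₁ : R →+ R :=
    { toFun := D₀
      map_zero' := by
        apply hinjR
        rw [hD₀, map_zero, map_zero, mul_zero]
      map_add' := by
        intro x y
        apply hinjR
        rw [map_add, hD₀, hD₀, hD₀, map_add, map_add, mul_add] }
  have hleib : ∀ x y, D₁ (x * y) = x * D₁ y + y * D₁ x := by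
    intro x y
    apply hinjR
    show algebraMap R F (D₀ (x * y)) = algebraMap R F (x * D₀ y + y * D₀ x)
    rw [map_add, map_mul, map_mul, hD₀, hD₀, hD₀, map_mul, Derivation.leibniz, smul_eq_mul,
      smul_eq_mul]
    ring
  refine ⟨ofLeibniz D₁ hleib, ?_⟩
  rw [ofLeibniz_apply]
  intro h0
  have h1 : algebraMap R F (D₀ a₀) = 0 := by
    show algebraMap R F (D₁ a₀) = 0
    rw [h0, map_zero]
  rw [hD₀, hδa, mul_one] at h1
  exact hc0 (hinjR (h1.trans (map_zero _).symm))

end DLfg

end Groth.Agent.Lib.Helper49.J2
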