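import Mathlib
import Groth.Prelude.Def_CAlgX
import Groth.Agent.Lib.Helper49.JacAdic2
set_option autoImplicit false
set_option linter.style.haveILetI false
set_option linter.unusedSectionVars false
universe u
namespace Groth.Agent.Lib.Helper49.JacAdic
open TensorProduct IsLocalRing KaehlerDifferential

section F2m

variable {C C' : Type u} [CommRing C] [CommRing C'] [Algebra C C'] [Module.Flat C C']
  {M N Q : Type u} [AddCommGroup M] [Module C M] [AddCommGroup N] [Module C N]
  [AddCommGroup Q] [Module C Q]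

theorem injective_baseChange_iff (d : M →ₗ[C] N) :
    Function.Injective (d.baseChange C') ↔ Subsingleton (C' ⊗[C] LinearMap.ker d) := by
  have hex : Function.Exact ((LinearMap.ker d).subtype.lTensor C') (d.lTensor C') :=
    Module.Flat.lTensor_exact C' (LinearMap.exact_subtype_ker_map d)
  have hinj : Function.Injective ((LinearMap.ker d).subtype.lTensor C') :=
    Module.Flat.lTensor_preserves_injective_linearMap _ (Submodule.injective_subtype _)
  have hcoe : (d.baseChange C' : C' ⊗[C] M → C' ⊗[C] N) = d.lTensor C' := rfl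
  rw [hcoe]
  constructor
  · intro h
    refine ⟨fun x y => hinj (h ?_)⟩
    rw [hex.apply_apply_eq_zero, hex.apply_apply_eq_zero]
  · intro h
    rw [injective_iff_map_eq_zero]
    intro x hx
    obtain ⟨y, rfl⟩ := (hex x).mp hx
    rw [Subsingleton.elim y 0, map_zero]

theorem split_baseChange_iff (d : M →ₗ[C] N) (g : N →ₗ[C] Q)
    (hex : Function.Exact d g) (hg : Function.Surjective g) [Module.Projective C N] :
    (Module.Projective C' (C' ⊗[C] Q) ∧ Subsingleton (C' ⊗[C] LinearMap.ker d)) ↔
      ∃ l : C' ⊗[C] N →ₗ[C'] C' ⊗[C] M, l ∘ₗ d.baseChange C' = LinearMap.id := by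
  have hex' : Function.Exact (d.baseChange C') (g.baseChange C') :=
    lTensor_exact C' hex hg
  have hg' : Function.Surjective (g.baseChange C') := LinearMap.lTensor_surjective C' hg
  rw [← injective_baseChange_iff]
  have htfae := (hex'.split_tfae'.out 0 1 rfl rfl)
  constructor
  · rintro ⟨hproj, hinj⟩
    obtain ⟨s, hs⟩ := Module.projective_lifting_property (g.baseChange C') LinearMap.id hg'
    exact (htfae.mp ⟨hinj, s, hs⟩).2
  · rintro ⟨l, hl⟩
    obtain ⟨hinj, s, hs⟩ := htfae.mpr ⟨hg', l, hl⟩
    exact ⟨Module.Projective.of_split s (g.baseChange C') hs, hinj⟩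

end F2m

section F2

variable {A C C' : Type u} [CommRing A] [CommRing C] [CommRing C'] [Algebra A C] [Algebra C C']
  [Algebra A C'] [IsScalarTower A C C']

theorem formallySmooth_iff_split_baseChange (Mon : Submonoid C) [IsLocalization Mon C']
    (P : Algebra.Extension.{u} A C) [Algebra.FormallySmooth A P.Ring] :
    Algebra.FormallySmooth A C' ↔
      ∃ l : C' ⊗[C] P.CotangentSpace →ₗ[C'] C' ⊗[C] P.Cotangent,
        l ∘ₗ P.cotangentComplex.baseChange C' = LinearMap.id := by
  have hflat : Module.Flat C C' := IsLocalization.flat C' Mon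
  have het : Algebra.FormallyEtale C C' := .of_isLocalization Mon
  rw [Algebra.formallySmooth_iff,
    ← split_baseChange_iff P.cotangentComplex P.toKaehler P.exact_cotangentComplex_toKaehler
      P.toKaehler_surjective]
  have eΩ : C' ⊗[C] Ω[C⁄A] ≃ₗ[C'] Ω[C'⁄A] := tensorKaehlerEquivOfFormallyEtale A C C'
  have eH : C' ⊗[C] Algebra.H1Cotangent A C ≃ₗ[C'] Algebra.H1Cotangent A C' :=
    Algebra.tensorH1CotangentOfIsLocalization A C' Mon
  have eP : LinearMap.ker P.cotangentComplex ≃ₗ[C] Algebra.H1Cotangent A C :=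
    P.equivH1CotangentOfFormallySmooth
  have eK : C' ⊗[C] LinearMap.ker P.cotangentComplex ≃ₗ[C] C' ⊗[C] Algebra.H1Cotangent A C :=
    LinearEquiv.lTensor C' eP
  constructor
  · rintro ⟨h1, h2⟩
    exact ⟨Module.Projective.of_equiv eΩ.symm, (eK.toEquiv.trans eH.toEquiv).subsingleton_congr.mpr h2⟩
  · rintro ⟨h1, h2⟩
    exact ⟨Module.Projective.of_equiv eΩ, (eK.toEquiv.trans eH.toEquiv).subsingleton_congr.mp h2⟩

end F2

section F3

variable {C : Type u} [CommRing C] (p : Ideal C) [p.IsPrime]
  {M N : Type u} [AddCommGroup M] [Module C M] [AddCommGroup N] [Module C N]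

theorem injective_lTensor_residueField_iff (d : M →ₗ[C] N) :
    Function.Injective ((d.baseChange (Localization.AtPrime p)).lTensor p.ResidueField) ↔
      Function.Injective (d.lTensor p.ResidueField) := by
  let eM := AlgebraTensorModule.cancelBaseChange C (Localization.AtPrime p) p.ResidueField
    p.ResidueField M
  let eN := AlgebraTensorModule.cancelBaseChange C (Localization.AtPrime p) p.ResidueField
    p.ResidueField N
  have hnat : ∀ x, eN ((d.baseChange (Localization.AtPrime p)).lTensor p.ResidueField x) =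
      d.lTensor p.ResidueField (eM x) := by
    intro x
    induction x using TensorProduct.induction_on with
    | zero => simp only [map_zero]
    | add x y hx hy => simp only [map_add, hx, hy]
    | tmul a y =>
      induction y using TensorProduct.induction_on with
      | zero => simp only [tmul_zero, map_zero]
      | add x y hx hy => simp only [tmul_add, map_add, hx, hy]
      | tmul c m =>
        rw [LinearMap.lTensor_tmul, LinearMap.baseChange_tmul]
        change (c • a) ⊗ₜ[C] d m = d.lTensor p.ResidueField ((c • a) ⊗ₜ[C] m)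
        rw [LinearMap.lTensor_tmul]
  constructor
  · intro h x y hxy
    apply eM.symm.injective
    apply h
    apply eN.injective
    rw [hnat, hnat, LinearEquiv.apply_symm_apply, LinearEquiv.apply_symm_apply, hxy]
  · intro h x y hxy
    apply eM.injective
    apply h
    rw [← hnat, ← hnat, hxy]

theorem split_baseChange_atPrime_iff [Module.Finite C M] [Module.Projective C N]
    (d : M →ₗ[C] N) :
    (∃ l : Localization.AtPrime p ⊗[C] N →ₗ[Localization.AtPrime p] Localization.AtPrime p ⊗[C] M,
        l ∘ₗ d.baseChange (Localization.AtPrime p) = LinearMap.id) ↔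
      Function.Injective (d.lTensor p.ResidueField) := by
  rw [← injective_lTensor_residueField_iff]
  constructor
  · rintro ⟨l, hl⟩
    have : l.lTensor p.ResidueField ∘ₗ
        (d.baseChange (Localization.AtPrime p)).lTensor p.ResidueField = .id := by
      rw [← LinearMap.lTensor_comp, hl, LinearMap.lTensor_id]
    exact Function.HasLeftInverse.injective ⟨_, LinearMap.congr_fun this⟩
  · intro h
    exact exists_retraction_of_injective_lTensor (d.baseChange (Localization.AtPrime p)) h

end F3

section FR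

variable {C : Type u} [CommRing C] {M N : Type u} [AddCommGroup M] [Module C M]
  [AddCommGroup N] [Module C N]

theorem exists_finset_supported' (F : Submodule C (N →₀ C)) (hF : F.FG) :
    ∃ T : Finset N, F ≤ Finsupp.supported C C (T : Set N) := by
  classical
  obtain ⟨G, rfl⟩ := hF
  refine ⟨G.biUnion (fun g => g.support), ?_⟩
  rw [Submodule.span_le]
  intro g hg
  rw [SetLike.mem_coe, Finsupp.mem_supported]
  intro x hx
  rw [Finset.mem_coe, Finset.mem_biUnion]
  exact ⟨g, hg, hx⟩

theorem exists_finite_reduction [Module.Finite C M] [Module.Projective C N] (d : M →ₗ[C] N) :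
    ∃ (T : Type u) (_ : Fintype T) (d₀ : M →ₗ[C] (T →₀ C)) (a : N →ₗ[C] (T →₀ C))
      (b : (T →₀ C) →ₗ[C] N), a ∘ₗ d = d₀ ∧ b ∘ₗ d₀ = d := by
  classical
  obtain ⟨i, hi⟩ := Module.projective_def'.mp (inferInstance : Module.Projective C N)
  have hrange : (LinearMap.range (i ∘ₗ d)).FG := by
    rw [LinearMap.range_eq_map]
    exact (Module.Finite.fg_top).map _
  obtain ⟨T, hT⟩ := exists_finset_supported' _ hrange
  let e : Finsupp.supported C C (T : Set N) ≃ₗ[C] ((T : Set N) →₀ C) :=
    Finsupp.supportedEquivFinsupp (M := C) (R := C) (T : Set N)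
  let d₀ : M →ₗ[C] ((T : Set N) →₀ C) :=
    e.toLinearMap ∘ₗ (i ∘ₗ d).codRestrict (Finsupp.supported C C (T : Set N))
      (fun x => hT (LinearMap.mem_range_self _ x))
  let j : ((T : Set N) →₀ C) →ₗ[C] (N →₀ C) :=
    (Finsupp.supported C C (T : Set N)).subtype ∘ₗ e.symm.toLinearMap
  have hcomp : j ∘ₗ d₀ = i ∘ₗ d := by
    refine LinearMap.ext fun x => ?_
    change ((e.symm (e _) : Finsupp.supported C C (T : Set N)) : N →₀ C) = _
    rw [LinearEquiv.symm_apply_apply]
    rfl
  let ρ : (N →₀ C) →ₗ[C] ((T : Set N) →₀ C) :=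
    e.toLinearMap ∘ₗ Finsupp.restrictDom C C (T : Set N)
  have hρj : ρ ∘ₗ j = LinearMap.id := by
    refine LinearMap.ext fun x => ?_
    have h5 := LinearMap.congr_fun (Finsupp.restrictDom_comp_subtype (M := C) (R := C)
      (T : Set N)) (e.symm x)
    rw [LinearMap.comp_apply, LinearMap.id_apply] at h5
    change e (Finsupp.restrictDom C C (T : Set N)
      ((Finsupp.supported C C (T : Set N)).subtype (e.symm x))) = x
    rw [h5, e.apply_symm_apply]
  refine ⟨(T : Set N), inferInstance, d₀, ρ ∘ₗ i, Finsupp.linearCombination C id ∘ₗ j, ?_, ?_⟩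
  · rw [LinearMap.comp_assoc, ← hcomp, ← LinearMap.comp_assoc, hρj, LinearMap.id_comp]
  · rw [LinearMap.comp_assoc, hcomp, ← LinearMap.comp_assoc, hi, LinearMap.id_comp]

end FR

section F4

variable {C C' : Type u} [CommRing C] [CommRing C'] [Algebra C C'] (S : Submonoid C)
  [IsLocalization S C'] {M N : Type u} [AddCommGroup M] [Module C M]
  [AddCommGroup N] [Module C N]

theorem exists_retraction_baseChange_of_smul (d : M →ₗ[C] N) (f : C) (hf : IsUnit (algebraMap C C' f))
    (l : N →ₗ[C] M) (hl : l ∘ₗ d = f • LinearMap.id) :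
    ∃ l' : C' ⊗[C] N →ₗ[C'] C' ⊗[C] M, l' ∘ₗ d.baseChange C' = LinearMap.id := by
  obtain ⟨u, hu⟩ := hf
  refine ⟨(↑u⁻¹ : C') • l.baseChange C', ?_⟩
  rw [LinearMap.smul_comp, ← LinearMap.baseChange_comp, hl]
  refine LinearMap.ext fun x => ?_
  induction x using TensorProduct.induction_on with
  | zero => simp only [map_zero]
  | add x y hx hy => simp only [map_add, hx, hy]
  | tmul c m =>
    rw [LinearMap.smul_apply, LinearMap.baseChange_tmul, LinearMap.smul_apply,
      LinearMap.id_apply, LinearMap.id_apply, TensorProduct.tmul_smul,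
      ← algebraMap_smul C' f (c ⊗ₜ[C] m), ← hu, smul_smul, Units.inv_mul, one_smul]

theorem exists_smul_retraction_of_baseChange [Module.Finite C M] [Module.Projective C N]
    (d : M →ₗ[C] N)
    (h : ∃ l' : C' ⊗[C] N →ₗ[C'] C' ⊗[C] M, l' ∘ₗ d.baseChange C' = LinearMap.id) :
    ∃ f ∈ S, ∃ l : N →ₗ[C] M, l ∘ₗ d = f • LinearMap.id := by
  classical
  obtain ⟨l', hl'⟩ := h
  obtain ⟨T, _, d₀, a, b, hab, hbd⟩ := exists_finite_reduction d
  let fM : M →ₗ[C] C' ⊗[C] M := TensorProduct.mk C C' M 1
  let fF : (T →₀ C) →ₗ[C] C' ⊗[C] (T →₀ C) := TensorProduct.mk C C' (T →₀ C) 1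
  let g : (T →₀ C) →ₗ[C] C' ⊗[C] M :=
    (l'.restrictScalars C) ∘ₗ ((b.baseChange C').restrictScalars C) ∘ₗ fF
  obtain ⟨h₀, s, hs⟩ := Module.FinitePresentation.exists_lift_of_isLocalizedModule S fM g
  have hg : g ∘ₗ d₀ = fM := by
    refine LinearMap.ext fun m => ?_
    change l' (b.baseChange C' ((1 : C') ⊗ₜ[C] d₀ m)) = (1 : C') ⊗ₜ[C] m
    rw [LinearMap.baseChange_tmul]
    have h1 : b (d₀ m) = d m := LinearMap.congr_fun hbd m
    rw [h1, ← LinearMap.baseChange_tmul]
    exact LinearMap.congr_fun hl' _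
  have h2 : fM ∘ₗ (h₀ ∘ₗ d₀) = fM ∘ₗ ((s : C) • LinearMap.id) := by
    rw [← LinearMap.comp_assoc, hs, LinearMap.smul_comp, hg, LinearMap.comp_smul,
      LinearMap.comp_id]
    rfl
  obtain ⟨s', hs'⟩ := Module.Finite.exists_smul_of_comp_eq_of_isLocalizedModule S fM _ _ h2
  refine ⟨(s' : C) * (s : C), S.mul_mem s'.2 s.2, ((s' : C) • h₀) ∘ₗ a, ?_⟩
  rw [LinearMap.comp_assoc, hab, LinearMap.smul_comp, mul_smul]
  exact hs'

theorem split_baseChange_iff_exists_smul [Module.Finite C M] [Module.Projective C N]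
    (d : M →ₗ[C] N) :
    (∃ l' : C' ⊗[C] N →ₗ[C'] C' ⊗[C] M, l' ∘ₗ d.baseChange C' = LinearMap.id) ↔
      ∃ f ∈ S, ∃ l : N →ₗ[C] M, l ∘ₗ d = f • LinearMap.id := by
  constructor
  · exact exists_smul_retraction_of_baseChange S d
  · rintro ⟨f, hf, l, hl⟩
    exact exists_retraction_baseChange_of_smul d f (IsLocalization.map_units C' ⟨f, hf⟩) l hl

end F4

section CS

variable {B C : Type u} [CommRing B] [CommRing C] [Algebra B C]
  (κ : Type u) [AddCommGroup κ] [Module B κ] [Module C κ] [IsScalarTower B C κ]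
  {X Y : Type u} [AddCommGroup X] [Module B X] [Module C X] [IsScalarTower B C X]
  [AddCommGroup Y] [Module B Y] [Module C Y] [IsScalarTower B C Y]

theorem injective_lTensor_iff_of_surjective (hsurj : Function.Surjective (algebraMap B C))
    (dB : X →ₗ[B] Y) (dC : X →ₗ[C] Y) (h : ∀ x, dB x = dC x) :
    Function.Injective (dB.lTensor κ) ↔ Function.Injective (dC.lTensor κ) := by
  have hX : TensorProduct.CompatibleSMul B C κ X := ⟨fun c m n => by
    obtain ⟨b, rfl⟩ := hsurj c
    rw [algebraMap_smul, algebraMap_smul, TensorProduct.smul_tmul]⟩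
  have hY : TensorProduct.CompatibleSMul B C κ Y := ⟨fun c m n => by
    obtain ⟨b, rfl⟩ := hsurj c
    rw [algebraMap_smul, algebraMap_smul, TensorProduct.smul_tmul]⟩
  let eX : κ ⊗[C] X ≃ₗ[B] κ ⊗[B] X := TensorProduct.equivOfCompatibleSMul B C B κ X
  let eY : κ ⊗[C] Y ≃ₗ[B] κ ⊗[B] Y := TensorProduct.equivOfCompatibleSMul B C B κ Y
  have hnat : ∀ z, eY (dC.lTensor κ z) = dB.lTensor κ (eX z) := by
    intro z
    induction z using TensorProduct.induction_on with
    | zero => simp only [map_zero]
    | add x y hx hy => simp only [map_add, hx, hy]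
    | tmul a x =>
      rw [LinearMap.lTensor_tmul]
      change a ⊗ₜ[B] dC x = dB.lTensor κ (a ⊗ₜ[B] x)
      rw [LinearMap.lTensor_tmul, h]
  constructor
  · intro hi x y hxy
    apply eX.injective
    apply hi
    rw [← hnat, ← hnat, hxy]
  · intro hi x y hxy
    apply eX.symm.injective
    apply hi
    apply eY.injective
    rw [hnat, hnat, LinearEquiv.apply_symm_apply, LinearEquiv.apply_symm_apply, hxy]

end CS

end Groth.Agent.Lib.Helper49.JacAdic
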