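import Mathlib
import Groth.Prelude.Def_CAlgX
import Groth.Agent.Lib.Helper49.JacAdic3
set_option autoImplicit false
set_option linter.style.haveILetI false
set_option linter.unusedSectionVars false
universe u
namespace Groth.Agent.Lib.Helper49.JacAdic
open TensorProduct IsLocalRing KaehlerDifferential

section Master

variable {A B C : Type u} [CommRing A] [CommRing B] [CommRing C] [Algebra A B] [Algebra B C]
  [Algebra A C] [IsScalarTower A B C]

noncomputable abbrev extOf (hsurj : Function.Surjective (algebraMap B C)) :
    Algebra.Extension.{u} A C :=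
  { Ring := B, σ := Function.surjInv hsurj, algebraMap_σ := Function.surjInv_eq hsurj }

theorem finite_cotangent_extOf (hsurj : Function.Surjective (algebraMap B C))
    [Module.Finite B (RingHom.ker (algebraMap B C)).Cotangent] :
    Module.Finite C (extOf (A := A) hsurj).Cotangent := by
  have h1 : Module.Finite (extOf (A := A) hsurj).Ring (extOf (A := A) hsurj).ker.Cotangent :=
    ‹Module.Finite B (RingHom.ker (algebraMap B C)).Cotangent›
  have h2 : Module.Finite (extOf (A := A) hsurj).Ring (extOf (A := A) hsurj).Cotangent :=
    Module.Finite.equiv (extOf (A := A) hsurj).cotangentEquivCotangentKer.symm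
  exact Module.Finite.of_restrictScalars_finite (extOf (A := A) hsurj).Ring _ _

theorem formallySmooth_localization_iff [Algebra.FormallySmooth A B]
    (hsurj : Function.Surjective (algebraMap B C))
    [Module.Finite B (RingHom.ker (algebraMap B C)).Cotangent]
    (S : Submonoid C) (C' : Type u) [CommRing C'] [Algebra C C'] [Algebra A C']
    [IsScalarTower A C C'] [IsLocalization S C'] :
    Algebra.FormallySmooth A C' ↔
      ∃ f ∈ S, ∃ l : (extOf (A := A) hsurj).CotangentSpace →ₗ[C] (extOf (A := A) hsurj).Cotangent,
        l ∘ₗ (extOf (A := A) hsurj).cotangentComplex = f • LinearMap.id := by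
  have hfs : Algebra.FormallySmooth A (extOf (A := A) hsurj).Ring := ‹Algebra.FormallySmooth A B›
  have hfin := finite_cotangent_extOf (A := A) hsurj
  rw [formallySmooth_iff_split_baseChange S (extOf (A := A) hsurj),
    split_baseChange_iff_exists_smul S]

theorem formallySmooth_atPrime_iff [Algebra.FormallySmooth A B]
    (hsurj : Function.Surjective (algebraMap B C))
    [Module.Finite B (RingHom.ker (algebraMap B C)).Cotangent]
    (p : Ideal C) [p.IsPrime] :
    Algebra.FormallySmooth A (Localization.AtPrime p) ↔
      Function.Injective ((kerCotangentToTensor A B C).lTensor p.ResidueField) := by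
  have hfs : Algebra.FormallySmooth A (extOf (A := A) hsurj).Ring := ‹Algebra.FormallySmooth A B›
  have hfin := finite_cotangent_extOf (A := A) hsurj
  rw [formallySmooth_iff_split_baseChange p.primeCompl (extOf (A := A) hsurj),
    split_baseChange_atPrime_iff]
  let e : (extOf (A := A) hsurj).Cotangent ≃ₗ[B] (RingHom.ker (algebraMap B C)).Cotangent :=
    (extOf (A := A) hsurj).cotangentEquivCotangentKer
  let dB' : (extOf (A := A) hsurj).Cotangent →ₗ[B] C ⊗[B] Ω[B⁄A] :=
    kerCotangentToTensor A B C ∘ₗ e.toLinearMap
  have hst : IsScalarTower B C (C ⊗[B] Ω[B⁄A]) := by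
    refine IsScalarTower.of_algebraMap_smul fun b x => ?_
    induction x using TensorProduct.induction_on with
    | zero => rw [smul_zero, smul_zero]
    | add x y hx hy => rw [smul_add, smul_add, hx, hy]
    | tmul c w => rw [TensorProduct.smul_tmul', TensorProduct.smul_tmul', algebraMap_smul]
  have h1 : Function.Injective ((extOf (A := A) hsurj).cotangentComplex.lTensor p.ResidueField) ↔
      Function.Injective (dB'.lTensor p.ResidueField) :=
    (injective_lTensor_iff_of_surjective p.ResidueField hsurj dB'
      (extOf (A := A) hsurj).cotangentComplex (fun x => rfl)).symm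
  rw [h1]
  have h2 : dB'.lTensor p.ResidueField =
      (kerCotangentToTensor A B C).lTensor p.ResidueField ∘ₗ
        (e.lTensor p.ResidueField).toLinearMap := by
    rw [LinearMap.lTensor_comp]
    rfl
  rw [h2, LinearMap.coe_comp, LinearEquiv.coe_coe]
  exact (e.lTensor p.ResidueField).injective_comp _ |>.symm |> Iff.symm

end Master

end Groth.Agent.Lib.Helper49.JacAdic
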