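import Mathlib
import Groth.Prelude.Def_CAlgX
import Groth.Agent.Lib.Helper49.JacAdic4
set_option autoImplicit false
set_option linter.style.haveILetI false
set_option linter.unusedSectionVars false
universe u
namespace Groth.Agent.Lib.Helper49.JacZar
open TensorProduct IsLocalRing KaehlerDifferential

section LemT

variable {R : Type u} [CommRing R] (K : Type u) [Field K] [Algebra R K]
  {P : Type u} [AddCommGroup P] [Module R P]

theorem exists_functional_ne_zero [Module.Projective R P] (w : K ⊗[R] P) (hw : w ≠ 0) :
    ∃ φ : P →ₗ[R] R, (TensorProduct.rid R K) ((φ.lTensor K) w) ≠ 0 := by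
  classical
  obtain ⟨i, hi⟩ := Module.projective_def'.mp (inferInstance : Module.Projective R P)
  have hinj : Function.Injective (i.lTensor K) := by
    have : (Finsupp.linearCombination R id).lTensor K ∘ₗ i.lTensor K = LinearMap.id := by
      rw [← LinearMap.lTensor_comp, hi, LinearMap.lTensor_id]
    exact Function.HasLeftInverse.injective ⟨_, LinearMap.congr_fun this⟩
  have h1 : i.lTensor K w ≠ 0 := fun h => hw (hinj (h.trans (map_zero _).symm))
  have h2 : TensorProduct.finsuppScalarRight R R K P (i.lTensor K w) ≠ 0 := by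
    intro h
    exact h1 ((TensorProduct.finsuppScalarRight R R K P).injective (h.trans (map_zero _).symm))
  obtain ⟨ω, hω⟩ := Finsupp.ne_iff.mp h2
  refine ⟨Finsupp.lapply ω ∘ₗ i, ?_⟩
  have key : ∀ z : K ⊗[R] (P →₀ R), TensorProduct.rid R K ((Finsupp.lapply ω).lTensor K z) =
      TensorProduct.finsuppScalarRight R R K P z ω := by
    intro z
    induction z using TensorProduct.induction_on with
    | zero => simp only [map_zero, Finsupp.coe_zero, Pi.zero_apply]
    | add x y hx hy => simp only [map_add, hx, hy, Finsupp.coe_add, Pi.add_apply]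
    | tmul a f =>
      rw [LinearMap.lTensor_tmul, TensorProduct.rid_tmul,
        TensorProduct.finsuppScalarRight_apply_tmul_apply, Finsupp.lapply_apply]
  rw [LinearMap.lTensor_comp, LinearMap.comp_apply, key]
  exact hω

end LemT

section LemN

variable {R : Type u} [CommRing R] (q : Ideal R) [q.IsPrime] (K : Type u) [Field K] [Algebra R K]
  {M : Type u} [AddCommGroup M] [Module R M]

theorem exists_smul_eq_zero_of_subsingleton_tensor [Module.Finite R M]
    (hq : ∀ s : R, algebraMap R K s = 0 ↔ s ∈ q)
    (h : Subsingleton (K ⊗[R] M)) (x : M) : ∃ t : R, t ∉ q ∧ t • x = 0 := by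
  have hf₁ : q ≤ RingHom.ker (algebraMap R K) := fun s hs => (hq s).mpr hs
  have hf₂ : q.primeCompl ≤ (IsUnit.submonoid K).comap (algebraMap R K) := by
    intro s hs
    change IsUnit (algebraMap R K s)
    rw [isUnit_iff_ne_zero]
    exact fun h0 => hs ((hq s).mp h0)
  let g : q.ResidueField →+* K := Ideal.ResidueField.lift q (algebraMap R K) hf₁ hf₂
  letI : Algebra q.ResidueField K := g.toAlgebra
  have htower : IsScalarTower R q.ResidueField K := by
    refine IsScalarTower.of_algebraMap_eq fun r => ?_
    exact (Ideal.ResidueField.lift_algebraMap q (algebraMap R K) hf₁ hf₂ r).symm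
  have e := (AlgebraTensorModule.cancelBaseChange R q.ResidueField K K M)
  have h1 : Subsingleton (K ⊗[q.ResidueField] (q.ResidueField ⊗[R] M)) :=
    e.toEquiv.subsingleton_congr.mpr h
  have h2 : Subsingleton (q.ResidueField ⊗[R] M) :=
    (Module.FaithfullyFlat.subsingleton_tensorProduct_iff_right q.ResidueField K).mp h1
  have h3 : (⟨q, inferInstance⟩ : PrimeSpectrum R) ∉ Module.support R M := by
    rw [Module.mem_support_iff_nontrivial_residueField_tensorProduct]
    exact not_nontrivial_iff_subsingleton.mpr h2
  obtain ⟨t, ht, htx⟩ := Module.notMem_support_iff'.mp h3 x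
  exact ⟨t, ht, htx⟩

end LemN

section Setup

variable {A B C : Type u} [CommRing A] [CommRing B] [CommRing C] [Algebra A B] [Algebra B C]
  [Algebra A C] [IsScalarTower A B C] (p : Ideal C) [p.IsPrime] (q : Ideal B)

theorem algebraMap_residueField_eq_zero_iff (hq : q = p.comap (algebraMap B C)) (s : B) :
    algebraMap B p.ResidueField s = 0 ↔ s ∈ q := by
  rw [IsScalarTower.algebraMap_apply B C p.ResidueField, Ideal.algebraMap_residueField_eq_zero, hq,
    Ideal.mem_comap]

theorem exists_fraction (hsurj : Function.Surjective (algebraMap B C))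
    (hq : q = p.comap (algebraMap B C)) (a : p.ResidueField) :
    ∃ b s : B, s ∉ q ∧ a * algebraMap B p.ResidueField s = algebraMap B p.ResidueField b := by
  obtain ⟨y, rfl⟩ := IsLocalRing.residue_surjective (R := Localization.AtPrime p) a
  obtain ⟨c, t, rfl⟩ := IsLocalization.exists_mk'_eq p.primeCompl y
  obtain ⟨b, rfl⟩ := hsurj c
  obtain ⟨s, hs⟩ := hsurj t
  refine ⟨b, s, ?_, ?_⟩
  · rw [hq, Ideal.mem_comap, hs]
    exact t.2
  · rw [IsScalarTower.algebraMap_apply B C p.ResidueField,
      IsScalarTower.algebraMap_apply B C p.ResidueField, hs,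
      IsScalarTower.algebraMap_apply C (Localization.AtPrime p) p.ResidueField,
      IsScalarTower.algebraMap_apply C (Localization.AtPrime p) p.ResidueField]
    change IsLocalRing.residue _ _ * IsLocalRing.residue _ _ = IsLocalRing.residue _ _
    rw [← map_mul, IsLocalization.mk'_spec]

noncomputable def ellAux (D' : Derivation A B B) : C ⊗[B] Ω[B⁄A] →ₗ[B] p.ResidueField :=
  ((Algebra.linearMap B p.ResidueField ∘ₗ D'.liftKaehlerDifferential).liftBaseChange C).restrictScalars B

noncomputable def ell (D' : Derivation A B B) :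
    p.ResidueField ⊗[B] (C ⊗[B] Ω[B⁄A]) →ₗ[p.ResidueField] p.ResidueField :=
  (ellAux p D').liftBaseChange p.ResidueField

theorem ell_apply (D' : Derivation A B B) (a : p.ResidueField) (x : RingHom.ker (algebraMap B C)) :
    ell p D' ((kerCotangentToTensor A B C).lTensor p.ResidueField
      (a ⊗ₜ[B] (RingHom.ker (algebraMap B C)).toCotangent x)) =
      a * algebraMap B p.ResidueField (D' x) := by
  rw [LinearMap.lTensor_tmul, kerCotangentToTensor_toCotangent]
  change a • ((1 : C) • algebraMap B p.ResidueField (D'.liftKaehlerDifferential (D A B x))) = _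
  rw [one_smul, Derivation.liftKaehlerDifferential_comp_D, smul_eq_mul]

theorem exists_sum_tmul [q.IsPrime] (hq : q = p.comap (algebraMap B C)) {m : ℕ} (f : Fin m → B)
    (hf : ∀ i, f i ∈ RingHom.ker (algebraMap B C))
    (hgen : (RingHom.ker (algebraMap B C)).map (algebraMap B (Localization.AtPrime q)) =
      Ideal.span (Set.range fun i => algebraMap B (Localization.AtPrime q) (f i)))
    (z : p.ResidueField ⊗[B] (RingHom.ker (algebraMap B C)).Cotangent) :
    ∃ a : Fin m → p.ResidueField,
      z = ∑ i, a i ⊗ₜ[B] (RingHom.ker (algebraMap B C)).toCotangent ⟨f i, hf i⟩ := by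
  classical
  induction z using TensorProduct.induction_on with
  | zero => exact ⟨0, by simp only [Pi.zero_apply, zero_tmul, Finset.sum_const_zero]⟩
  | add z₁ z₂ h₁ h₂ =>
    obtain ⟨a₁, e₁⟩ := h₁
    obtain ⟨a₂, e₂⟩ := h₂
    refine ⟨a₁ + a₂, ?_⟩
    simp only [Pi.add_apply, add_tmul, Finset.sum_add_distrib]
    rw [← e₁, ← e₂]
  | tmul a₀ y =>
    obtain ⟨x, rfl⟩ := Ideal.toCotangent_surjective _ y
    have hx : algebraMap B (Localization.AtPrime q) x.1 ∈
        (RingHom.ker (algebraMap B C)).map (algebraMap B (Localization.AtPrime q)) :=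
      Ideal.mem_map_of_mem _ x.2
    rw [hgen, Ideal.mem_span_range_iff_exists_fun] at hx
    obtain ⟨c, hc⟩ := hx
    obtain ⟨s, hs⟩ := IsLocalization.exist_integer_multiples q.primeCompl Finset.univ c
    choose b hb using fun i => hs i (Finset.mem_univ i)
    have h1 : algebraMap B (Localization.AtPrime q) ((s : B) * x.1) =
        algebraMap B (Localization.AtPrime q) (∑ i, b i * f i) := by
      rw [map_mul, ← hc, Finset.mul_sum, map_sum]
      refine Finset.sum_congr rfl fun i _ => ?_
      rw [map_mul, hb i, Algebra.smul_def, mul_assoc]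
    obtain ⟨t, ht⟩ := (IsLocalization.eq_iff_exists q.primeCompl _).mp h1
    have hts : ((t : B) * (s : B)) ∉ q := fun hmem =>
      (Ideal.IsPrime.mem_or_mem inferInstance hmem).elim t.2 s.2
    set u := algebraMap B p.ResidueField ((t : B) * (s : B)) with hu
    have hu0 : u ≠ 0 := fun h0 => hts ((algebraMap_residueField_eq_zero_iff p q hq _).mp h0)
    have hxe : ((t : B) * (s : B)) • x =
        ∑ i, ((t : B) * b i) • (⟨f i, hf i⟩ : RingHom.ker (algebraMap B C)) := by
      apply Subtype.ext
      rw [Submodule.coe_smul, Submodule.coe_sum, smul_eq_mul, mul_assoc, ht, Finset.mul_sum]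
      refine Finset.sum_congr rfl fun i _ => ?_
      rw [Submodule.coe_smul, smul_eq_mul, mul_assoc]
    refine ⟨fun i => algebraMap B p.ResidueField ((t : B) * b i) * (a₀ * u⁻¹), ?_⟩
    have h2 : a₀ = ((t : B) * (s : B)) • (a₀ * u⁻¹) := by
      rw [Algebra.smul_def, ← hu, mul_comm a₀, ← mul_assoc, mul_inv_cancel₀ hu0, one_mul]
    conv_lhs => rw [h2]
    rw [TensorProduct.smul_tmul, ← map_smul, hxe, map_sum, TensorProduct.tmul_sum]
    refine Finset.sum_congr rfl fun i _ => ?_
    rw [map_smul, ← TensorProduct.smul_tmul, Algebra.smul_def]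

theorem injective_of_exists [q.IsPrime] (hq : q = p.comap (algebraMap B C)) {m : ℕ} (f : Fin m → B)
    (hf : ∀ i, f i ∈ RingHom.ker (algebraMap B C))
    (hgen : (RingHom.ker (algebraMap B C)).map (algebraMap B (Localization.AtPrime q)) =
      Ideal.span (Set.range fun i => algebraMap B (Localization.AtPrime q) (f i)))
    (D : Fin m → Derivation A B B)
    (hdet : Matrix.det (Matrix.of fun i j => D j (f i)) ∉ q) :
    Function.Injective ((kerCotangentToTensor A B C).lTensor p.ResidueField) := by
  rw [injective_iff_map_eq_zero]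
  intro z hz
  obtain ⟨a, rfl⟩ := exists_sum_tmul p q hq f hf hgen z
  have h1 : ∀ j, ∑ i, a i * algebraMap B p.ResidueField (D j (f i)) = 0 := by
    intro j
    have h2 := congrArg (ell p (D j)) hz
    rw [map_sum, map_sum, map_zero] at h2
    rw [← h2]
    refine Finset.sum_congr rfl fun i _ => ?_
    exact (ell_apply p (D j) (a i) ⟨f i, hf i⟩).symm
  let N : Matrix (Fin m) (Fin m) p.ResidueField :=
    (algebraMap B p.ResidueField).mapMatrix (Matrix.of fun i j => D j (f i))
  have hN : N.det ≠ 0 := by
    rw [← RingHom.map_det]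
    exact fun h0 => hdet ((algebraMap_residueField_eq_zero_iff p q hq _).mp h0)
  have h3 : Matrix.vecMul a N = 0 := by
    funext j
    exact h1 j
  have ha : a = 0 := Matrix.eq_zero_of_vecMul_eq_zero hN h3
  rw [ha]
  simp only [Pi.zero_apply, zero_tmul, Finset.sum_const_zero]

end Setup

section Setup

variable {A B C : Type u} [CommRing A] [CommRing B] [CommRing C] [Algebra A B] [Algebra B C]
  [Algebra A C] [IsScalarTower A B C] (p : Ideal C) [p.IsPrime] (q : Ideal B)

theorem exists_basis_tmul [IsNoetherianRing B] :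
    ∃ (m : ℕ) (f : Fin m → B) (hf : ∀ i, f i ∈ RingHom.ker (algebraMap B C))
      (bas : Module.Basis (Fin m) p.ResidueField
        (p.ResidueField ⊗[B] (RingHom.ker (algebraMap B C)).Cotangent)),
      ∀ i, bas i = (1 : p.ResidueField) ⊗ₜ[B]
        (RingHom.ker (algebraMap B C)).toCotangent ⟨f i, hf i⟩ := by
  classical
  have hfinI : Module.Finite B (RingHom.ker (algebraMap B C)) :=
    Module.Finite.of_fg (IsNoetherian.noetherian _)
  have hfinC : Module.Finite B (RingHom.ker (algebraMap B C)).Cotangent :=
    Module.Finite.of_surjective _ (Ideal.toCotangent_surjective _)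
  have hfinV : Module.Finite p.ResidueField
      (p.ResidueField ⊗[B] (RingHom.ker (algebraMap B C)).Cotangent) :=
    Module.Finite.base_change B p.ResidueField _
  let t : Set (p.ResidueField ⊗[B] (RingHom.ker (algebraMap B C)).Cotangent) :=
    Set.range (fun x : RingHom.ker (algebraMap B C) =>
      (1 : p.ResidueField) ⊗ₜ[B] (RingHom.ker (algebraMap B C)).toCotangent x)
  have ht : Submodule.span p.ResidueField t = ⊤ := by
    rw [eq_top_iff]
    intro z hz
    clear hz
    induction z using TensorProduct.induction_on with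
    | zero => exact Submodule.zero_mem _
    | add x y hx hy => exact Submodule.add_mem _ hx hy
    | tmul a y =>
      obtain ⟨x, rfl⟩ := Ideal.toCotangent_surjective _ y
      have h1 : a ⊗ₜ[B] (RingHom.ker (algebraMap B C)).toCotangent x =
          a • ((1 : p.ResidueField) ⊗ₜ[B] (RingHom.ker (algebraMap B C)).toCotangent x) := by
        rw [TensorProduct.smul_tmul', smul_eq_mul, mul_one]
      rw [h1]
      exact Submodule.smul_mem _ _ (Submodule.subset_span ⟨x, rfl⟩)
  obtain ⟨b, hbt, hspan, hli⟩ := exists_linearIndependent p.ResidueField t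
  have hb_top : ⊤ ≤ Submodule.span p.ResidueField (Set.range (Subtype.val : b → _)) := by
    rw [Subtype.range_coe, hspan, ht]
  let bas₀ := Module.Basis.mk hli hb_top
  have hfinb : Finite b := Module.Finite.finite_basis bas₀
  let e : b ≃ Fin (Nat.card b) := Finite.equivFin b
  let bas := bas₀.reindex e
  have hbas : ∀ i, ∃ x : RingHom.ker (algebraMap B C), bas i =
      (1 : p.ResidueField) ⊗ₜ[B] (RingHom.ker (algebraMap B C)).toCotangent x := by
    intro i
    have h1 : bas i = ((e.symm i : b) : _) := by
      rw [Module.Basis.reindex_apply, Module.Basis.mk_apply]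
    obtain ⟨x, hx⟩ := hbt (e.symm i).2
    exact ⟨x, h1.trans hx.symm⟩
  choose x hx using hbas
  exact ⟨Nat.card b, fun i => (x i).1, fun i => (x i).2, bas, hx⟩

end Setup

end Groth.Agent.Lib.Helper49.JacZar
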