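import Mathlib
import Groth.Prelude.Def_CAlgX
import Groth.Agent.Lib.Helper49.JacZar1
set_option autoImplicit false
set_option linter.style.haveILetI false
set_option linter.unusedSectionVars false
universe u
namespace Groth.Agent.Lib.Helper49.JacZar
open TensorProduct IsLocalRing KaehlerDifferential

section Setup

variable {A B C : Type u} [CommRing A] [CommRing B] [CommRing C] [Algebra A B] [Algebra B C]
  [Algebra A C] [IsScalarTower A B C] (p : Ideal C) [p.IsPrime] (q : Ideal B)

theorem exists_mul_sub_mem_sq [IsNoetherianRing B] [q.IsPrime]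
    (hq : q = p.comap (algebraMap B C)) {m : ℕ} (f : Fin m → B)
    (hf : ∀ i, f i ∈ RingHom.ker (algebraMap B C))
    (bas : Module.Basis (Fin m) p.ResidueField
      (p.ResidueField ⊗[B] (RingHom.ker (algebraMap B C)).Cotangent))
    (hbas : ∀ i, bas i = (1 : p.ResidueField) ⊗ₜ[B]
      (RingHom.ker (algebraMap B C)).toCotangent ⟨f i, hf i⟩)
    (x : B) (hx : x ∈ RingHom.ker (algebraMap B C)) :
    ∃ t : B, t ∉ q ∧ ∃ b : Fin m → B,
      t * x - ∑ i, b i * f i ∈ (RingHom.ker (algebraMap B C)) ^ 2 := by
  classical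
  have hfinI : Module.Finite B (RingHom.ker (algebraMap B C)) :=
    Module.Finite.of_fg (IsNoetherian.noetherian _)
  have hfinC : Module.Finite B (RingHom.ker (algebraMap B C)).Cotangent :=
    Module.Finite.of_surjective _ (Ideal.toCotangent_surjective _)
  let F : Submodule B (RingHom.ker (algebraMap B C)).Cotangent :=
    Submodule.span B (Set.range fun i =>
      (RingHom.ker (algebraMap B C)).toCotangent ⟨f i, hf i⟩)
  have hsub : Subsingleton (p.ResidueField ⊗[B] ((RingHom.ker (algebraMap B C)).Cotangent ⧸ F)) := by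
    refine ⟨fun w₁ w₂ => ?_⟩
    have key : ∀ w : p.ResidueField ⊗[B] ((RingHom.ker (algebraMap B C)).Cotangent ⧸ F),
        w = 0 := by
      intro w
      obtain ⟨z, rfl⟩ := LinearMap.lTensor_surjective p.ResidueField
        (Submodule.mkQ_surjective F) w
      rw [← bas.sum_repr z, map_sum]
      refine Finset.sum_eq_zero fun i _ => ?_
      rw [hbas i, TensorProduct.smul_tmul', LinearMap.lTensor_tmul, Submodule.mkQ_apply,
        (Submodule.Quotient.mk_eq_zero F).mpr (Submodule.subset_span ⟨i, rfl⟩), tmul_zero]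
    rw [key w₁, key w₂]
  obtain ⟨t, ht, htx⟩ := exists_smul_eq_zero_of_subsingleton_tensor q p.ResidueField
    (algebraMap_residueField_eq_zero_iff p q hq) hsub
    (F.mkQ ((RingHom.ker (algebraMap B C)).toCotangent ⟨x, hx⟩))
  refine ⟨t, ht, ?_⟩
  rw [← map_smul, Submodule.mkQ_apply, Submodule.Quotient.mk_eq_zero,
    Submodule.mem_span_range_iff_exists_fun] at htx
  obtain ⟨b, hb⟩ := htx
  refine ⟨b, ?_⟩
  have h1 : (RingHom.ker (algebraMap B C)).toCotangent
      (t • (⟨x, hx⟩ : RingHom.ker (algebraMap B C)) -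
        ∑ i, b i • (⟨f i, hf i⟩ : RingHom.ker (algebraMap B C))) = 0 := by
    rw [map_sub, map_smul, map_sum, ← hb, sub_eq_zero]
    refine (Finset.sum_congr rfl fun i _ => ?_).symm
    rw [map_smul]
  rw [Ideal.toCotangent_eq_zero] at h1
  convert h1 using 1
  rw [Submodule.coe_sub, Submodule.coe_smul, Submodule.coe_sum, smul_eq_mul]
  congr 1

theorem map_eq_span_of_basis [IsNoetherianRing B] [q.IsPrime]
    (hq : q = p.comap (algebraMap B C)) {m : ℕ} (f : Fin m → B)
    (hf : ∀ i, f i ∈ RingHom.ker (algebraMap B C))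
    (bas : Module.Basis (Fin m) p.ResidueField
      (p.ResidueField ⊗[B] (RingHom.ker (algebraMap B C)).Cotangent))
    (hbas : ∀ i, bas i = (1 : p.ResidueField) ⊗ₜ[B]
      (RingHom.ker (algebraMap B C)).toCotangent ⟨f i, hf i⟩) :
    (RingHom.ker (algebraMap B C)).map (algebraMap B (Localization.AtPrime q)) =
      Ideal.span (Set.range fun i => algebraMap B (Localization.AtPrime q) (f i)) := by
  classical
  have hIq : RingHom.ker (algebraMap B C) ≤ q := by
    intro x hx
    rw [hq, Ideal.mem_comap, (RingHom.mem_ker).mp hx]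
    exact Ideal.zero_mem _
  have hNoeth : IsNoetherianRing (Localization.AtPrime q) :=
    IsLocalization.isNoetherianRing q.primeCompl _ inferInstance
  refine le_antisymm ?_ ?_
  · have hJm : (RingHom.ker (algebraMap B C)).map (algebraMap B (Localization.AtPrime q)) ≤
        maximalIdeal (Localization.AtPrime q) := by
      rw [← Localization.AtPrime.map_eq_maximalIdeal]
      exact Ideal.map_mono hIq
    refine Submodule.le_of_le_smul_of_le_jacobson_bot (IsNoetherian.noetherian _)
      (maximalIdeal_le_jacobson ⊥) ?_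
    rw [Ideal.map, Ideal.span_le]
    rintro _ ⟨x, hx, rfl⟩
    obtain ⟨t, ht, b, hb⟩ := exists_mul_sub_mem_sq p q hq f hf bas hbas x hx
    have hunit : IsUnit (algebraMap B (Localization.AtPrime q) t) :=
      IsLocalization.map_units _ (⟨t, ht⟩ : q.primeCompl)
    obtain ⟨u, hu⟩ := hunit
    have h1 : algebraMap B (Localization.AtPrime q) x =
        (↑u⁻¹ : Localization.AtPrime q) * (algebraMap B (Localization.AtPrime q)
          (∑ i, b i * f i) + algebraMap B (Localization.AtPrime q)
          (t * x - ∑ i, b i * f i)) := by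
      rw [← map_add, add_sub_cancel, map_mul, ← hu, ← mul_assoc, Units.inv_mul, one_mul]
    rw [SetLike.mem_coe, h1]
    refine Ideal.mul_mem_left _ _ (Submodule.add_mem _ (Submodule.mem_sup_left ?_)
      (Submodule.mem_sup_right ?_))
    · rw [map_sum]
      refine Ideal.sum_mem _ fun i _ => ?_
      rw [map_mul]
      exact Ideal.mul_mem_left _ _ (Ideal.subset_span ⟨i, rfl⟩)
    · have h2 : algebraMap B (Localization.AtPrime q) (t * x - ∑ i, b i * f i) ∈
          ((RingHom.ker (algebraMap B C)) ^ 2).map (algebraMap B (Localization.AtPrime q)) :=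
        Ideal.mem_map_of_mem _ hb
      rw [Ideal.map_pow, pow_two] at h2
      rw [smul_eq_mul]
      exact Ideal.mul_mono_left hJm h2
  · rw [Ideal.span_le]
    rintro _ ⟨i, rfl⟩
    exact Ideal.mem_map_of_mem _ (hf i)

end Setup

section Setup

variable {A B C : Type u} [CommRing A] [CommRing B] [CommRing C] [Algebra A B] [Algebra B C]
  [Algebra A C] [IsScalarTower A B C] (p : Ideal C) [p.IsPrime] (q : Ideal B)

noncomputable def gam : p.ResidueField ⊗[B] (C ⊗[B] Ω[B⁄A]) →ₗ[B] p.ResidueField ⊗[B] Ω[B⁄A] :=
  ((Algebra.TensorProduct.productMap (AlgHom.id B p.ResidueField)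
      (IsScalarTower.toAlgHom B C p.ResidueField)).toLinearMap.rTensor Ω[B⁄A]) ∘ₗ
    (TensorProduct.assoc B p.ResidueField C Ω[B⁄A]).symm.toLinearMap

theorem gam_tmul (a : p.ResidueField) (c : C) (ω : Ω[B⁄A]) :
    gam (A := A) (B := B) p (a ⊗ₜ[B] (c ⊗ₜ[B] ω)) = (a * algebraMap C p.ResidueField c) ⊗ₜ[B] ω := by
  rfl

theorem gam_injective (hsurj : Function.Surjective (algebraMap B C)) :
    Function.Injective (gam (A := A) (B := B) p) := by
  let δ : p.ResidueField ⊗[B] Ω[B⁄A] →ₗ[B] p.ResidueField ⊗[B] (C ⊗[B] Ω[B⁄A]) :=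
    (TensorProduct.mk B C Ω[B⁄A] 1).lTensor p.ResidueField
  have h : ∀ u, δ (gam (A := A) (B := B) p u) = u := by
    intro u
    induction u using TensorProduct.induction_on with
    | zero => simp only [map_zero]
    | add x y hx hy => simp only [map_add, hx, hy]
    | tmul a y =>
      induction y using TensorProduct.induction_on with
      | zero => simp only [tmul_zero, map_zero]
      | add x y hx hy => simp only [tmul_add, map_add, hx, hy]
      | tmul c ω =>
        obtain ⟨b, rfl⟩ := hsurj c
        rw [gam_tmul]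
        change (a * algebraMap C p.ResidueField (algebraMap B C b)) ⊗ₜ[B] ((1 : C) ⊗ₜ[B] ω) = _
        rw [← IsScalarTower.algebraMap_apply B C p.ResidueField, mul_comm, ← Algebra.smul_def,
          TensorProduct.smul_tmul, TensorProduct.smul_tmul', Algebra.algebraMap_eq_smul_one]
  exact Function.LeftInverse.injective h

theorem ell_eq (φ : Ω[B⁄A] →ₗ[B] B) (u : p.ResidueField ⊗[B] (C ⊗[B] Ω[B⁄A])) :
    ell p (φ.compDer (D A B)) u =
      TensorProduct.rid B p.ResidueField ((φ.lTensor p.ResidueField) (gam (A := A) (B := B) p u)) := by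
  have hlift : (φ.compDer (D A B)).liftKaehlerDifferential = φ :=
    Derivation.liftKaehlerDifferential_unique _ _ (Derivation.liftKaehlerDifferential_comp _)
  induction u using TensorProduct.induction_on with
  | zero => simp only [map_zero]
  | add x y hx hy => simp only [map_add, hx, hy]
  | tmul a y =>
    induction y using TensorProduct.induction_on with
    | zero => simp only [tmul_zero, map_zero]
    | add x y hx hy => simp only [tmul_add, map_add, hx, hy]
    | tmul c ω =>
      rw [gam_tmul, LinearMap.lTensor_tmul, TensorProduct.rid_tmul]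
      change a • (c • algebraMap B p.ResidueField
        ((φ.compDer (D A B)).liftKaehlerDifferential ω)) = _
      rw [hlift, Algebra.smul_def (φ ω), smul_eq_mul, Algebra.smul_def]
      ring

theorem exists_derivation_ell_ne_zero [Algebra.FormallySmooth A B]
    (hsurj : Function.Surjective (algebraMap B C))
    (u : p.ResidueField ⊗[B] (C ⊗[B] Ω[B⁄A])) (hu : u ≠ 0) :
    ∃ D' : Derivation A B B, ell p D' u ≠ 0 := by
  have h1 : gam (A := A) (B := B) p u ≠ 0 := fun h0 =>
    hu (gam_injective p hsurj (h0.trans (map_zero _).symm))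
  obtain ⟨φ, hφ⟩ := exists_functional_ne_zero p.ResidueField (gam (A := A) (B := B) p u) h1
  exact ⟨φ.compDer (D A B), by rw [ell_eq]; exact hφ⟩

theorem eq_top_of_total {K V : Type u} [Field K] [AddCommGroup V] [Module K V]
    [FiniteDimensional K V] (W : Subspace K (Module.Dual K V))
    (h : ∀ z : V, z ≠ 0 → ∃ ε ∈ W, ε z ≠ 0) : W = ⊤ := by
  have h1 : W.dualCoannihilator = ⊥ := by
    rw [eq_bot_iff]
    intro z hz
    rw [Submodule.mem_bot]
    by_contra hne
    obtain ⟨ε, hε, hz'⟩ := h z hne
    exact hz' ((Submodule.mem_dualCoannihilator _).mp hz ε hε)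
  rw [← Subspace.dualCoannihilator_dualAnnihilator_eq (W := W), h1,
    Submodule.dualAnnihilator_bot]

theorem exists_derivations [Algebra.FormallySmooth A B] [q.IsPrime]
    (hsurj : Function.Surjective (algebraMap B C)) (hq : q = p.comap (algebraMap B C))
    (hinj : Function.Injective ((kerCotangentToTensor A B C).lTensor p.ResidueField))
    {m : ℕ} (f : Fin m → B) (hf : ∀ i, f i ∈ RingHom.ker (algebraMap B C))
    (bas : Module.Basis (Fin m) p.ResidueField
      (p.ResidueField ⊗[B] (RingHom.ker (algebraMap B C)).Cotangent))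
    (hbas : ∀ i, bas i = (1 : p.ResidueField) ⊗ₜ[B]
      (RingHom.ker (algebraMap B C)).toCotangent ⟨f i, hf i⟩) :
    ∃ D : Fin m → Derivation A B B, Matrix.det (Matrix.of fun i j => D j (f i)) ∉ q := by
  classical
  have hfd : FiniteDimensional p.ResidueField
      (p.ResidueField ⊗[B] (RingHom.ker (algebraMap B C)).Cotangent) :=
    Module.Finite.of_basis bas
  have h0iff := algebraMap_residueField_eq_zero_iff p q hq
  let W : Subspace p.ResidueField (Module.Dual p.ResidueField
      (p.ResidueField ⊗[B] (RingHom.ker (algebraMap B C)).Cotangent)) :=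
    { carrier := {ε | ∃ s : B, s ∉ q ∧ ∃ D' : Derivation A B B,
        ∀ i, algebraMap B p.ResidueField s * ε (bas i) = algebraMap B p.ResidueField (D' (f i))}
      zero_mem' := by
        refine ⟨1, ?_, 0, fun i => ?_⟩
        · exact fun h1 => (Ideal.IsPrime.ne_top inferInstance) ((Ideal.eq_top_iff_one q).mpr h1)
        · rw [LinearMap.zero_apply, mul_zero, Derivation.zero_apply, map_zero]
      add_mem' := by
        rintro ε₁ ε₂ ⟨s₁, hs₁, D₁, h₁⟩ ⟨s₂, hs₂, D₂, h₂⟩
        refine ⟨s₁ * s₂, fun hmem => (Ideal.IsPrime.mem_or_mem inferInstance hmem).elim hs₁ hs₂,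
          s₂ • D₁ + s₁ • D₂, fun i => ?_⟩
        rw [LinearMap.add_apply, Derivation.add_apply, Derivation.smul_apply,
          Derivation.smul_apply, smul_eq_mul, smul_eq_mul, map_add, map_mul, map_mul, map_mul,
          ← h₁ i, ← h₂ i]
        ring
      smul_mem' := by
        rintro a ε ⟨s, hs, D', h⟩
        obtain ⟨b, t, ht, hab⟩ := exists_fraction p q hsurj hq a
        refine ⟨t * s, fun hmem => (Ideal.IsPrime.mem_or_mem inferInstance hmem).elim ht hs,
          b • D', fun i => ?_⟩
        rw [LinearMap.smul_apply, Derivation.smul_apply, smul_eq_mul, smul_eq_mul, map_mul,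
          map_mul, ← h i, ← hab]
        ring }
  have hW : W = ⊤ := by
    refine eq_top_of_total W fun z hz => ?_
    have h1 : (kerCotangentToTensor A B C).lTensor p.ResidueField z ≠ 0 := fun h0 =>
      hz (hinj (h0.trans (map_zero _).symm))
    obtain ⟨D', hD'⟩ := exists_derivation_ell_ne_zero p hsurj _ h1
    refine ⟨ell p D' ∘ₗ (kerCotangentToTensor A B C).baseChange p.ResidueField, ?_, hD'⟩
    refine ⟨1, fun h1 => (Ideal.IsPrime.ne_top inferInstance) ((Ideal.eq_top_iff_one q).mpr h1),
      D', fun i => ?_⟩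
    rw [map_one, one_mul, hbas i]
    exact (ell_apply p D' 1 ⟨f i, hf i⟩).trans (one_mul _)
  have hmem : ∀ j, bas.coord j ∈ W := fun j => hW ▸ Submodule.mem_top
  choose s hs D hD using hmem
  refine ⟨D, fun hdet => ?_⟩
  let N : Matrix (Fin m) (Fin m) p.ResidueField :=
    (algebraMap B p.ResidueField).mapMatrix (Matrix.of fun i j => D j (f i))
  have hN : N = Matrix.diagonal (fun j => algebraMap B p.ResidueField (s j)) := by
    ext i j
    change algebraMap B p.ResidueField (D j (f i)) = _
    rw [← hD j i, Module.Basis.coord_apply, Module.Basis.repr_self, Finsupp.single_apply,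
      Matrix.diagonal_apply]
    by_cases hij : i = j
    · rw [if_pos hij, if_pos hij, mul_one, hij]
    · rw [if_neg hij, if_neg hij, mul_zero]
  have hdetN : N.det = 0 := by
    rw [← RingHom.map_det]
    exact (h0iff _).mpr hdet
  rw [hN, Matrix.det_diagonal, Finset.prod_eq_zero_iff] at hdetN
  obtain ⟨j, _, hj⟩ := hdetN
  exact hs j ((h0iff _).mp hj)

end Setup

section Main

variable {A B C : Type u} [CommRing A] [CommRing B] [CommRing C] [Algebra A B] [Algebra B C]
  [Algebra A C] [IsScalarTower A B C] (p : Ideal C) [p.IsPrime] (q : Ideal B)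

theorem injective_iff_exists [Algebra.FormallySmooth A B] [IsNoetherianRing B] [q.IsPrime]
    (hsurj : Function.Surjective (algebraMap B C)) (hq : q = p.comap (algebraMap B C)) :
    Function.Injective ((kerCotangentToTensor A B C).lTensor p.ResidueField) ↔
      ∃ (m : ℕ) (f : Fin m → B) (D : Fin m → Derivation A B B),
        (∀ i, f i ∈ RingHom.ker (algebraMap B C)) ∧
        (RingHom.ker (algebraMap B C)).map (algebraMap B (Localization.AtPrime q)) =
          Ideal.span (Set.range fun i => algebraMap B (Localization.AtPrime q) (f i)) ∧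
        Matrix.det (Matrix.of fun i j => D j (f i)) ∉ q := by
  constructor
  · intro hinj
    obtain ⟨m, f, hf, bas, hbas⟩ := exists_basis_tmul (B := B) (C := C) p
    obtain ⟨D, hD⟩ := exists_derivations (A := A) p q hsurj hq hinj f hf bas hbas
    exact ⟨m, f, D, hf, map_eq_span_of_basis p q hq f hf bas hbas, hD⟩
  · rintro ⟨m, f, D, hf, hgen, hdet⟩
    exact injective_of_exists p q hq f hf hgen D hdet

end Main

end Groth.Agent.Lib.Helper49.JacZar
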