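import Mathlib
import Groth.Agent.Lib.Helper73.DimFT.Catenary
set_option autoImplicit false
universe u
open TensorProduct

namespace Groth.Agent.Lib.Helper49.MovDK

theorem exists_ne_zero_mem_ker {k : Type u} [Field k] {r : ℕ} (R : Type u) [CommRing R] [Algebra k R] [Algebra.FiniteType k R] (hdim : ringKrullDim R < (r : WithBot ℕ∞)) (φ : MvPolynomial (Fin r) k →ₐ[k] R) : ∃ h : MvPolynomial (Fin r) k, h ≠ 0 ∧ φ h = 0 := by
  by_contra hcon
  push Not at hcon
  have hinj : Function.Injective φ := by
    rw [injective_iff_map_eq_zero]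
    intro x hx
    by_contra hne
    exact hcon x hne hx
  haveI : IsNoetherianRing R := Algebra.FiniteType.isNoetherianRing k R
  have hcomap : (nilradical R).comap φ.toRingHom = ⊥ := by
    rw [eq_bot_iff]
    intro x hx
    obtain ⟨n, hn⟩ := hx
    have : φ (x ^ n) = 0 := by rw [map_pow]; exact hn
    have h0 : x ^ n = 0 := hinj (by rw [this, map_zero])
    exact pow_eq_zero_iff (n := n) (by
      rintro rfl
      simp at h0) |>.mp h0
  have hfin : (minimalPrimes R).Finite := minimalPrimes.finite_of_isNoetherianRing R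
  have hnil : nilradical R = hfin.toFinset.inf id := by
    rw [nilradical, ← Ideal.sInf_minimalPrimes]
    simp [Finset.inf_id_eq_sInf]
  have hbot : (⊥ : Ideal (MvPolynomial (Fin r) k)).IsPrime := Ideal.isPrime_bot
  have : hfin.toFinset.inf (fun q => q.comap φ.toRingHom) ≤ ⊥ := by
    rw [← hcomap, hnil]
    intro x hx
    simp only [Ideal.mem_comap, Submodule.mem_finsetInf, id] at hx ⊢
    exact hx
  obtain ⟨q, hq, hqle⟩ := (Ideal.IsPrime.inf_le' hbot).mp this
  have hqmin : q ∈ minimalPrimes R := hfin.mem_toFinset.mp hq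
  haveI : q.IsPrime := hqmin.1.1
  have hker : ∀ x, Ideal.Quotient.mk q (φ x) = 0 → x = 0 := by
    intro x hx
    rw [Ideal.Quotient.eq_zero_iff_mem] at hx
    have : x ∈ q.comap φ.toRingHom := hx
    have := hqle this
    simpa using this
  haveI : Algebra.FiniteType k (R ⧸ q) :=
    Algebra.FiniteType.of_surjective (Ideal.Quotient.mkₐ k q) (Ideal.Quotient.mkₐ_surjective k q)
  obtain ⟨d, hd⟩ := Groth.Agent.Lib.Helper73.exists_nat_ringKrullDim_eq k (R ⧸ q)
  have htr := Groth.Agent.Lib.Helper73.trdeg_eq_of_ringKrullDim_eq k (A := R ⧸ q)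
    (FractionRing (R ⧸ q)) d hd
  let ψ : MvPolynomial (Fin r) k →ₐ[k] FractionRing (R ⧸ q) :=
    (IsScalarTower.toAlgHom k (R ⧸ q) (FractionRing (R ⧸ q))).comp
      ((Ideal.Quotient.mkₐ k q).comp φ)
  have hψinj : Function.Injective ψ := by
    rw [injective_iff_map_eq_zero]
    intro x hx
    apply hker
    have : algebraMap (R ⧸ q) (FractionRing (R ⧸ q)) (Ideal.Quotient.mk q (φ x)) = 0 := hx
    exact (IsFractionRing.injective (R ⧸ q) (FractionRing (R ⧸ q))) (by rw [this, map_zero])
  have hai : AlgebraicIndependent k (fun i : Fin r => ψ (MvPolynomial.X i)) := by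
    rw [AlgebraicIndependent]
    have : (MvPolynomial.aeval fun i : Fin r => ψ (MvPolynomial.X i)) = ψ := by
      apply MvPolynomial.algHom_ext
      intro i
      simp
    rw [this]
    exact hψinj
  have hle := hai.lift_cardinalMk_le_trdeg
  rw [htr] at hle
  have hrd : r ≤ d := by
    simpa using hle
  have h1 : ringKrullDim (R ⧸ q) ≤ ringKrullDim R := ringKrullDim_quotient_le q
  rw [hd] at h1
  have h2 : ((r : ℕ) : WithBot ℕ∞) ≤ (d : WithBot ℕ∞) := by exact_mod_cast hrd
  exact absurd (lt_of_le_of_lt (h2.trans h1) hdim) (lt_irrefl _)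

end Groth.Agent.Lib.Helper49.MovDK
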