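import Mathlib
import Groth.Agent.S0544
set_option autoImplicit false
set_option linter.style.haveILetI false
set_option linter.unusedSectionVars false
universe u
namespace Groth.Agent.Lib.Helper49.OmegaHat
open IsLocalRing TensorProduct

theorem eq_zero_of_projective_of_nilpotent {R : Type*} [CommRing R] (I : Ideal R) (j : ℕ)
    (hI : I ^ j = ⊥) {P : Type*} [AddCommGroup P] [Module R P] [Module.Projective R P] {r : ℕ}
    (v : Fin r → P) (hspan : Submodule.span R (Set.range v) = ⊤)
    (h : ∀ c : Fin r → R, ∑ i, c i • v i = 0 → ∀ i, c i ∈ I) :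
    ∀ c : Fin r → R, ∑ i, c i • v i = 0 → c = 0 := by
  classical
  let φ : (Fin r → R) →ₗ[R] P := Fintype.linearCombination R v
  have hφ : ∀ c, φ c = ∑ i, c i • v i := fun c => Fintype.linearCombination_apply R v c
  have hsurj : Function.Surjective φ := by
    rw [← LinearMap.range_eq_top, Fintype.range_linearCombination, hspan]
  obtain ⟨s, hs⟩ := Module.projective_lifting_property φ LinearMap.id hsurj
  have hs' : ∀ x, φ (s x) = x := fun x => LinearMap.congr_fun hs x
  let e : (Fin r → R) →ₗ[R] (Fin r → R) := LinearMap.id - s ∘ₗ φ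
  have he : ∀ y, φ (e y) = 0 := by
    intro y
    show φ (y - s (φ y)) = 0
    rw [map_sub, hs', sub_self]
  have heI : ∀ y t, e y t ∈ I := fun y t => h (e y) (by rw [← hφ, he]) t
  have hfix : ∀ c, φ c = 0 → e c = c := by
    intro c hc
    show c - s (φ c) = c
    rw [hc, map_zero, sub_zero]
  have key : ∀ n : ℕ, ∀ c, φ c = 0 → ∀ t, c t ∈ I ^ n := by
    intro n
    induction n with
    | zero =>
      intro c _ t
      rw [pow_zero, Ideal.one_eq_top]
      trivial
    | succ n ih =>
      intro c hc t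
      have h1 : c = ∑ l, c l • (Pi.single l (1 : R) : Fin r → R) := by
        ext t'
        rw [Finset.sum_apply]
        simp only [Pi.smul_apply, Pi.single_apply, smul_eq_mul, mul_ite, mul_one, mul_zero,
          Finset.sum_ite_eq, Finset.mem_univ, if_true]
      have h2 : c t = ∑ l, c l * e (Pi.single l (1 : R)) t := by
        conv_lhs => rw [← hfix c hc, h1, map_sum]
        rw [Finset.sum_apply]
        refine Finset.sum_congr rfl fun l _ => ?_
        rw [map_smul, Pi.smul_apply, smul_eq_mul]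
      rw [h2, pow_succ]
      exact Ideal.sum_mem _ fun l _ => Ideal.mul_mem_mul (ih c hc l) (heI _ t)
  intro c hc
  ext t
  have := key j c (by rw [hφ, hc]) t
  rw [hI] at this
  exact this

theorem sup_pow_smul_top {A : Type*} [CommRing A] (I : Ideal A) {M : Type*} [AddCommGroup M]
    [Module A M] (S : Submodule A M) (h : S ⊔ I • ⊤ = ⊤) (j : ℕ) :
    S ⊔ (I ^ j • ⊤ : Submodule A M) = ⊤ := by
  induction j with
  | zero =>
    rw [pow_zero, Ideal.one_eq_top, Submodule.top_smul, sup_top_eq]
  | succ j ih =>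
    have h2 : (I ^ j • ⊤ : Submodule A M) ≤ S ⊔ (I ^ (j + 1) • ⊤ : Submodule A M) := by
      calc (I ^ j • ⊤ : Submodule A M) = I ^ j • (S ⊔ I • ⊤) := by rw [h]
        _ = I ^ j • S ⊔ I ^ (j + 1) • ⊤ := by
          rw [Submodule.smul_sup, ← Submodule.mul_smul, ← pow_succ]
        _ ≤ S ⊔ (I ^ (j + 1) • ⊤ : Submodule A M) := sup_le_sup Submodule.smul_le_right le_rfl
    rw [eq_top_iff]
    calc (⊤ : Submodule A M) = S ⊔ (I ^ j • ⊤ : Submodule A M) := ih.symm
      _ ≤ S ⊔ (I ^ (j + 1) • ⊤ : Submodule A M) := sup_le le_sup_left h2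

theorem one_tmul_eq_zero_of_mem {A : Type*} [CommRing A] (I : Ideal A) {M : Type*}
    [AddCommGroup M] [Module A M] {x : M} (hx : x ∈ (I • ⊤ : Submodule A M)) :
    (1 : A ⧸ I) ⊗ₜ[A] x = 0 := by
  have h1 : x ∈ LinearMap.ker (TensorProduct.mk A (A ⧸ I) M 1) := by
    rw [LinearMap.ker_tensorProductMk]
    exact hx
  exact h1

theorem mem_of_one_tmul_eq_zero {A : Type*} [CommRing A] (I : Ideal A) {M : Type*}
    [AddCommGroup M] [Module A M] {x : M} (hx : (1 : A ⧸ I) ⊗ₜ[A] x = 0) :
    x ∈ (I • ⊤ : Submodule A M) := by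
  rw [← LinearMap.ker_tensorProductMk]
  exact hx

end Groth.Agent.Lib.Helper49.OmegaHat
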