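import Mathlib
import Groth.Agent.Lib.Helper49.OmegaHat1
set_option autoImplicit false
set_option linter.style.haveILetI false
set_option linter.unusedSectionVars false
universe u
namespace Groth.Agent.Lib.Helper49.OmegaHat
open IsLocalRing TensorProduct

variable {A : Type u} [CommRing A] [IsLocalRing A] {M : Type u} [AddCommGroup M] [Module A M]

theorem one_tmul_smul_res (a : A) (x : M) :
    (1 : ResidueField A) ⊗ₜ[A] (a • x) = residue A a • ((1 : ResidueField A) ⊗ₜ[A] x) := by
  rw [TensorProduct.tmul_smul, ← algebraMap_smul (ResidueField A) a]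
  rfl

theorem exists_coeff {r : ℕ} (ω : Fin r → M)
    (b : Module.Basis (Fin r) (ResidueField A) (ResidueField A ⊗[A] M))
    (hb : ∀ i, b i = (1 : ResidueField A) ⊗ₜ[A] ω i) (x : M) :
    ∃ c : Fin r → A, x - ∑ i, c i • ω i ∈ (maximalIdeal A • ⊤ : Submodule A M) := by
  have h1 := b.sum_repr ((1 : ResidueField A) ⊗ₜ[A] x)
  choose c hc using fun i => residue_surjective (b.repr ((1 : ResidueField A) ⊗ₜ[A] x) i)
  refine ⟨c, ?_⟩
  apply mem_of_one_tmul_eq_zero (maximalIdeal A)
  show (1 : ResidueField A) ⊗ₜ[A] (x - ∑ i, c i • ω i) = 0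
  rw [TensorProduct.tmul_sub, TensorProduct.tmul_sum, sub_eq_zero]
  conv_lhs => rw [← h1]
  refine Finset.sum_congr rfl fun i _ => ?_
  rw [one_tmul_smul_res, hc i, hb i]

theorem coeff_mem_pow (j : ℕ) (hj : 1 ≤ j)
    [Module.Projective (A ⧸ maximalIdeal A ^ j) ((A ⧸ maximalIdeal A ^ j) ⊗[A] M)]
    {r : ℕ} (ω : Fin r → M)
    (b : Module.Basis (Fin r) (ResidueField A) (ResidueField A ⊗[A] M))
    (hb : ∀ i, b i = (1 : ResidueField A) ⊗ₜ[A] ω i)
    (c : Fin r → A) (hc : ∑ i, c i • ω i ∈ (maximalIdeal A ^ j • ⊤ : Submodule A M)) :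
    ∀ i, c i ∈ maximalIdeal A ^ j := by
  classical
  let I : Ideal (A ⧸ maximalIdeal A ^ j) :=
    (maximalIdeal A).map (Ideal.Quotient.mk (maximalIdeal A ^ j))
  have hI : I ^ j = ⊥ := by
    show ((maximalIdeal A).map (Ideal.Quotient.mk (maximalIdeal A ^ j))) ^ j = ⊥
    rw [← Ideal.map_pow, Ideal.map_quotient_self]
  let v : Fin r → (A ⧸ maximalIdeal A ^ j) ⊗[A] M := fun i => (1 : A ⧸ maximalIdeal A ^ j) ⊗ₜ[A] ω i
  have hle : maximalIdeal A ^ j ≤ maximalIdeal A := Ideal.pow_le_self (by omega)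
  let fac : (A ⧸ maximalIdeal A ^ j) →ₗ[A] ResidueField A :=
    (Ideal.Quotient.factorₐ A hle).toLinearMap
  have hfac : ∀ a : A, fac (Ideal.Quotient.mk _ a) = residue A a := fun a => rfl
  let θ : (A ⧸ maximalIdeal A ^ j) ⊗[A] M →ₗ[A] ResidueField A ⊗[A] M := fac.rTensor M
  have hsmul : ∀ (a : A) (x : M), (Ideal.Quotient.mk (maximalIdeal A ^ j) a) •
      ((1 : A ⧸ maximalIdeal A ^ j) ⊗ₜ[A] x) = (1 : A ⧸ maximalIdeal A ^ j) ⊗ₜ[A] (a • x) := by
    intro a x
    rw [TensorProduct.smul_tmul', smul_eq_mul, mul_one, TensorProduct.tmul_smul,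
      TensorProduct.smul_tmul', Algebra.smul_def, mul_one]
    rfl
  have hspanM : Submodule.span A (Set.range ω) ⊔ (maximalIdeal A • ⊤ : Submodule A M) = ⊤ := by
    rw [eq_top_iff]
    intro x _
    obtain ⟨c', hc'⟩ := exists_coeff ω b hb x
    have h1 : x = ∑ i, c' i • ω i + (x - ∑ i, c' i • ω i) := by abel
    rw [h1]
    exact Submodule.add_mem_sup (Submodule.sum_mem _ fun i _ =>
      Submodule.smul_mem _ _ (Submodule.subset_span ⟨i, rfl⟩)) hc'
  have hspanj := sup_pow_smul_top (maximalIdeal A) _ hspanM j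
  have hone : ∀ x : M, (1 : A ⧸ maximalIdeal A ^ j) ⊗ₜ[A] x ∈
      Submodule.span (A ⧸ maximalIdeal A ^ j) (Set.range v) := by
    intro x
    have hx : x ∈ Submodule.span A (Set.range ω) ⊔
        (maximalIdeal A ^ j • ⊤ : Submodule A M) := by
      rw [hspanj]
      trivial
    obtain ⟨s, hs, t, ht, rfl⟩ := Submodule.mem_sup.mp hx
    rw [TensorProduct.tmul_add, one_tmul_eq_zero_of_mem _ ht, add_zero]
    clear hx
    induction hs using Submodule.span_induction with
    | mem y hy =>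
      obtain ⟨i, rfl⟩ := hy
      exact Submodule.subset_span ⟨i, rfl⟩
    | zero =>
      rw [TensorProduct.tmul_zero]
      exact Submodule.zero_mem _
    | add x y _ _ hx hy =>
      rw [TensorProduct.tmul_add]
      exact Submodule.add_mem _ hx hy
    | smul a x _ hx =>
      rw [← hsmul]
      exact Submodule.smul_mem _ _ hx
  have hspan : Submodule.span (A ⧸ maximalIdeal A ^ j) (Set.range v) = ⊤ := by
    rw [eq_top_iff]
    rintro w -
    induction w using TensorProduct.induction_on with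
    | zero => exact Submodule.zero_mem _
    | tmul q x =>
      have h1 : q ⊗ₜ[A] x = q • ((1 : A ⧸ maximalIdeal A ^ j) ⊗ₜ[A] x) := by
        rw [TensorProduct.smul_tmul', smul_eq_mul, mul_one]
      rw [h1]
      exact Submodule.smul_mem _ _ (hone x)
    | add x y hx hy => exact Submodule.add_mem _ hx hy
  have hθ : ∀ (q : A ⧸ maximalIdeal A ^ j) (i : Fin r), θ (q • v i) = fac q • b i := by
    intro q i
    show θ (q • ((1 : A ⧸ maximalIdeal A ^ j) ⊗ₜ[A] ω i)) = _
    rw [TensorProduct.smul_tmul', smul_eq_mul, mul_one]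
    show (fac q) ⊗ₜ[A] ω i = _
    rw [hb i, TensorProduct.smul_tmul', smul_eq_mul, mul_one]
  have hcoord : ∀ c' : Fin r → A ⧸ maximalIdeal A ^ j, ∑ i, c' i • v i = 0 → ∀ i, c' i ∈ I := by
    intro c' hc' i
    have h1 : ∑ i, fac (c' i) • b i = 0 := by
      have := congrArg θ hc'
      rw [map_sum, map_zero] at this
      rw [← this]
      exact Finset.sum_congr rfl fun i _ => (hθ _ i).symm
    have h2 := Fintype.linearIndependent_iff.mp b.linearIndependent _ h1 i
    obtain ⟨a, ha⟩ := Ideal.Quotient.mk_surjective (c' i)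
    rw [← ha, hfac] at h2
    rw [← ha]
    exact Ideal.mem_map_of_mem _ ((residue_eq_zero_iff a).mp h2)
  have hmain := eq_zero_of_projective_of_nilpotent I j hI v hspan hcoord
    (fun i => Ideal.Quotient.mk (maximalIdeal A ^ j) (c i)) (by
      have h1 : ∑ i, (Ideal.Quotient.mk (maximalIdeal A ^ j) (c i)) • v i =
          (1 : A ⧸ maximalIdeal A ^ j) ⊗ₜ[A] (∑ i, c i • ω i) := by
        rw [TensorProduct.tmul_sum]
        exact Finset.sum_congr rfl fun i _ => hsmul _ _
      rw [h1]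
      exact one_tmul_eq_zero_of_mem _ hc)
  intro i
  have := congrFun hmain i
  exact Ideal.Quotient.eq_zero_iff_mem.mp this

end Groth.Agent.Lib.Helper49.OmegaHat
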