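import Mathlib
import Groth.Agent.Lib.Helper49.OmegaHat2
set_option autoImplicit false
set_option linter.style.haveILetI false
set_option linter.unusedSectionVars false
universe u
namespace Groth.Agent.Lib.Helper49.OmegaHat
open IsLocalRing TensorProduct

theorem exists_equiv {A : Type u} [CommRing A] [IsLocalRing A] [IsNoetherianRing A]
    [IsAdicComplete (maximalIdeal A) A] {M : Type u} [AddCommGroup M] [Module A M]
    (hproj : ∀ j : ℕ, 1 ≤ j →
      Module.Projective (A ⧸ maximalIdeal A ^ j) ((A ⧸ maximalIdeal A ^ j) ⊗[A] M))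
    {r : ℕ} (b : Module.Basis (Fin r) (ResidueField A) (ResidueField A ⊗[A] M)) :
    Nonempty ((Fin r → A) ≃ₗ[A] AdicCompletion (maximalIdeal A) M) := by
  classical
  choose ω hω using fun i =>
    TensorProduct.mk_surjective A M (ResidueField A) residue_surjective (b i)
  have hb : ∀ i, b i = (1 : ResidueField A) ⊗ₜ[A] ω i := fun i => (hω i).symm
  let Φ : (Fin r → A) →ₗ[A] AdicCompletion (maximalIdeal A) M :=
    Fintype.linearCombination A (fun i => AdicCompletion.of (maximalIdeal A) M (ω i))
  have hΦ : ∀ c, Φ c = AdicCompletion.of (maximalIdeal A) M (∑ i, c i • ω i) := by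
    intro c
    show Fintype.linearCombination A _ c = _
    rw [Fintype.linearCombination_apply, map_sum]
    exact Finset.sum_congr rfl fun i _ => (map_smul _ _ _).symm
  have hinj : Function.Injective Φ := by
    rw [injective_iff_map_eq_zero]
    intro c hc
    rw [hΦ] at hc
    have hmem : ∀ j, ∑ i, c i • ω i ∈ (maximalIdeal A ^ j • ⊤ : Submodule A M) := by
      intro j
      have h1 := congrArg (AdicCompletion.eval (maximalIdeal A) M j) hc
      rw [AdicCompletion.eval_of, map_zero] at h1
      exact (Submodule.Quotient.mk_eq_zero _).mp h1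
    ext i
    have h2 : ∀ j, c i ∈ maximalIdeal A ^ j := by
      intro j
      rcases Nat.eq_zero_or_pos j with rfl | hj
      · rw [pow_zero, Ideal.one_eq_top]
        trivial
      · haveI := hproj j hj
        exact coeff_mem_pow j hj ω b hb c (hmem j) i
    have h3 : c i ∈ (⨅ j, maximalIdeal A ^ j : Ideal A) := (Ideal.mem_iInf).mpr h2
    rw [Ideal.iInf_pow_eq_bot_of_isLocalRing _ (IsLocalRing.maximalIdeal.isMaximal A).ne_top] at h3
    exact h3
  have hsurj : Function.Surjective Φ := by
    haveI : IsPrecomplete (maximalIdeal A) (Fin r → A) :=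
      Groth.Agent.S0544.isPrecomplete_pi (maximalIdeal A)
    apply surjective_of_mkQ_comp_surjective (I := maximalIdeal A)
    intro y
    obtain ⟨y, rfl⟩ := Submodule.Quotient.mk_surjective _ y
    obtain ⟨z, hz⟩ := Submodule.Quotient.mk_surjective _
      (AdicCompletion.eval (maximalIdeal A) M 1 y)
    obtain ⟨c, hc⟩ := exists_coeff ω b hb z
    refine ⟨c, ?_⟩
    rw [LinearMap.comp_apply]
    show Submodule.Quotient.mk (Φ c) = Submodule.Quotient.mk y
    rw [Submodule.Quotient.eq]
    have hfg : (maximalIdeal A).FG := IsNoetherian.noetherian _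
    have hker := AdicCompletion.pow_smul_top_eq_ker_eval (I := maximalIdeal A) (M := M)
      (n := 1) hfg
    have hker' : (maximalIdeal A • ⊤ : Submodule A (AdicCompletion (maximalIdeal A) M)) =
        LinearMap.ker (AdicCompletion.eval (maximalIdeal A) M 1) := by
      rw [← hker, pow_one]
    rw [hker', LinearMap.mem_ker, map_sub, hΦ, AdicCompletion.eval_of, ← hz, sub_eq_zero]
    symm
    show Submodule.Quotient.mk z = Submodule.Quotient.mk (∑ i, c i • ω i)
    rw [Submodule.Quotient.eq, pow_one]
    exact hc
  exact ⟨LinearEquiv.ofBijective Φ ⟨hinj, hsurj⟩⟩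

end Groth.Agent.Lib.Helper49.OmegaHat
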