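import Mathlib
import Groth.Agent.Lib.Helper49.CoeffField
set_option autoImplicit false
set_option linter.style.haveILetI false
set_option linter.unusedSectionVars false
universe u
namespace Groth.Agent.Lib.Helper49.OmegaHat
open IsLocalRing TensorProduct

theorem finrank_comap_range_eq {K X Y Z : Type*} [Field K] [AddCommGroup X] [Module K X]
    [AddCommGroup Y] [Module K Y] [AddCommGroup Z] [Module K Z]
    (f : X →ₗ[K] Z) (g : Y →ₗ[K] Z) (hf : Function.Injective f) (hg : Function.Injective g) :
    Module.finrank K (Submodule.comap f (LinearMap.range g)) =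
      Module.finrank K (Submodule.comap g (LinearMap.range f)) := by
  have h1 := (Submodule.equivMapOfInjective f hf (Submodule.comap f (LinearMap.range g))).finrank_eq
  have h2 := (Submodule.equivMapOfInjective g hg (Submodule.comap g (LinearMap.range f))).finrank_eq
  rw [h1, h2, Submodule.map_comap_eq, Submodule.map_comap_eq, inf_comm]

theorem count {K C U V W O₁ O₂ : Type*} [Field K] [AddCommGroup C] [Module K C]
    [AddCommGroup U] [Module K U] [AddCommGroup V] [Module K V] [AddCommGroup W] [Module K W]
    [AddCommGroup O₁] [Module K O₁] [AddCommGroup O₂] [Module K O₂]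
    (α : U →ₗ[K] V) (β : V →ₗ[K] W) (γ : C →ₗ[K] V) (γ' : C →ₗ[K] W) (δ : V →ₗ[K] O₁)
    (δ' : W →ₗ[K] O₂) (hα : Function.Injective α) (hαβ : Function.Exact α β)
    (hγ : Function.Injective γ) (hγδ : Function.Exact γ δ) (hβγ : ∀ c, β (γ c) = γ' c)
    (hγδ' : Function.Exact γ' δ') (hδ' : Function.Surjective δ')
    [Module.Finite K C] [Module.Finite K O₂] :
    Module.Finite K W ∧
      Module.finrank K W + Module.finrank K (LinearMap.ker (δ ∘ₗ α)) =
        Module.finrank K C + Module.finrank K O₂ := by
  have hk1 : LinearMap.ker γ' = Submodule.comap γ (LinearMap.range α) := by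
    ext c
    rw [LinearMap.mem_ker, Submodule.mem_comap, ← hβγ, LinearMap.mem_range]
    exact hαβ (γ c)
  have hk2 : LinearMap.ker (δ ∘ₗ α) = Submodule.comap α (LinearMap.range γ) := by
    ext u
    rw [LinearMap.mem_ker, Submodule.mem_comap, LinearMap.comp_apply, LinearMap.mem_range]
    exact hγδ (α u)
  have h3 : Module.finrank K (LinearMap.ker γ') = Module.finrank K (LinearMap.ker (δ ∘ₗ α)) := by
    rw [hk1, hk2]
    exact finrank_comap_range_eq γ α hγ hα
  have h4 := LinearMap.finrank_range_add_finrank_ker γ'
  have hker : LinearMap.ker δ' = LinearMap.range γ' := by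
    ext w
    rw [LinearMap.mem_ker, LinearMap.mem_range]
    exact hγδ' w
  haveI : Module.Finite K (LinearMap.ker δ') := by
    rw [hker]
    exact Module.Finite.range γ'
  haveI : Module.Finite K (W ⧸ LinearMap.ker δ') :=
    Module.Finite.equiv (δ'.quotKerEquivOfSurjective hδ').symm
  haveI hW : Module.Finite K W := Module.Finite.of_submodule_quotient (LinearMap.ker δ')
  refine ⟨hW, ?_⟩
  have h5 := LinearMap.finrank_range_add_finrank_ker δ'
  have h6 : Module.finrank K (LinearMap.range δ') = Module.finrank K O₂ := by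
    rw [LinearMap.range_eq_top.mpr hδ', finrank_top]
  rw [hker] at h5
  omega

theorem kerCotangentToTensor_injective {A : Type u} [CommRing A] [IsLocalRing A]
    (σ : ResidueField A →+* A) (hσ : ∀ x, residue A (σ x) = x) :
    Function.Injective (KaehlerDifferential.kerCotangentToTensor ℤ A (ResidueField A)) := by
  have hsurj : Function.Surjective (algebraMap A (ResidueField A)) := residue_surjective
  let g : ResidueField A →ₐ[ℤ] A ⧸ (RingHom.ker (algebraMap A (ResidueField A))) ^ 2 :=
    ((Ideal.Quotient.mk _).comp σ).toIntAlgHom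
  have hg : (IsScalarTower.toAlgHom ℤ A (ResidueField A)).kerSquareLift.comp g =
      AlgHom.id ℤ (ResidueField A) := by
    ext x
    show (IsScalarTower.toAlgHom ℤ A (ResidueField A)).kerSquareLift
      (Ideal.Quotient.mk _ (σ x)) = x
    rw [AlgHom.kerSquareLift_mk]
    exact hσ x
  obtain ⟨l, hl⟩ := (_root_.retractionKerCotangentToTensorEquivSection
    (R := ℤ) hsurj).symm ⟨g, hg⟩
  exact Function.LeftInverse.injective (g := l) (fun x => LinearMap.congr_fun hl x)

theorem exists_coeffField {k₀ A : Type u} [Field k₀] [CommRing A] [IsLocalRing A] [Algebra k₀ A]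
    [IsAdicComplete (maximalIdeal A) A] :
    ∃ σ : ResidueField A →+* A, ∀ x, residue A (σ x) = x := by
  haveI hp : CharP k₀ (ringChar k₀) := ringChar.charP k₀
  haveI : CharP (ResidueField A) (ringChar k₀) :=
    charP_of_injective_algebraMap (algebraMap k₀ (ResidueField A)).injective (ringChar k₀)
  have h0 : ((ringChar k₀ : ℕ) : A) = 0 := by
    have h1 : ((ringChar k₀ : ℕ) : k₀) = 0 := CharP.cast_eq_zero k₀ (ringChar k₀)
    have h2 := congrArg (algebraMap k₀ A) h1
    rwa [map_natCast, map_zero] at h2
  obtain ⟨g, hg⟩ := Groth.Agent.Lib.Helper49.CoeffField.exists_lift (ringChar k₀) h0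
    (maximalIdeal A) (RingHom.id (ResidueField A) : ResidueField A →+* A ⧸ maximalIdeal A)
  exact ⟨g, fun x => RingHom.congr_fun hg x⟩

end Groth.Agent.Lib.Helper49.OmegaHat
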