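import Mathlib
import Groth.Agent.Lib.Helper49.OmegaHat4
import Groth.Agent.Lib.Helper49.FSJacobi2
import Groth.Agent.S2469
set_option autoImplicit false
set_option linter.style.haveILetI false
set_option linter.unusedSectionVars false
universe u
namespace Groth.Agent.Lib.Helper49.OmegaHat
open IsLocalRing TensorProduct KaehlerDifferential

theorem cotEquivOfEq_exists {A : Type*} [CommRing A] (I J : Ideal A) (h : I = J) :
    ∃ e : I.Cotangent ≃ₗ[A] J.Cotangent,
      ∀ x : I, e (I.toCotangent x) = J.toCotangent ⟨x.1, h ▸ x.2⟩ := by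
  subst h
  exact ⟨LinearEquiv.refl _ _, fun x => rfl⟩

theorem finrank_tensor_kaehler {k₀ A : Type u} [Field k₀] [CommRing A] [IsLocalRing A]
    [IsNoetherianRing A] [Algebra k₀ A] [IsAdicComplete (maximalIdeal A) A]
    (hfs : CAlgX.IsAdicFormallySmooth k₀ A (maximalIdeal A))
    [Algebra.EssFiniteType k₀ (ResidueField A)] :
    Module.Finite (ResidueField A) (ResidueField A ⊗[A] Ω[A⁄k₀]) ∧
    ((Module.finrank (ResidueField A) (ResidueField A ⊗[A] Ω[A⁄k₀]) : ℕ) : WithBot ℕ∞) =
      ringKrullDim A + ((Cardinal.toNat (Algebra.trdeg k₀ (ResidueField A)) : ℕ) : WithBot ℕ∞) := by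
  obtain ⟨hreg, hinj⟩ :=
    Groth.Agent.Lib.Helper49.FSJacobi.isAdicFormallySmooth_iff_regular_and_injective.mp hfs
  obtain ⟨σ, hσ⟩ := exists_coeffField (k₀ := k₀) (A := A)
  have hγinj := kerCotangentToTensor_injective σ hσ
  have hres : Function.Surjective (algebraMap A (ResidueField A)) := residue_surjective
  have hkerI : RingHom.ker (algebraMap A (ResidueField A)) = maximalIdeal A := ker_residue
  obtain ⟨e, he⟩ := cotEquivOfEq_exists _ _ hkerI
  let α : ResidueField A ⊗[A] (A ⊗[k₀] Ω[k₀⁄ℤ]) →ₗ[ResidueField A] ResidueField A ⊗[A] Ω[A⁄ℤ] :=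
    (mapBaseChange ℤ k₀ A).baseChange (ResidueField A)
  let β : ResidueField A ⊗[A] Ω[A⁄ℤ] →ₗ[ResidueField A] ResidueField A ⊗[A] Ω[A⁄k₀] :=
    (KaehlerDifferential.map ℤ k₀ A A).baseChange (ResidueField A)
  let γ : CotangentSpace A →ₗ[ResidueField A] ResidueField A ⊗[A] Ω[A⁄ℤ] :=
    ((kerCotangentToTensor ℤ A (ResidueField A)) ∘ₗ e.symm.toLinearMap).extendScalarsOfSurjective hres
  let γ' : CotangentSpace A →ₗ[ResidueField A] ResidueField A ⊗[A] Ω[A⁄k₀] :=
    ((kerCotangentToTensor k₀ A (ResidueField A)) ∘ₗ e.symm.toLinearMap).extendScalarsOfSurjective hres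
  let δ : ResidueField A ⊗[A] Ω[A⁄ℤ] →ₗ[ResidueField A] Ω[ResidueField A⁄ℤ] :=
    mapBaseChange ℤ A (ResidueField A)
  let δ' : ResidueField A ⊗[A] Ω[A⁄k₀] →ₗ[ResidueField A] Ω[ResidueField A⁄k₀] :=
    mapBaseChange k₀ A (ResidueField A)
  have hα : Function.Injective α := hinj
  have hαβ : Function.Exact α β :=
    lTensor_exact (ResidueField A) (exact_mapBaseChange_map ℤ k₀ A)
      (KaehlerDifferential.map_surjective ℤ k₀ A)
  have hγ : Function.Injective γ := hγinj.comp e.symm.injective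
  have hγδ : Function.Exact γ δ := by
    intro v
    rw [exact_kerCotangentToTensor_mapBaseChange ℤ A (ResidueField A) hres v]
    constructor
    · rintro ⟨x, rfl⟩
      exact ⟨e x, by show kerCotangentToTensor ℤ A (ResidueField A) (e.symm (e x)) = _; rw [e.symm_apply_apply]⟩
    · rintro ⟨c, rfl⟩
      exact ⟨e.symm c, rfl⟩
  have hγδ' : Function.Exact γ' δ' := by
    intro v
    rw [exact_kerCotangentToTensor_mapBaseChange k₀ A (ResidueField A) hres v]
    constructor
    · rintro ⟨x, rfl⟩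
      exact ⟨e x, by show kerCotangentToTensor k₀ A (ResidueField A) (e.symm (e x)) = _; rw [e.symm_apply_apply]⟩
    · rintro ⟨c, rfl⟩
      exact ⟨e.symm c, rfl⟩
  have hβγ : ∀ c, β (γ c) = γ' c := by
    intro c
    obtain ⟨x, rfl⟩ := e.surjective c
    obtain ⟨y, rfl⟩ := Ideal.toCotangent_surjective _ x
    show β (kerCotangentToTensor ℤ A (ResidueField A) (e.symm (e (Ideal.toCotangent _ y)))) =
      kerCotangentToTensor k₀ A (ResidueField A) (e.symm (e (Ideal.toCotangent _ y)))
    rw [e.symm_apply_apply, kerCotangentToTensor_toCotangent, kerCotangentToTensor_toCotangent]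
    show (KaehlerDifferential.map ℤ k₀ A A).baseChange (ResidueField A) _ = _
    rw [LinearMap.baseChange_tmul, KaehlerDifferential.map_D]
    rfl
  have hδ' : Function.Surjective δ' := mapBaseChange_surjective k₀ A (ResidueField A) hres
  obtain ⟨hΩfin, hΥfin, hcartier⟩ := Groth.Agent.S2469.result (K := k₀) (L := ResidueField A)
  obtain ⟨hWfin, hcount⟩ := count α β γ γ' δ δ' hα hαβ hγ hγδ hβγ hγδ' hδ'
  refine ⟨hWfin, ?_⟩
  let c := AlgebraTensorModule.cancelBaseChange k₀ A (ResidueField A) (ResidueField A) Ω[k₀⁄ℤ]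
  have hcomp : δ ∘ₗ α = (mapBaseChange ℤ k₀ (ResidueField A)) ∘ₗ c.toLinearMap := by
    apply LinearMap.ext_on (Groth.Agent.Lib.Helper49.KaehlerResidue.span_eX (k := k₀) (A := A))
    rintro _ ⟨x, rfl⟩
    rw [LinearMap.comp_apply, LinearMap.comp_apply]
    show δ ((mapBaseChange ℤ k₀ A).lTensor (ResidueField A)
      (Groth.Agent.Lib.Helper49.KaehlerResidue.eX k₀ A x)) = _
    rw [Groth.Agent.Lib.Helper49.KaehlerResidue.map_eX]
    show mapBaseChange ℤ A (ResidueField A) _ = mapBaseChange ℤ k₀ (ResidueField A)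
      (c ((1 : ResidueField A) ⊗ₜ[A] ((1 : A) ⊗ₜ[k₀] D ℤ k₀ x)))
    rw [AlgebraTensorModule.cancelBaseChange_tmul, one_smul, mapBaseChange_tmul, mapBaseChange_tmul,
      one_smul, one_smul, KaehlerDifferential.map_D, KaehlerDifferential.map_D,
      ← IsScalarTower.algebraMap_apply]
  have hΥ : Module.finrank (ResidueField A) (LinearMap.ker (δ ∘ₗ α)) =
      Module.finrank (ResidueField A) (EGA41.imperfection ℤ k₀ (ResidueField A)) := by
    rw [hcomp, LinearMap.ker_comp]
    exact (LinearEquiv.ofSubmodule' c (EGA41.imperfection ℤ k₀ (ResidueField A))).finrank_eq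
  have hdim := (IsRegularLocalRing.iff_finrank_cotangentSpace A).mp hreg
  rw [hΥ] at hcount
  have hr : Module.finrank (ResidueField A) (ResidueField A ⊗[A] Ω[A⁄k₀]) =
      Module.finrank (ResidueField A) (CotangentSpace A) +
        Cardinal.toNat (Algebra.trdeg k₀ (ResidueField A)) := by
    have key : ∀ (b y d x t : ℕ), b + y = d + x → (x : ℤ) - y = t → b = d + t := by
      intros
      omega
    exact key _ _ _ _ _ hcount hcartier
  rw [hr, ← hdim]
  push_cast
  rfl

end Groth.Agent.Lib.Helper49.OmegaHat
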