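import Mathlib
set_option autoImplicit false
universe u
open TensorProduct IsLocalRing CategoryTheory AlgebraicGeometry
open scoped Pointwise

namespace Groth.Agent.Lib.Helper49.PrimID1

section
variable {A' B' : Type u} [CommRing A'] [CommRing B'] [Algebra A' B']
    {N : Type u} [AddCommGroup N] [Module B' N] [Module A' N] [IsScalarTower A' B' N]

theorem smul_mk (S : Submonoid B') (a : A') (n : N) (s : S) :
    a • LocalizedModule.mk n s = LocalizedModule.mk (a • n) s := by
  rw [← OreLocalization.smul_one_smul, ← Algebra.algebraMap_eq_smul_one, LocalizedModule.smul'_mk,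
    algebraMap_smul]

theorem smul_mem_of_mem (I : Ideal A') (b : B') {n : N}
    (hn : n ∈ I • (⊤ : Submodule A' N)) : b • n ∈ I • (⊤ : Submodule A' N) := by
  refine Submodule.smul_induction_on hn ?_ ?_
  · intro a ha n _
    rw [smul_comm]
    exact Submodule.smul_mem_smul ha trivial
  · intro x y hx hy
    rw [smul_add]; exact add_mem hx hy

theorem mk_mem_of_mem (S : Submonoid B') (I : Ideal A') {n : N}
    (hn : n ∈ I • (⊤ : Submodule A' N)) (s : S) :
    LocalizedModule.mk n s ∈ I • (⊤ : Submodule A' (LocalizedModule S N)) := by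
  refine Submodule.smul_induction_on hn ?_ ?_
  · intro a ha n _
    rw [← smul_mk]
    exact Submodule.smul_mem_smul ha trivial
  · intro x y hx hy
    have : LocalizedModule.mk (x + y) s = LocalizedModule.mk x s + LocalizedModule.mk y s := by
      rw [LocalizedModule.mk_add_mk, ← smul_add, LocalizedModule.mk_cancel_common_left]
    rw [this]; exact add_mem hx hy

theorem mk_mem_smul_top_iff (S : Submonoid B') (I : Ideal A') (z : N) :
    LocalizedModule.mkLinearMap S N z ∈ I • (⊤ : Submodule A' (LocalizedModule S N)) ↔
      ∃ s ∈ S, s • z ∈ I • (⊤ : Submodule A' N) := by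
  constructor
  · intro h
    have key : ∀ x ∈ I • (⊤ : Submodule A' (LocalizedModule S N)),
        ∃ n ∈ I • (⊤ : Submodule A' N), ∃ s : S, x = LocalizedModule.mk n s := by
      intro x hx
      refine Submodule.smul_induction_on hx ?_ ?_
      · intro a ha x _
        induction x using LocalizedModule.induction_on with
        | h n s =>
          exact ⟨a • n, Submodule.smul_mem_smul ha trivial, s, smul_mk S a n s⟩
      · rintro x y ⟨n1, hn1, s1, rfl⟩ ⟨n2, hn2, s2, rfl⟩
        refine ⟨(s2 : B') • n1 + (s1 : B') • n2, add_mem (smul_mem_of_mem I _ hn1)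
          (smul_mem_of_mem I _ hn2), s1 * s2, ?_⟩
        rw [LocalizedModule.mk_add_mk]
        rfl
    obtain ⟨n, hn, s, hs⟩ := key _ h
    rw [LocalizedModule.mkLinearMap_apply, LocalizedModule.mk_eq] at hs
    obtain ⟨u, hu⟩ := hs
    refine ⟨(u : B') * (s : B'), S.mul_mem u.2 s.2, ?_⟩
    have : ((u : B') * (s : B')) • z = (u : B') • n := by
      have h1 : u • s • z = u • (1 : S) • n := hu
      simp only [Submonoid.smul_def, one_smul] at h1
      rw [mul_smul]; exact h1
    rw [this]
    exact smul_mem_of_mem I _ hn
  · rintro ⟨s, hs, h⟩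
    have : LocalizedModule.mkLinearMap S N z = LocalizedModule.mk (s • z) ⟨s, hs⟩ := by
      rw [LocalizedModule.mkLinearMap_apply]
      exact (LocalizedModule.mk_cancel (⟨s, hs⟩ : S) z).symm
    rw [this]
    exact mk_mem_of_mem S I h _

end

end Groth.Agent.Lib.Helper49.PrimID1
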