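import Mathlib
import Groth.Agent.Lib.Helper49.PrimID1
set_option autoImplicit false
universe u
open TensorProduct IsLocalRing CategoryTheory AlgebraicGeometry
open scoped Pointwise

namespace Groth.Agent.Lib.Helper49.PrimSAasm

theorem single_to_all_of_kv {A : Type u} [CommRing A] [IsLocalRing A] {B : Type u} [CommRing B] [Algebra A B] [IsNoetherianRing B] {M : Type u} [AddCommGroup M] [Module B M] [Module A M] [IsScalarTower A B M] [Module.Finite B M] (𝔭 : Ideal B) [𝔭.IsPrime] {A' : Type u} [CommRing A'] [IsLocalRing A'] [Algebra A A'] [IsLocalHom (algebraMap A A')] {B' : Type u} [CommRing B'] [Algebra A B'] [Algebra A' B'] [Algebra B B'] [IsScalarTower A A' B'] [IsScalarTower A B B'] [Algebra.IsPushout A A' B B'] (𝔮₀ : Ideal B') [𝔮₀.IsPrime]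
    (hKV : ∀ (s : B') (_ : s ∉ 𝔮₀) (z : B' ⊗[B] M) (_ : s • z ∈ maximalIdeal A' • (⊤ : Submodule A' (B' ⊗[B] M))), ∃ t : B, t ∉ 𝔭 ∧ algebraMap B B' t • z ∈ maximalIdeal A' • (⊤ : Submodule A' (B' ⊗[B] M)))
    (z : B' ⊗[B] M) (hz : LocalizedModule.mkLinearMap 𝔮₀.primeCompl (B' ⊗[B] M) z ∈ maximalIdeal A' • (⊤ : Submodule A' (LocalizedModule 𝔮₀.primeCompl (B' ⊗[B] M)))) (𝔮 : Ideal B') [𝔮.IsPrime] (h1' : 𝔮.comap (algebraMap B B') = 𝔭) : LocalizedModule.mkLinearMap 𝔮.primeCompl (B' ⊗[B] M) z ∈ maximalIdeal A' • (⊤ : Submodule A' (LocalizedModule 𝔮.primeCompl (B' ⊗[B] M))) := by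
  obtain ⟨s, hs, hsz⟩ := (Groth.Agent.Lib.Helper49.PrimID1.mk_mem_smul_top_iff _ _ z).mp hz
  obtain ⟨t, ht, htz⟩ := hKV s hs z hsz
  refine (Groth.Agent.Lib.Helper49.PrimID1.mk_mem_smul_top_iff _ _ z).mpr
    ⟨algebraMap B B' t, ?_, htz⟩
  intro hmem
  apply ht
  rw [← h1']
  exact hmem

end Groth.Agent.Lib.Helper49.PrimSAasm
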