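import Mathlib

set_option autoImplicit false
universe u

namespace Groth.Agent.Lib.Helper49.SmoothLift

open MvPolynomial

theorem isUnit_of_map_of_nilpotent_ker {S T : Type*} [CommRing S] [CommRing T] (q : S →+* T)
    (hq : Function.Surjective q) (hnil : IsNilpotent (RingHom.ker q)) {x : S}
    (hx : IsUnit (q x)) : IsUnit x := by
  rw [← IsNilpotent.isUnit_quotient_mk_iff hnil]
  let e := RingHom.quotientKerEquivOfSurjective hq
  have he : e (Ideal.Quotient.mk _ x) = q x := rfl
  have h1 : IsUnit (e (Ideal.Quotient.mk _ x)) := he ▸ hx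
  exact (isUnit_map_iff e _).mp h1

theorem exists_flat_lift {B' B P : Type u} [CommRing B'] [CommRing B] [CommRing P] [Algebra B P]
    (κ : B' →+* B) (hκ : Function.Surjective κ) (hsq : RingHom.ker κ ^ 2 = ⊥)
    [Algebra.IsStandardSmooth B P] :
    ∃ (P' : Type u) (_ : CommRing P') (_ : Algebra B' P') (q : P' →+* P),
      Module.Flat B' P' ∧ Function.Surjective q ∧
      (∀ b', q (algebraMap B' P' b') = algebraMap B P (κ b')) ∧
      RingHom.ker q = (RingHom.ker κ).map (algebraMap B' P') := by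
  classical
  obtain ⟨ι, σ, hσ, hι, ⟨𝓟⟩⟩ := Algebra.IsStandardSmooth.out (R := B) (S := P)
  haveI := hσ
  haveI := hι
  letI : Fintype σ := Fintype.ofFinite σ
  have hmapsurj : Function.Surjective (MvPolynomial.map κ : MvPolynomial ι B' →+* MvPolynomial ι B) :=
    MvPolynomial.map_surjective κ hκ
  choose v' hv' using fun j : σ => hmapsurj (𝓟.relation j)
  let φ : MvPolynomial ι B' →+* P :=
    ((aeval 𝓟.val : MvPolynomial ι B →ₐ[B] P) : MvPolynomial ι B →+* P).comp (MvPolynomial.map κ)
  have hφsurj : Function.Surjective φ := by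
    intro y
    obtain ⟨f, hf⟩ := 𝓟.aeval_val_surjective y
    obtain ⟨g, hg⟩ := hmapsurj f
    exact ⟨g, by simp [φ, hg, hf]⟩
  have hker𝓟 : ∀ f : MvPolynomial ι B, aeval 𝓟.val f = 0 ↔
      f ∈ Ideal.span (Set.range 𝓟.relation) := by
    intro f
    rw [𝓟.span_range_relation_eq_ker, Algebra.Generators.ker_eq_ker_aeval_val, RingHom.mem_ker]
  have hφv : ∀ f ∈ Ideal.span (Set.range v'), φ f = 0 := by
    intro f hf
    have h1 : Ideal.span (Set.range v') ≤ RingHom.ker φ := by
      rw [Ideal.span_le]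
      rintro _ ⟨j, rfl⟩
      rw [SetLike.mem_coe, RingHom.mem_ker]
      show aeval 𝓟.val (MvPolynomial.map κ (v' j)) = 0
      rw [hv' j, hker𝓟]
      exact Ideal.subset_span ⟨j, rfl⟩
    exact h1 hf
  let q : (MvPolynomial ι B' ⧸ Ideal.span (Set.range v')) →+* P :=
    Ideal.Quotient.lift _ φ hφv
  have hqmk : ∀ f, q (Ideal.Quotient.mk _ f) = φ f := fun f => Ideal.Quotient.lift_mk _ _ _
  have hqsurj : Function.Surjective q := by
    intro y
    obtain ⟨f, hf⟩ := hφsurj y
    exact ⟨Ideal.Quotient.mk _ f, by rw [hqmk, hf]⟩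
  have hqalg : ∀ b', q (algebraMap B' (MvPolynomial ι B' ⧸ Ideal.span (Set.range v')) b') =
      algebraMap B P (κ b') := by
    intro b'
    have h1 : algebraMap B' (MvPolynomial ι B' ⧸ Ideal.span (Set.range v')) b' =
        Ideal.Quotient.mk _ (C b') := rfl
    rw [h1, hqmk]
    simp [φ]
  have hkerq : RingHom.ker q = (RingHom.ker κ).map
      (algebraMap B' (MvPolynomial ι B' ⧸ Ideal.span (Set.range v'))) := by
    apply le_antisymm
    · intro x hx
      obtain ⟨f, rfl⟩ := Ideal.Quotient.mk_surjective x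
      rw [RingHom.mem_ker, hqmk] at hx
      have h1 : MvPolynomial.map κ f ∈ Ideal.span (Set.range 𝓟.relation) := (hker𝓟 _).mp hx
      have h2 : Ideal.span (Set.range 𝓟.relation) =
          (Ideal.span (Set.range v')).map (MvPolynomial.map κ) := by
        rw [Ideal.map_span]
        congr 1
        ext r
        constructor
        · rintro ⟨j, rfl⟩
          exact ⟨v' j, ⟨j, rfl⟩, hv' j⟩
        · rintro ⟨_, ⟨j, rfl⟩, rfl⟩
          exact ⟨j, (hv' j).symm⟩
      rw [h2, Ideal.mem_map_iff_of_surjective _ hmapsurj] at h1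
      obtain ⟨g, hg, hgf⟩ := h1
      have h3 : f - g ∈ RingHom.ker (MvPolynomial.map κ : MvPolynomial ι B' →+* MvPolynomial ι B) := by
        rw [RingHom.mem_ker, map_sub, hgf, sub_self]
      rw [MvPolynomial.ker_map] at h3
      have h4 : Ideal.Quotient.mk (Ideal.span (Set.range v')) f =
          Ideal.Quotient.mk (Ideal.span (Set.range v')) (f - g) := by
        rw [map_sub, Ideal.Quotient.eq_zero_iff_mem.mpr hg, sub_zero]
      rw [h4]
      have h5 : algebraMap B' (MvPolynomial ι B' ⧸ Ideal.span (Set.range v')) =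
          (Ideal.Quotient.mk (Ideal.span (Set.range v'))).comp C := rfl
      rw [h5, ← Ideal.map_map]
      exact Ideal.mem_map_of_mem _ h3
    · rw [Ideal.map_le_iff_le_comap]
      intro b' hb'
      rw [Ideal.mem_comap, RingHom.mem_ker, hqalg, (RingHom.mem_ker).mp hb', map_zero]
  have hnil : IsNilpotent (RingHom.ker q) := by
    refine ⟨2, ?_⟩
    rw [hkerq, ← Ideal.map_pow, hsq, Ideal.map_bot]
    rfl
  let 𝓠 : Algebra.PreSubmersivePresentation B'
      (MvPolynomial ι B' ⧸ Ideal.span (Set.range v')) ι σ :=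
    Algebra.PreSubmersivePresentation.naive (v := v') 𝓟.map 𝓟.map_inj
  have hjac : q 𝓠.jacobian = 𝓟.jacobian := by
    rw [Algebra.PreSubmersivePresentation.jacobian_eq_jacobiMatrix_det,
      Algebra.PreSubmersivePresentation.jacobian_eq_jacobiMatrix_det]
    have h1 : algebraMap 𝓠.Ring (MvPolynomial ι B' ⧸ Ideal.span (Set.range v'))
        𝓠.jacobiMatrix.det = Ideal.Quotient.mk _ 𝓠.jacobiMatrix.det := rfl
    rw [h1, hqmk]
    show aeval 𝓟.val (MvPolynomial.map κ 𝓠.jacobiMatrix.det) = _
    rw [Algebra.Generators.algebraMap_apply, RingHom.map_det]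
    congr 2
    refine Matrix.ext (fun i j => ?_)
    rw [RingHom.mapMatrix_apply, Matrix.map_apply]
    show MvPolynomial.map κ (𝓠.jacobiMatrix i j) = _
    rw [Algebra.PreSubmersivePresentation.jacobiMatrix_naive,
      Algebra.PreSubmersivePresentation.jacobiMatrix_apply, ← MvPolynomial.pderiv_map, hv' j]
  have hunit : IsUnit 𝓠.jacobian :=
    isUnit_of_map_of_nilpotent_ker q hqsurj hnil (hjac ▸ 𝓟.jacobian_isUnit)
  let 𝓢 : Algebra.SubmersivePresentation B'
      (MvPolynomial ι B' ⧸ Ideal.span (Set.range v')) ι σ :=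
    { 𝓠 with jacobian_isUnit := hunit }
  have hSS : Algebra.IsStandardSmooth B' (MvPolynomial ι B' ⧸ Ideal.span (Set.range v')) :=
    𝓢.isStandardSmooth
  haveI : Algebra.Smooth B' (MvPolynomial ι B' ⧸ Ideal.span (Set.range v')) := inferInstance
  exact ⟨MvPolynomial ι B' ⧸ Ideal.span (Set.range v'), inferInstance, inferInstance, q,
    inferInstance, hqsurj, hqalg, hkerq⟩

end Groth.Agent.Lib.Helper49.SmoothLift
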